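import Mathlib
import Cfsg.Agent.Lib.Solvable.Basic

/-!
# Bounds from a linear map conjugate to its square; pointwise stabilisers in `GL(n, 2)`

An endomorphism of multiplicative order `2^n - 1`, fixed-point-free and conjugate to its square,
lives on a space of order at least `(2^n + 1)^n`.
-/

set_option autoImplicit false
set_option linter.style.haveILetI false

namespace CfsgLib.LocalEven.StrongCore

open Polynomial

universe v

section Linear

variable {p : ℕ} [hp : Fact p.Prime] {V : Type v} [AddCommGroup V] [Module (ZMod p) V] [Finite V]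

/-- The roots of the minimal polynomial of a fixed-point-free endomorphism of order `r`. -/
theorem exists_root_of_fpf [Nontrivial V] {A : Module.End (ZMod p) V} {r : ℕ} (hr : 0 < r)
    (hA : A ^ r = 1) (hfpf : ∀ d, 0 < d → d < r → ∀ x : V, (A ^ d) x = x → x = 0) :
    ∃ μ : AlgebraicClosure (ZMod p), aeval μ (minpoly (ZMod p) A) = 0 ∧ orderOf μ = r := by
  set f := minpoly (ZMod p) A
  have hint : IsIntegral (ZMod p) A := Algebra.IsIntegral.isIntegral A
  obtain ⟨μ, hμ⟩ := IsAlgClosed.exists_aeval_eq_zero (AlgebraicClosure (ZMod p)) f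
    (Polynomial.degree_ne_of_natDegree_ne (minpoly.natDegree_pos hint).ne')
  have hdvd : ∀ P : (ZMod p)[X], aeval A P = 0 → aeval μ P = 0 := fun P hP => by
    obtain ⟨c, rfl⟩ := minpoly.dvd (ZMod p) A hP
    rw [map_mul, hμ, zero_mul]
  refine ⟨μ, hμ, (orderOf_eq_iff hr).2 ⟨?_, fun d hd hd0 hμd => ?_⟩⟩
  · have h := hdvd (X ^ r - 1) (by rw [map_sub, map_pow, aeval_X, map_one, hA, sub_self])
    rwa [map_sub, map_pow, aeval_X, map_one, sub_eq_zero] at h
  set B : Module.End (ZMod p) V := A ^ d - 1 with hB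
  have hBinj : Function.Injective B := (injective_iff_map_eq_zero B).2 fun x hx =>
    hfpf d hd0 hd x (sub_eq_zero.1 hx)
  haveI : Finite (Module.End (ZMod p) V) := Finite.of_injective _ DFunLike.coe_injective
  obtain ⟨i, j, hne, hij⟩ := Finite.exists_ne_map_eq_of_infinite fun i : ℕ => B ^ i
  wlog hlt : i < j generalizing i j
  · exact this j i hne.symm hij.symm (lt_of_le_of_ne (not_lt.1 hlt) hne.symm)
  replace hij : B ^ i = B ^ j := hij
  have hinjp : ∀ m : ℕ, Function.Injective ⇑(B ^ m) := fun m => by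
    rw [Module.End.coe_pow]
    exact hBinj.iterate m
  have h1 : B ^ (j - i) = 1 := LinearMap.ext fun x => hinjp i <| by
    rw [← Module.End.mul_apply, ← pow_add, Nat.add_sub_cancel' hlt.le, ← hij]
    rfl
  have h2 := hdvd ((X ^ d - 1) ^ (j - i) - 1) (by
    rw [map_sub, map_pow, map_sub, map_pow, aeval_X, map_one, ← hB, h1, sub_self])
  rw [map_sub, map_pow, map_sub, map_pow, aeval_X, map_one, hμd, sub_self,
    zero_pow (Nat.sub_ne_zero_of_lt hlt), zero_sub, neg_eq_zero] at h2
  exact one_ne_zero h2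

/-- The minimal polynomial of an endomorphism conjugate to its square is closed under squaring the
roots. -/
theorem aeval_sq_eq_zero {A W : Module.End (ZMod p) V} (hW : Function.Injective W)
    (hWA : W * A = A * A * W) {μ : AlgebraicClosure (ZMod p)}
    (hμ : aeval μ (minpoly (ZMod p) A) = 0) : aeval (μ * μ) (minpoly (ZMod p) A) = 0 := by
  set f := minpoly (ZMod p) A with hf
  have hcomm : ∀ P : (ZMod p)[X], W * aeval A P = aeval (A * A) P * W := fun P => by
    induction P using Polynomial.induction_on' with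
    | add P Q hP hQ => rw [map_add, map_add, mul_add, add_mul, hP, hQ]
    | monomial m c =>
      have hsc : SemiconjBy W (A ^ m) ((A * A) ^ m) := (show SemiconjBy W A (A * A) from hWA).pow_right m
      rw [aeval_monomial, aeval_monomial, ← mul_assoc, ← Algebra.commutes, mul_assoc, hsc.eq,
        mul_assoc]
  have hzero : aeval (A * A) f = 0 := LinearMap.ext fun y => by
    obtain ⟨x, rfl⟩ := (Finite.injective_iff_surjective.1 hW) y
    rw [← Module.End.mul_apply, ← hcomm, hf, minpoly.aeval, mul_zero]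
    rfl
  have h2 : aeval A (f.comp (X * X)) = 0 := by
    rw [aeval_comp, map_mul, aeval_X, hzero]
  obtain ⟨c, hc⟩ := minpoly.dvd (ZMod p) A h2
  have h3 := congrArg (aeval μ) hc
  rwa [map_mul, hμ, zero_mul, aeval_comp, map_mul, aeval_X] at h3

theorem aeval_pow_char_eq_zero {f : (ZMod p)[X]} {μ : AlgebraicClosure (ZMod p)}
    (hμ : aeval μ f = 0) : aeval (μ ^ p) f = 0 := by
  rw [← expand_aeval, ZMod.expand_card, map_pow, hμ, zero_pow hp.out.ne_zero]

/-- An endomorphism of order `2^n - 1`, fixed-point-free and conjugate to its square. -/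
theorem pow_le_card [Nontrivial V] (hp2 : p ≠ 2) {n : ℕ} (hn : 2 ≤ n) (hpr : ¬ p ∣ 2 ^ n - 1)
    {A W : Module.End (ZMod p) V} (hA : A ^ (2 ^ n - 1) = 1)
    (hfpf : ∀ d, 0 < d → d < 2 ^ n - 1 → ∀ x : V, (A ^ d) x = x → x = 0)
    (hW : Function.Injective W) (hWA : W * A = A * A * W) :
    (2 ^ n + 1) ^ n ≤ Nat.card V := by
  classical
  set r := 2 ^ n - 1 with hr
  have h4 : 2 ^ 2 ≤ 2 ^ n := Nat.pow_le_pow_right two_pos hn
  have hr0 : 0 < r := by omega
  haveI : NeZero r := ⟨hr0.ne'⟩
  obtain ⟨μ, hμ, hμo⟩ := exists_root_of_fpf hr0 hA hfpf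
  set f := minpoly (ZMod p) A with hf
  have hroot : ∀ i j : ℕ, aeval (μ ^ (2 ^ i * p ^ j)) f = 0 := by
    intro i j
    induction j with
    | zero =>
      induction i with
      | zero => simpa using hμ
      | succ i ih =>
        have := aeval_sq_eq_zero hW hWA ih
        rwa [← pow_two, ← pow_mul, show 2 ^ i * p ^ 0 * 2 = 2 ^ (i + 1) * p ^ 0 by ring] at this
    | succ j ih =>
      have := aeval_pow_char_eq_zero ih
      rwa [← pow_mul, show 2 ^ i * p ^ j * p = 2 ^ i * p ^ (j + 1) by ring] at this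
  -- the least power of `p` in the group generated by `2`
  have hpow2 : ((2 : ℕ) : ZMod r) ^ n = 1 := by
    rw [← Nat.cast_pow, show 2 ^ n = r + 1 by omega, Nat.cast_add, ZMod.natCast_self, zero_add,
      Nat.cast_one]
  have hex : ∃ e, 0 < e ∧ ∃ i < n, (p : ZMod r) ^ e = ((2 : ℕ) : ZMod r) ^ i := by
    refine ⟨Nat.totient r, Nat.totient_pos.2 hr0, 0, by omega, ?_⟩
    rw [pow_zero, ← Nat.cast_pow, ← Nat.cast_one (R := ZMod r), ZMod.natCast_eq_natCast_iff]
    exact Nat.ModEq.pow_totient (hp.out.coprime_iff_not_dvd.2 hpr)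
  set e := Nat.find hex
  obtain ⟨he, i₀, hi₀, hei⟩ := Nat.find_spec hex
  have hsmall : ∀ i < n, 2 ^ i < r := fun i hi => by
    have : 2 ^ i * 2 ≤ 2 ^ n := by
      rw [← pow_succ]
      exact Nat.pow_le_pow_right two_pos hi
    omega
  have hpe : 2 ^ n + 1 ≤ p ^ e := by
    rw [← Nat.cast_pow, ← Nat.cast_pow, ZMod.natCast_eq_natCast_iff', Nat.mod_eq_of_lt (hsmall _ hi₀)]
      at hei
    have hodd : Odd (p ^ e) := (hp.out.odd_of_ne_two hp2).pow
    have h1 : 1 < p ^ e := Nat.one_lt_pow he.ne' hp.out.one_lt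
    have hdiv := Nat.div_add_mod (p ^ e) r
    rw [hei] at hdiv
    have hq : p ^ e / r ≠ 0 := fun h0 => by
      rw [h0, mul_zero, zero_add] at hdiv
      rcases i₀ with _ | i
      · simp at hdiv; omega
      · exact Nat.not_even_iff_odd.2 hodd (hdiv ▸ Nat.even_pow.2 ⟨even_two, i.succ_ne_zero⟩)
    by_contra hlt
    obtain ⟨c, hc⟩ : ∃ c, p ^ e / r = c := ⟨_, rfl⟩
    rw [hc] at hdiv hq
    have hq1 : c = 1 := by
      rcases Nat.lt_or_ge c 2 with h | h
      · omega
      · have : r * 2 ≤ r * c := Nat.mul_le_mul_left r h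
        omega
    rw [hq1, mul_one] at hdiv
    rcases i₀ with _ | i
    · rw [pow_zero] at hdiv
      refine Nat.not_even_iff_odd.2 hodd ?_
      rw [show p ^ e = 2 ^ n by omega]
      exact Nat.even_pow.2 ⟨even_two, by omega⟩
    · have h2 : 2 ≤ 2 ^ (i + 1) := by
        calc 2 = 2 ^ 1 := rfl
          _ ≤ 2 ^ (i + 1) := Nat.pow_le_pow_right two_pos (by omega)
      omega
  -- the roots are distinct
  have h2u : IsUnit ((2 : ℕ) : ZMod r) := .of_pow_eq_one hpow2 (by omega)
  have hpu : IsUnit (p : ZMod r) := (ZMod.isUnit_iff_coprime p r).2 (hp.out.coprime_iff_not_dvd.2 hpr)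
  have hinj2 : ∀ i < n, ∀ i' < n, ((2 : ℕ) : ZMod r) ^ i = ((2 : ℕ) : ZMod r) ^ i' → i = i' := by
    intro i hi i' hi' h
    rw [← Nat.cast_pow, ← Nat.cast_pow, ZMod.natCast_eq_natCast_iff', Nat.mod_eq_of_lt (hsmall i hi),
      Nat.mod_eq_of_lt (hsmall i' hi')] at h
    exact Nat.pow_right_injective le_rfl h
  have hkey : ∀ i < n, ∀ i' < n, ∀ j j' : ℕ, j ≤ j' → j' < e →
      ((2 : ℕ) : ZMod r) ^ i * (p : ZMod r) ^ j = ((2 : ℕ) : ZMod r) ^ i' * (p : ZMod r) ^ j' →
        i = i' ∧ j = j' := by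
    intro i hi i' hi' j j' hjj hj' h
    obtain ⟨d, rfl⟩ := Nat.exists_eq_add_of_le hjj
    rw [pow_add, ← mul_assoc, mul_right_comm, (hpu.pow j).mul_left_inj] at h
    rcases Nat.eq_zero_or_pos d with rfl | hd
    · rw [pow_zero, mul_one] at h
      exact ⟨hinj2 i hi i' hi' h, rfl⟩
    exfalso
    refine Nat.find_min hex (show d < e by omega) ⟨hd, (i + (n - i')) % n, Nat.mod_lt _ (by omega), ?_⟩
    refine (h2u.pow i').mul_left_cancel ?_
    rw [← h, ← pow_add, pow_eq_pow_mod (i' + (i + (n - i')) % n) hpow2, Nat.add_mod_mod,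
      show i' + (i + (n - i')) = i + n by omega, Nat.add_mod_right]
    exact pow_eq_pow_mod i hpow2
  set φ : Fin n × Fin e → AlgebraicClosure (ZMod p) := fun x => μ ^ (2 ^ (x.1 : ℕ) * p ^ (x.2 : ℕ))
  have hμr : μ ^ r = 1 := hμo ▸ pow_orderOf_eq_one μ
  have hμ0 : μ ≠ 0 := fun h => by
    rw [h, zero_pow hr0.ne'] at hμr
    exact zero_ne_one hμr
  have hφ : Function.Injective φ := by
    rintro ⟨i, j⟩ ⟨i', j'⟩ h
    set ν := Units.mk0 μ hμ0
    have hν : ν ^ (2 ^ (i : ℕ) * p ^ (j : ℕ)) = ν ^ (2 ^ (i' : ℕ) * p ^ (j' : ℕ)) := Units.ext (by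
      rw [Units.val_pow_eq_pow_val, Units.val_pow_eq_pow_val]; exact h)
    rw [pow_eq_pow_iff_modEq, show orderOf ν = r from orderOf_units.symm.trans hμo,
      ← ZMod.natCast_eq_natCast_iff, Nat.cast_mul, Nat.cast_mul, Nat.cast_pow, Nat.cast_pow,
      Nat.cast_pow, Nat.cast_pow] at hν
    rcases le_total (j : ℕ) j' with hjj | hjj
    · obtain ⟨h1, h2⟩ := hkey i i.2 i' i'.2 j j' hjj j'.2 hν
      exact Prod.ext (Fin.ext h1) (Fin.ext h2)
    · obtain ⟨h1, h2⟩ := hkey i' i'.2 i i.2 j' j hjj j.2 hν.symm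
      exact Prod.ext (Fin.ext h1.symm) (Fin.ext h2.symm)
  haveI : FiniteDimensional (ZMod p) V := Module.Finite.of_finite
  have hcount : n * e ≤ Module.finrank (ZMod p) V := by
    have h1 : Set.range φ ⊆ f.rootSet (AlgebraicClosure (ZMod p)) := by
      rintro _ ⟨x, rfl⟩
      exact (mem_rootSet_of_ne (minpoly.ne_zero (Algebra.IsIntegral.isIntegral A))).2 (hroot _ _)
    have h2 := Set.ncard_le_ncard h1 (Polynomial.rootSet_finite _ _)
    rw [Set.ncard_range_of_injective hφ, Nat.card_prod, Nat.card_fin, Nat.card_fin] at h2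
    refine h2.trans ((Polynomial.ncard_rootSet_le f _).trans ?_)
    rw [← LinearMap.charpoly_natDegree (f := A)]
    exact natDegree_le_of_dvd (LinearMap.minpoly_dvd_charpoly A) (LinearMap.charpoly_monic A).ne_zero
  rw [Module.natCard_eq_pow_finrank (K := ZMod p) (V := V), Nat.card_zmod]
  calc (2 ^ n + 1) ^ n ≤ (p ^ e) ^ n := Nat.pow_le_pow_left hpe n
    _ = p ^ (n * e) := by rw [← pow_mul, mul_comm]
    _ ≤ _ := Nat.pow_le_pow_right hp.out.pos hcount

omit [Finite V] in
/-- Additive endomorphisms are linear over the prime field. -/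
theorem exists_endHom : ∃ φ : AddMonoid.End V →* Module.End (ZMod p) V,
    ∀ (f : AddMonoid.End V) (x : V), φ f x = f x :=
  ⟨{ toFun := fun f => { toFun := f, map_add' := map_add f, map_smul' := ZMod.map_smul f }
     map_one' := LinearMap.ext fun _ => rfl
     map_mul' := fun _ _ => LinearMap.ext fun _ => rfl }, fun _ _ => rfl⟩

/-- The bound for additive endomorphisms. -/
theorem pow_le_card_end [Nontrivial V] (hp2 : p ≠ 2) {n : ℕ} (hn : 2 ≤ n)
    (hpr : ¬ p ∣ 2 ^ n - 1) {A W : AddMonoid.End V} (hA : A ^ (2 ^ n - 1) = 1)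
    (hfpf : ∀ d, 0 < d → d < 2 ^ n - 1 → ∀ x : V, (A ^ d) x = x → x = 0)
    (hW : Function.Injective W) (hWA : W * A = A * A * W) : (2 ^ n + 1) ^ n ≤ Nat.card V := by
  obtain ⟨φ, hφ⟩ := exists_endHom (p := p) (V := V)
  refine pow_le_card hp2 hn hpr (A := φ A) (W := φ W) ?_ ?_ ?_ ?_
  · rw [← map_pow, hA, map_one]
  · intro d hd0 hd x hx
    rw [← map_pow, hφ] at hx
    exact hfpf d hd0 hd x hx
  · intro x y h
    rw [hφ, hφ] at h
    exact hW h
  · rw [← map_mul, ← map_mul, ← map_mul, hWA]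

end Linear

/-- The same bound for automorphisms of an elementary abelian group. -/
theorem pow_le_card_mulAut {p : ℕ} [Fact p.Prime] {M : Type v} [CommGroup M] [Finite M]
    [Nontrivial M] (hM : ∀ x : M, x ^ p = 1) (hp2 : p ≠ 2) {n : ℕ} (hn : 2 ≤ n)
    (hpr : ¬ p ∣ 2 ^ n - 1) {A W : MulAut M} (hA : A ^ (2 ^ n - 1) = 1)
    (hfpf : ∀ d, 0 < d → d < 2 ^ n - 1 → ∀ x : M, (A ^ d) x = x → x = 1)
    (hWA : W * A = A * A * W) : (2 ^ n + 1) ^ n ≤ Nat.card M := by
  haveI : Nontrivial (Additive M) := inferInstanceAs (Nontrivial M)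
  haveI : Finite (Additive M) := inferInstanceAs (Finite M)
  let τ : MulAut M →* AddMonoid.End (Additive M) :=
    { toFun := fun f => MonoidHom.toAdditive f.toMonoidHom
      map_one' := rfl
      map_mul' := fun _ _ => rfl }
  have hval : ∀ (f : MulAut M) (x : Additive M), τ f x = Additive.ofMul (f x.toMul) :=
    fun _ _ => rfl
  refine @pow_le_card_end p _ (Additive M) _
    (AddCommGroup.zmodModule fun x => congrArg Additive.ofMul (hM x.toMul)) _ _ hp2 n hn hpr
    (τ A) (τ W) ?_ ?_ ?_ ?_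
  · rw [← map_pow, hA, map_one]
  · intro d hd0 hd x hx
    rw [← map_pow, hval] at hx
    exact congrArg Additive.ofMul (hfpf d hd0 hd x.toMul (congrArg Additive.toMul hx))
  · intro x y h
    rw [hval, hval] at h
    exact congrArg Additive.ofMul (W.injective (congrArg Additive.toMul h))
  · rw [← map_mul, ← map_mul, ← map_mul, hWA]


section Fixing

open Subgroup

/-- The bound on a pointwise stabiliser in the automorphisms of a group of exponent two. -/
theorem card_fixing_le {M : Type v} [Group M] [Finite M] (hM : ∀ x : M, x * x = 1) {n : ℕ}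
    (hn : Nat.card M = 2 ^ n) : ∀ (d k : ℕ) (V : Subgroup M), Nat.card V = 2 ^ k → n ≤ k + d →
      ∀ B : Subgroup (MulAut M), (∀ f ∈ B, ∀ x ∈ V, f x = x) →
        Nat.card B ≤ ∏ i ∈ Finset.Ico k n, (2 ^ n - 2 ^ i) := by
  classical
  haveI : Finite (MulAut M) := Finite.of_injective (fun f => (f : M → M)) DFunLike.coe_injective
  letI : CommGroup M :=
    { (inferInstance : Group M) with
      mul_comm := fun x y => by
        have hinv : ∀ z : M, z⁻¹ = z := fun z => inv_eq_of_mul_eq_one_right (hM z)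
        calc x * y = (x * y)⁻¹ := (hinv _).symm
          _ = y * x := by rw [mul_inv_rev, hinv, hinv] }
  intro d
  induction d with
  | zero =>
    intro k V hV hk B hB
    have hVtop : V = ⊤ := Subgroup.eq_top_of_le_card V (by
      rw [hn, hV]; exact Nat.pow_le_pow_right two_pos hk)
    have hBbot : B = ⊥ := (Subgroup.eq_bot_iff_forall _).2 fun f hf =>
      MulEquiv.ext fun x => hB f hf x (hVtop ▸ mem_top x)
    rw [hBbot, Subgroup.card_bot, Finset.Ico_eq_empty (by omega), Finset.prod_empty]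
  | succ d ih =>
    intro k V hV hk B hB
    by_cases hkn : n ≤ k
    · exact ih k V hV (by omega) B hB
    push Not at hkn
    obtain ⟨z, hz⟩ : ∃ z, z ∉ V := by
      by_contra hno
      push Not at hno
      rw [show V = ⊤ from eq_top_iff.2 fun x _ => hno x, Subgroup.card_top, hn] at hV
      exact (Nat.pow_lt_pow_right one_lt_two hkn).ne' hV
    have hz1 : z ≠ 1 := fun e => hz (e ▸ one_mem V)
    have hzo : Nat.card (zpowers z) = 2 := by
      rw [Nat.card_zpowers, orderOf_eq_prime (by rw [pow_two, hM]) hz1]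
    set V' := V ⊔ zpowers z with hV'
    have hV'c : Nat.card V' = 2 ^ (k + 1) := by
      have h := Solvable.Basic.card_sup_mul V (zpowers z)
      have hinf : V ⊓ zpowers z = ⊥ := by
        refine (Subgroup.eq_bot_iff_forall _).2 fun x hx => ?_
        obtain ⟨hxV, hxz⟩ := Subgroup.mem_inf.1 hx
        obtain ⟨i, rfl⟩ := mem_zpowers_iff.1 hxz
        rcases Int.even_or_odd i with ⟨m, rfl⟩ | ⟨m, rfl⟩
        · rw [zpow_add, ← mul_zpow, hM, one_zpow]
        · refine absurd ?_ hz
          rwa [zpow_add, two_mul, zpow_add, ← mul_zpow, hM, one_zpow, one_mul, zpow_one] at hxV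
      rw [hinf, Subgroup.card_bot, mul_one, hzo, hV, sup_comm] at h
      rw [hV', h, pow_succ, mul_comm]
    set S := MulAction.stabilizer B z with hS
    have hstab : Nat.card S ≤ ∏ i ∈ Finset.Ico (k + 1) n, (2 ^ n - 2 ^ i) := by
      rw [Nat.card_congr (S.equivMapOfInjective _ B.subtype_injective).toEquiv]
      refine ih (k + 1) V' hV'c (by omega) _ ?_
      rintro _ ⟨f, hf, rfl⟩ x hx
      have hle : V' ≤ (f : MulAut M).toMonoidHom.eqLocus (MonoidHom.id M) := by
        refine sup_le (fun y hy => hB _ f.2 y hy) (zpowers_le.2 ?_)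
        exact MulAction.mem_stabilizer_iff.1 hf
      exact hle hx
    have horb : Nat.card (MulAction.orbit B z) ≤ 2 ^ n - 2 ^ k := by
      have hsub : MulAction.orbit B z ⊆ (V : Set M)ᶜ := by
        rintro _ ⟨f, rfl⟩ hmem
        refine hz ?_
        have h1 := hB _ f.2 _ hmem
        have h2 : (f : MulAut M) z = z := (f : MulAut M).injective h1
        change (f : MulAut M) z ∈ V at hmem
        rwa [h2] at hmem
      rw [Nat.card_coe_set_eq]
      refine (Set.ncard_le_ncard hsub).trans ?_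
      rw [Set.ncard_compl, hn]
      change 2 ^ n - Nat.card V ≤ _
      rw [hV]
    rw [← Subgroup.index_mul_card S, MulAction.index_stabilizer, ← Nat.card_coe_set_eq,
      Finset.prod_eq_prod_Ico_succ_bot hkn]
    exact Nat.mul_le_mul horb hstab

end Fixing

end CfsgLib.LocalEven.StrongCore
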