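import Cfsg.Agent.Lib.LocalEven.StrongCore.Effective
import Cfsg.Agent.Lib.LocalEven.StrongCore.LinearBound

/-!
# An element of `D` acting on `K` as squaring

Either an inverted element of prime order is central in `D` or some element of `D` squares the
inverted elements; then the rank of `E` is odd and `R` is large.  The index `j` is at most
`mult H + 2`.
-/

set_option autoImplicit false
set_option linter.style.haveILetI false

namespace CfsgLib.LocalEven.StrongCore

open Subgroup MulAction CfsgLib.Involution.Dihedral CfsgLib.Involution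
  CfsgLib.LocalEven.BenderTransitive CfsgLib.LocalEven.SwapInjective

universe u

variable {G : Type u} [Group G] [Finite G] {H : Subgroup G}

/-- The index of `L` in `M` divides the number of points of an invariant set all of whose
centralisers in `M` lie in `L`. -/
theorem relIndex_dvd_card_of_centralizers {M L : Subgroup G} {Y : Set G}
    (hY : ∀ m ∈ M, ∀ v ∈ Y, m * v * m⁻¹ ∈ Y) (hL : ∀ m ∈ M, ∀ v ∈ Y, Commute m v → m ∈ L) :
    L.relIndex M ∣ Y.ncard := by
  classical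
  letI : MulAction M Y :=
    { smul := fun m v => ⟨(m : G) * v * (m : G)⁻¹, hY m m.2 v v.2⟩
      one_smul := fun v => Subtype.ext (by
        show ((1 : M) : G) * (v : G) * ((1 : M) : G)⁻¹ = v
        simp)
      mul_smul := fun m n v => Subtype.ext (by
        show ((m * n : M) : G) * (v : G) * ((m * n : M) : G)⁻¹ =
          (m : G) * ((n : G) * v * (n : G)⁻¹) * (m : G)⁻¹
        simp [mul_assoc]) }
  haveI := Fintype.ofFinite (MulAction.orbitRel.Quotient M Y)
  rw [← Nat.card_coe_set_eq, Nat.card_congr (MulAction.selfEquivSigmaOrbitsQuotientStabilizer M Y),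
    Nat.card_sigma]
  refine Finset.dvd_sum fun ω _ => Subgroup.index_dvd_of_le fun m hm => mem_subgroupOf.2 ?_
  exact hL m m.2 _ ω.out.2 (mul_inv_eq_iff_eq_mul.1
    (congrArg Subtype.val (MulAction.mem_stabilizer_iff.1 hm) :
      (m : G) * ω.out * (m : G)⁻¹ = ω.out))

namespace Setting

variable {a b : G ⧸ H} {u : G} {p : ℕ} {R : Subgroup G} (s : Setting a b u p R)

include s

theorem mult_eq {n : ℕ} (hn : Nat.card s.E = 2 ^ n) : 2 ≤ n ∧ mult H = 2 ^ n - 1 := by
  obtain ⟨m, hm2, hm⟩ := s.exists_card_E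
  have h : n = m := Nat.pow_right_injective le_rfl (hn.symm.trans hm)
  have hc := s.card_E
  exact ⟨h ▸ hm2, by omega⟩

theorem pow_mult_eq_one {k : G} (hk : k ∈ s.K) : k ^ mult H = 1 := by
  rw [← s.card_K]
  exact congrArg Subtype.val (pow_card_eq_one' (x := (⟨k, hk⟩ : s.K)))

/-- `D` acts on `K` by powers of squaring. -/
theorem exists_conj_K {n : ℕ} (hn : Nat.card s.E = 2 ^ n) {d : G} (hd : d ∈ stab2 a b) :
    ∃ i < n, ∀ k ∈ s.K, d * k * d⁻¹ = k ^ 2 ^ i := by
  classical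
  set π := s.conjE.rangeRestrict with hπ
  obtain ⟨t, ht, hta⟩ := SE.exists_involution_fixing s.min.se a
  set x : s.E := ⟨t, s.mem_E_of_involution ht hta⟩
  have hx1 : x ≠ 1 := fun e => ne_one ht (congrArg Subtype.val e)
  have hreg : ∀ y : s.E, y ≠ 1 →
      ∃ f ∈ Cfsg.fittingSubgroup s.conjE.range, (f : MulAut s.E) x = y := fun y hy => by
    have hy' : (y : G) ≠ 1 := fun e => hy (Subtype.ext e)
    obtain ⟨k, hk, hky⟩ := s.exists_K_conj ht hta (s.orderOf_of_mem_E y.2 hy') y.2.1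
    exact ⟨π ⟨k, s.K_le_D hk⟩, s.rangeRestrict_mem_fitting (i := ⟨k, s.K_le_D hk⟩) (s.mem_K.1 hk).2,
      Subtype.ext hky⟩
  obtain ⟨i, hin, hi⟩ := (s.oddTrans.field_facts hn).2 x hx1 hreg (π ⟨d, hd⟩)
  refine ⟨i, hin, fun k hk => ?_⟩
  have hkD := s.K_le_D hk
  have h := hi (π ⟨k, hkD⟩) (s.rangeRestrict_mem_fitting (i := ⟨k, hkD⟩) (s.mem_K.1 hk).2)
  rw [← map_inv, ← map_mul, ← map_mul, ← map_pow, ← mul_inv_eq_one, ← map_inv, ← map_mul] at h
  refine mul_inv_eq_one.1 (s.eq_one_of_K_W0 (mul_mem ?_ (inv_mem (pow_mem hk _)))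
    (s.rangeRestrict_eq_one.1 h))
  exact BenderTransitive.conj_mem_of_mem_normalizer (s.D_le_normalizer_K hd) hk

/-- A central inverted element of prime order, or an element squaring the inverted elements. -/
theorem central_or_square {n : ℕ} (hn : Nat.card s.E = 2 ^ n) :
    (∃ q : ℕ, q.Prime ∧ ∃ k ∈ s.K, orderOf k = q ∧ ∀ d ∈ stab2 a b, Commute d k) ∨
      ∃ w ∈ stab2 a b, ∀ k ∈ s.K, w * k * w⁻¹ = k * k := by
  classical
  obtain ⟨hn2, hr⟩ := s.mult_eq hn
  let S : ℕ → Prop := fun i => ∃ d ∈ stab2 a b, ∀ k ∈ s.K, d * k * d⁻¹ = k ^ 2 ^ i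
  have hpow : ∀ k ∈ s.K, k ^ 2 ^ n = k := fun k hk => by
    have h2 : 0 < 2 ^ n := by positivity
    rw [show 2 ^ n = mult H + 1 by omega, pow_succ, s.pow_mult_eq_one hk, one_mul]
  have hper : ∀ c : ℕ, ∀ k ∈ s.K, k ^ 2 ^ (n * c) = k := fun c k hk => by
    induction c with
    | zero => simp
    | succ c ih => rw [Nat.mul_succ, pow_add, pow_mul, ih, hpow k hk]
  have hadd : ∀ i j, S i → S j → S (i + j) := by
    rintro i j ⟨d, hd, hdi⟩ ⟨e, he, hej⟩
    refine ⟨d * e, mul_mem hd he, fun k hk => ?_⟩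
    rw [show d * e * k * (d * e)⁻¹ = d * (e * k * e⁻¹) * d⁻¹ by group, hej k hk,
      hdi _ (pow_mem hk _), ← pow_mul, ← pow_add, add_comm]
  have hmul : ∀ c i, S i → S (i * c) := fun c i hi => by
    induction c with
    | zero => exact ⟨1, one_mem _, fun k _ => by simp⟩
    | succ c ih => exact hadd _ _ ih hi
  have hsub : ∀ i c, S (i + n * c) → S i := by
    rintro i c ⟨d, hd, hdi⟩
    exact ⟨d, hd, fun k hk => by rw [hdi k hk, pow_add, pow_mul, hper c _ (pow_mem hk _)]⟩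
  have hex : ∃ i, 0 < i ∧ S i :=
    ⟨n, by omega, 1, one_mem _, fun k hk => by rw [hpow k hk]; simp⟩
  set g := Nat.find hex
  obtain ⟨hg0, hgS⟩ := Nat.find_spec hex
  have hdvd : ∀ i, S i → g ∣ i := fun i hi => by
    refine Nat.dvd_of_mod_eq_zero (by_contra fun h => ?_)
    refine Nat.find_min hex (Nat.mod_lt i hg0) ⟨Nat.pos_of_ne_zero h, hsub _ (g * (i / g)) ?_⟩
    have h1 := hadd _ _ hi (hmul ((i / g) * (n - 1)) _ hgS)
    obtain ⟨m, rfl⟩ : ∃ m, n = m + 1 := ⟨n - 1, by omega⟩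
    rw [Nat.add_sub_cancel] at h1
    rwa [show i % g + (m + 1) * (g * (i / g)) = i + g * ((i / g) * m) by
      conv_rhs => arg 1; rw [← Nat.mod_add_div i g]
      ring]
  rcases Nat.lt_or_ge g 2 with hg | hg
  · refine .inr ?_
    obtain ⟨w, hw, hwk⟩ := hgS
    refine ⟨w, hw, fun k hk => ?_⟩
    rw [hwk k hk, show Nat.find hex = 1 by omega, pow_one, pow_two]
  refine .inl ?_
  have h4 : 2 ^ 2 ≤ 2 ^ g := Nat.pow_le_pow_right two_pos hg
  obtain ⟨q, hq, hqg⟩ := Nat.exists_prime_and_dvd (n := 2 ^ g - 1) (by omega)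
  haveI := Fact.mk hq
  have hgn : g ∣ n := hdvd n ⟨1, one_mem _, fun k hk => by rw [hpow k hk]; simp⟩
  have hqr : q ∣ Nat.card s.K := by
    rw [s.card_K, hr]
    exact hqg.trans (Nat.pow_sub_one_dvd_pow_sub_one 2 hgn)
  obtain ⟨k, hk⟩ := exists_prime_orderOf_dvd_card' q hqr
  rw [← orderOf_coe] at hk
  refine ⟨q, hq, k, k.2, hk, fun d hd => ?_⟩
  obtain ⟨i, -, hi⟩ := s.exists_conj_K hn hd
  have hmod : 2 ^ i ≡ 1 [MOD q] :=
    ((Nat.modEq_iff_dvd' (Nat.one_le_two_pow)).2 (hqg.trans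
      (Nat.pow_sub_one_dvd_pow_sub_one 2 (hdvd i ⟨d, hd, hi⟩)))).symm
  have h := hi k k.2
  rw [pow_eq_pow_iff_modEq (x := (k : G)) (n := 2 ^ i) (m := 1) |>.2 (hk ▸ hmod), pow_one] at h
  exact mul_inv_eq_iff_eq_mul.1 h

/-- When an element squares the inverted elements the rank of `E` is odd. -/
theorem odd_rank {n : ℕ} (hn : Nat.card s.E = 2 ^ n) {w : G} (hw : w ∈ stab2 a b)
    (hwk : ∀ k ∈ s.K, w * k * w⁻¹ = k * k) : Odd n := by
  obtain ⟨hn2, hr⟩ := s.mult_eq hn
  haveI := s.isCyclic_K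
  obtain ⟨k, hk⟩ := IsCyclic.exists_ofOrder_eq_natCard (α := s.K)
  rw [← orderOf_coe, s.card_K] at hk
  have hit : ∀ j : ℕ, w ^ j * (k : G) * (w ^ j)⁻¹ = (k : G) ^ 2 ^ j := fun j => by
    induction j with
    | zero => simp
    | succ j ih =>
      calc w ^ (j + 1) * (k : G) * (w ^ (j + 1))⁻¹ = w * (w ^ j * k * (w ^ j)⁻¹) * w⁻¹ := by
            rw [pow_succ']; group
        _ = _ := by rw [ih, hwk _ (pow_mem k.2 _), ← pow_two, ← pow_mul, ← pow_succ]
  have h := hit (orderOf w)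
  rw [pow_orderOf_eq_one, one_mul, inv_one, mul_one] at h
  have hd : mult H ∣ 2 ^ orderOf w - 1 := by
    rw [← hk]
    refine (Nat.modEq_iff_dvd' Nat.one_le_two_pow).1 (pow_eq_pow_iff_modEq.1 ?_)
    rw [pow_one, ← h]
  rw [hr] at hd
  have hg := Nat.gcd_eq_left hd
  rw [Nat.pow_sub_one_gcd_pow_sub_one] at hg
  have h1 : 0 < 2 ^ n.gcd (orderOf w) := by positivity
  have h2 : 0 < 2 ^ n := by positivity
  have hgn : n.gcd (orderOf w) = n := Nat.pow_right_injective le_rfl (by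
    show 2 ^ n.gcd (orderOf w) = 2 ^ n
    omega)
  exact (s.odd_mem hw).of_dvd_nat (hgn ▸ Nat.gcd_dvd_right n (orderOf w))

/-- An element of the kernel centralising an element of `S0` outside `E` centralises `S0`. -/
theorem mem_C1_of_W0_commute (hsq : ∀ x ∈ s.S0, x * x ∈ s.E) {y : G} (hy : y ∈ s.W0) {v : G}
    (hv : v ∈ s.S0) (hvE : v ∉ s.E) (hyv : Commute y v) : y ∈ s.C1 := by
  have hodd : Odd (orderOf y) := s.odd_mem hy.1
  refine Subgroup.mem_inf.2 ⟨hy.1.1, mem_centralizer_iff.2 fun x hx => ?_⟩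
  set c := x⁻¹ * (y * x * y⁻¹) with hc
  have hyx : y * x * y⁻¹ ∈ s.S0 :=
    BenderTransitive.conj_mem_of_mem_normalizer (s.normalizer_S0 hy.1.1) hx
  have hcS : c ∈ s.S0 := mul_mem (inv_mem hx) hyx
  -- commutators lie in `E`
  have hcom : ∀ g ∈ s.S0, ∀ h ∈ s.S0, g * h * g⁻¹ * h⁻¹ ∈ s.E := fun g hg h hh => by
    rw [show g * h * g⁻¹ * h⁻¹ = (g * g) * ((g⁻¹ * h) * (g⁻¹ * h)) * (h⁻¹ * h⁻¹) by group]
    exact mul_mem (mul_mem (hsq g hg) (hsq _ (mul_mem (inv_mem hg) hh))) (hsq _ (inv_mem hh))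
  have hone : ∀ g ∈ s.S0, g ∉ s.E → g * g ≠ 1 := fun g hg hgE e =>
    hgE (s.mem_E.2 ⟨mem_stabilizer_iff.1 (s.S0_le hg), e⟩)
  have hyc : Commute y c := by
    by_cases hcE : c ∈ s.E
    · exact s.commute_W0_E hy hcE
    obtain ⟨k, hk, hkv⟩ := s.exists_K_conj (s.orderOf_of_mem_E (hsq v hv) (hone v hv hvE))
      (hsq v hv).1 (s.orderOf_of_mem_E (hsq c hcS) (hone c hcS hcE)) (hsq c hcS).1
    set v' := k * v * k⁻¹ with hv'
    have hv'S : v' ∈ s.S0 :=
      BenderTransitive.conj_mem_of_mem_normalizer (s.normalizer_S0 (s.K_le_D hk).1) hv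
    have hyv' : Commute y v' := by
      have hyk : Commute y k :=
        (s.commute_inverted_W0 (s.mem_K.1 hk).1 (s.mem_K.1 hk).2 hy).symm
      exact (hyk.mul_right hyv).mul_right hyk.inv_right
    have hsq' : v' * v' = c * c := by
      rw [← hkv, hv']; group
    set e := v' * x * v'⁻¹ * x⁻¹ with he
    have heE : e ∈ s.E := hcom v' hv'S x hx
    have he' : v' * (y * x * y⁻¹) * v'⁻¹ = e * (y * x * y⁻¹) := by
      calc v' * (y * x * y⁻¹) * v'⁻¹ = (v' * y) * x * (v' * y)⁻¹ := by group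
        _ = y * (e * x) * y⁻¹ := by rw [← hyv'.eq, he]; group
        _ = (y * e) * x * y⁻¹ := by group
        _ = _ := by rw [(s.commute_W0_E hy heE).eq]; group
    have hx' : v' * x⁻¹ * v'⁻¹ = x⁻¹ * e⁻¹ := by rw [he]; group
    have hv'c : Commute v' c := by
      refine mul_inv_eq_iff_eq_mul.1 ?_
      calc v' * c * v'⁻¹ = (v' * x⁻¹ * v'⁻¹) * (v' * (y * x * y⁻¹) * v'⁻¹) := by rw [hc]; group
        _ = c := by rw [hx', he', hc]; group
    set e' := v' * c⁻¹ with he'def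
    have he'E : e' ∈ s.E := by
      refine s.mem_E.2 ⟨mem_stabilizer_iff.1 (s.S0_le (mul_mem hv'S (inv_mem hcS))), ?_⟩
      rw [he'def, hv'c.symm.inv_left.mul_mul_mul_comm, hsq']
      group
    rw [show c = e'⁻¹ * v' by rw [he'def]; group]
    exact ((s.commute_W0_E hy he'E).inv_right).mul_right hyv'
  have hc1 : c = 1 := OddOrder.Stabilize.eq_one_of_conj_eq_mul
    (a := y) (h := x) (c := c) (by rw [hc, mul_inv_cancel_left]) hyc
    ((s.coprime_S0_of_odd hodd).coprime_dvd_right (Subgroup.orderOf_dvd_natCard _ hcS))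
  rw [hc, inv_mul_eq_one] at hc1
  exact (mul_inv_eq_iff_eq_mul.1 hc1.symm).symm

/-- The index of `C1 S0` in `C` is at most `mult H + 2`. -/
theorem jIndex_le : s.jIndex ≤ mult H + 2 := by
  classical
  by_cases hab : ∀ x ∈ s.S0, ∀ y ∈ s.S0, Commute x y
  · rw [jIndex, Subgroup.relIndex_eq_one.2 (s.C0_le_of_comm hab)]
    omega
  obtain ⟨hsq, hS0⟩ := (s.S0_cases).resolve_left hab
  obtain ⟨q, hq, hqd, k, hk, hko, hkinv⟩ := s.exists_inverted_ne
  haveI := Fact.mk hq
  have hk1 : k ≠ 1 := fun e => hq.ne_one (by rw [← hko, e, orderOf_one])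
  set M := s.C0 ⊓ centralizer ({k} : Set G) with hM
  set L := s.C1 ⊔ s.S0 with hL
  set Y : Set G := (s.S0 : Set G) \ (s.E : Set G) with hY
  have hYinv : ∀ g ∈ stabilizer G a, ∀ v ∈ Y, g * v * g⁻¹ ∈ Y := fun g hg v hv =>
    ⟨BenderTransitive.conj_mem_of_mem_normalizer (s.normalizer_S0 hg) hv.1, fun he => hv.2 (by
      have := BenderTransitive.conj_inv_mem_of_mem_normalizer (s.normalizer_E hg) he
      rwa [show g⁻¹ * (g * v * g⁻¹) * g = v by group] at this)⟩
  -- `M` covers `C / L`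
  have hrel : L.relIndex M = s.jIndex := by
    have hMn : M ≤ normalizer (L : Set G) :=
      inf_le_left.trans (inf_le_left.trans s.normalizer_C1_S0)
    haveI : (L.subgroupOf s.C0).Normal := (normal_subgroupOf_iff_le_normalizer
      (sup_le s.C1_le_C0 s.S0_le_C0)).2 (inf_le_left.trans s.normalizer_C1_S0)
    set f := (QuotientGroup.mk' (L.subgroupOf s.C0)).comp
      (Subgroup.inclusion (inf_le_left : M ≤ s.C0)) with hf
    have hfs : Function.Surjective f := by
      intro z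
      obtain ⟨⟨g, hg⟩, rfl⟩ := QuotientGroup.mk'_surjective _ z
      have hg' : g ∈ (↑(M ⊔ L) : Set G) := by
        have := s.C0_le_sup_centralizer hqd hk hko hkinv hg
        rwa [← hM, ← hL, sup_comm] at this
      rw [coe_mul_of_left_le_normalizer_right M L hMn] at hg'
      obtain ⟨m, hm, n, hn, rfl⟩ := hg'
      refine ⟨⟨m, hm⟩, QuotientGroup.eq.2 (mem_subgroupOf.2 ?_)⟩
      change m⁻¹ * (m * n) ∈ L
      rwa [inv_mul_cancel_left]
    have h1 := Subgroup.index_ker f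
    rw [MonoidHom.range_eq_top.2 hfs, Subgroup.card_top] at h1
    rw [jIndex]
    refine Eq.trans ?_ h1
    refine congrArg Subgroup.index ?_
    ext m
    rw [MonoidHom.mem_ker, hf, MonoidHom.comp_apply, QuotientGroup.mk'_apply,
      QuotientGroup.eq_one_iff]
    rfl
  -- no element of `M` outside `L` centralises an element of `Y`
  have hML : ∀ m ∈ M, ∀ v ∈ Y, Commute m v → m ∈ L := by
    intro m hm v hv hmv
    have hle : M ⊓ centralizer ({v} : Set G) ≤ L := le_of_primePow_mem fun ℓ hℓ z hz hzp => by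
      haveI := Fact.mk hℓ
      obtain ⟨hzM, hzv⟩ := Subgroup.mem_inf.1 hz
      obtain ⟨c, hc, hzc⟩ := exists_other_fixed s.min s.hab s.inv s.swap hk hkinv hk1 hzp
        (mem_centralizer_singleton_iff.1 hzM.2) (mem_stabilizer_iff.1 hzM.1.1)
      obtain ⟨g, hga, hgb⟩ := pairTransitive s.min.se s.min.comm a b c s.hab.symm hc
      have hgH : g ∈ stabilizer G a := mem_stabilizer_iff.2 hga
      set y := g⁻¹ * z * g with hy
      have hyW : y ∈ s.W0 := by
        refine Subgroup.mem_inf.2 ⟨mem_stab2.2 ⟨?_, ?_⟩, mem_centralizer_iff.2 fun e he => ?_⟩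
        · rw [hy, mul_smul, mul_smul, hga, mem_stabilizer_iff.1 hzM.1.1, inv_smul_eq_iff, hga]
        · rw [hy, mul_smul, mul_smul, hgb, hzc, inv_smul_eq_iff, hgb]
        · have h1 := mem_centralizer_iff.1 hzM.1.2 _
            (BenderTransitive.conj_mem_of_mem_normalizer (s.normalizer_E hgH) he)
          calc e * y = g⁻¹ * (g * e * g⁻¹ * z) * g := by rw [hy]; group
            _ = g⁻¹ * (z * (g * e * g⁻¹)) * g := by rw [h1]
            _ = y * e := by rw [hy]; group
      have hv' := hYinv g⁻¹ (inv_mem hgH) v hv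
      rw [inv_inv] at hv'
      have hyv : Commute y (g⁻¹ * v * g) := by
        have h2 : Commute z v := mem_centralizer_singleton_iff.1 hzv
        show y * (g⁻¹ * v * g) = g⁻¹ * v * g * y
        calc y * (g⁻¹ * v * g) = g⁻¹ * (z * v) * g := by rw [hy]; group
          _ = g⁻¹ * (v * z) * g := by rw [h2.eq]
          _ = _ := by rw [hy]; group
      have hy1 := s.mem_C1_of_W0_commute hsq hyW hv'.1 hv'.2 hyv
      refine mem_sup_left ?_
      have := BenderTransitive.conj_mem_of_mem_normalizer (s.normalizer_C1 hgH) hy1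
      rwa [show g * y * g⁻¹ = z by rw [hy]; group] at this
    exact hle ⟨hm, mem_centralizer_singleton_iff.2 hmv.eq⟩
  have hjY := relIndex_dvd_card_of_centralizers
    (M := M) (fun m hm => hYinv m hm.1.1) hML
  rw [hrel] at hjY
  have hrY : mult H ∣ Y.ncard := by
    rw [← s.card_K, ← Subgroup.relIndex_bot_left s.K]
    refine relIndex_dvd_card_of_centralizers (fun x hx => hYinv x (s.K_le_D hx).1)
      fun x hx v hv hxv => mem_bot.2 (by_contra fun hne => hv.2 ?_)
    rw [s.eq_one_of_S0_commute (s.mem_K.1 hx).1 (s.mem_K.1 hx).2 hne hv.1 hxv.symm]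
    exact one_mem _
  have hcard : Y.ncard = Nat.card s.S0 - Nat.card s.E := by
    rw [hY, Set.ncard_sdiff (SetLike.coe_subset_coe.2 s.E_le_S0), ← Nat.card_coe_set_eq,
      ← Nat.card_coe_set_eq]
    rfl
  set V := s.E.relIndex s.S0 with hVdef
  have hSV : Nat.card s.S0 = Nat.card s.E * V := by
    rw [hVdef, ← Subgroup.card_mul_index (s.E.subgroupOf s.S0),
      Nat.card_congr (subgroupOfEquivOfLe s.E_le_S0).toEquiv]
    rfl
  have hV1 : 1 < V := by
    by_contra hle
    refine hab fun x hx y hy => s.commute_E ?_ hy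
    have hV0 : V ≠ 0 := Subgroup.index_ne_zero_of_finite
    exact Subgroup.relIndex_eq_one.1 (by omega : s.E.relIndex s.S0 = 1) hx
  have hjr : s.jIndex * mult H ∣ Nat.card s.E * (V - 1) := by
    rw [Nat.mul_sub_one, ← hSV, ← hcard]
    exact s.jIndex_coprime.mul_dvd_of_dvd_of_dvd hjY hrY
  obtain ⟨n, hn2, hn⟩ := s.exists_card_E
  have hodd : Odd (s.jIndex * mult H) := by
    refine s.odd_jIndex_dvd.1.mul ?_
    obtain ⟨-, hr⟩ := s.mult_eq hn
    rw [hr]
    exact Nat.Even.sub_odd Nat.one_le_two_pow (Nat.even_pow.2 ⟨even_two, by omega⟩) odd_one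
  rw [hn] at hjr hSV hS0
  have hdvd : s.jIndex * mult H ∣ V - 1 :=
    ((Nat.coprime_two_right.2 hodd).pow_right n).dvd_of_dvd_mul_left hjr
  have hle := Nat.le_of_dvd (by omega) hdvd
  obtain ⟨-, hr⟩ := s.mult_eq hn
  have hn0 : 0 < 2 ^ n := by positivity
  have hVle : V ≤ 2 ^ n * 2 ^ n := by
    rw [hSV, pow_three] at hS0
    exact Nat.le_of_mul_le_mul_left hS0 hn0
  have h1 := one_lt_mult s.min
  refine Nat.le_of_mul_le_mul_right
    (show s.jIndex * mult H ≤ (mult H + 2) * mult H from ?_) (by omega)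
  rw [show 2 ^ n = mult H + 1 by omega] at hVle
  have : (mult H + 2) * mult H + 1 = (mult H + 1) * (mult H + 1) := by ring
  omega

/-- With an element squaring the inverted elements, `R` is large. -/
theorem pow_le_card_R {n : ℕ} (hn : Nat.card s.E = 2 ^ n) {w : G} (hw : w ∈ stab2 a b)
    (hwk : ∀ k ∈ s.K, w * k * w⁻¹ = k * k) (hRel : Cfsg.IsElementaryAbelian p R) :
    (2 ^ n + 1) ^ n ≤ Nat.card R := by
  classical
  haveI := Fact.mk s.prime
  obtain ⟨hn2, hr⟩ := s.mult_eq hn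
  haveI := s.isCyclic_K
  obtain ⟨k, hk⟩ := IsCyclic.exists_ofOrder_eq_natCard (α := s.K)
  rw [← orderOf_coe, s.card_K] at hk
  haveI : IsMulCommutative R := hRel.1
  letI : CommGroup R := { (inferInstance : Group R) with mul_comm := fun x y => mul_comm' x y }
  haveI : Nontrivial R := by
    obtain ⟨v, hv, hv1⟩ := s.exists_R
    exact ⟨⟨v, hv⟩, 1, fun e => hv1 (congrArg Subtype.val e)⟩
  set k' : normalizer (R : Set G) := ⟨k, s.normal (s.K_le_D k.2).1⟩
  set w' : normalizer (R : Set G) := ⟨w, s.normal hw.1⟩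
  refine pow_le_card_mulAut (fun x => Subtype.ext (by
    rw [SubmonoidClass.coe_pow, OneMemClass.coe_one]; exact hRel.2 _ x.2)) s.ne_two hn2
    (by rw [← hr]; exact s.toConfig.not_dvd)
    (A := R.normalizerMonoidHom k') (W := R.normalizerMonoidHom w') ?_ ?_ ?_
  · rw [← map_pow, ← hr, show k' ^ mult H = 1 from Subtype.ext (s.pow_mult_eq_one k.2), map_one]
  · intro d hd0 hd x hx
    rw [← map_pow] at hx
    have hkd : (k : G) ^ d ∈ s.K := pow_mem k.2 d
    have hkd1 : (k : G) ^ d ≠ 1 := fun e => absurd (Nat.le_of_dvd hd0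
      (orderOf_dvd_of_pow_eq_one e)) (by rw [hk, hr]; omega)
    refine Subtype.ext (s.toConfig.eq_one_of_commute s.hab s.inv s.swap (s.mem_K.1 hkd).1
      (s.mem_K.1 hkd).2 hkd1 x.2 ?_)
    have h : (k : G) ^ d * (x : G) * ((k : G) ^ d)⁻¹ = x := congrArg Subtype.val hx
    exact (mul_inv_eq_iff_eq_mul.1 h).symm
  · rw [← map_mul, ← map_mul, ← map_mul]
    refine congrArg _ (Subtype.ext ?_)
    show w * (k : G) = k * k * w
    rw [← hwk k k.2, inv_mul_cancel_right]

end Setting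

end CfsgLib.LocalEven.StrongCore
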