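import Cfsg.Agent.Lib.Blocks.Section
import Cfsg.Agent.Lib.Blocks.Kernel
import Cfsg.Agent.Lib.Blocks.SectionSums

/-!
# Character lemmas for the principal block inequality

Parseval; the value of a character at a `p`-element whose centraliser has the conjugates of an
involution as the nontrivial elements of a normal subgroup; the sum of `χ(t)^2` over the
principal `2`-block; the degree bound from an abelian subgroup.
-/

set_option autoImplicit false
set_option linter.style.haveILetI false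

namespace CfsgLib.LocalEven.StrongCore

open Cfsg CfsgLib.Blocks
open scoped Classical ComplexConjugate

variable {G : Type*} [Group G] [Fintype G]

/-- Parseval's identity. -/
theorem sum_norm_sq_classInner {f : G → ℂ} (hf : IsClassFunction G f) :
    ∑ χ : IrrCharacter G, ‖classInner f (χ : G → ℂ)‖ ^ 2 = (classInner f f).re := by
  have key : classInner f f =
      ∑ χ : IrrCharacter G, ((‖classInner f (χ : G → ℂ)‖ ^ 2 : ℝ) : ℂ) := by
    conv_lhs => arg 2; rw [CfsgLib.Char.IsClassFunction.eq_sum_irr hf]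
    rw [CfsgLib.Char.classInner_sum_right]
    refine Finset.sum_congr rfl fun χ _ => ?_
    rw [CfsgLib.Char.classInner_smul_right, Complex.conj_mul', Complex.ofReal_pow]
  rw [key, Complex.re_sum]
  simp only [Complex.ofReal_re]

/-- The character value at an involution is real. -/
theorem conj_apply_of_sq {t : G} (ht : t * t = 1) (χ : IrrCharacter G) :
    conj ((χ : G → ℂ) t) = (χ : G → ℂ) t := by
  rw [conj_irr, inv_eq_of_mul_eq_one_right ht]

theorem ofReal_re_apply {t : G} (ht : t * t = 1) (χ : IrrCharacter G) :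
    ((((χ : G → ℂ) t).re : ℝ) : ℂ) = (χ : G → ℂ) t :=
  Complex.conj_eq_iff_re.1 (conj_apply_of_sq ht χ)

variable {p : ℕ} {M : Ideal AlgInt}

/-- The sums of an irreducible character over a normal subgroup. -/
theorem sum_normal_cases {K : Type*} [Group K] [Fintype K] (ξ : IrrCharacter K) (E : Subgroup K)
    [hE : E.Normal] :
    ∑ e : E, (ξ : K → ℂ) e = 0 ∨ ∑ e : E, (ξ : K → ℂ) e = (Nat.card E : ℂ) * (ξ : K → ℂ) 1 := by
  have hN0 : (Nat.card E : ℂ) ≠ 0 := CfsgLib.Char.card_ne_zero
  set f : K → ℂ := fun x => if x ∈ E then (Nat.card E : ℂ)⁻¹ else 0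
  have hf : IsClassFunction K f := fun x y => by
    refine if_congr ⟨fun h => ?_, fun h => hE.conj_mem x h y⟩ rfl rfl
    simpa [mul_assoc] using hE.conj_mem _ h y⁻¹
  have hom : omega (ξ : K → ℂ) f
      = (Nat.card E : ℂ)⁻¹ * (∑ e : E, (ξ : K → ℂ) e) / (ξ : K → ℂ) 1 := by
    rw [omega, Finset.mul_sum]
    congr 1
    refine (Finset.sum_filter_of_ne (p := fun x => x ∈ E) fun x _ hne => ?_).symm.trans ?_
    · by_contra hx; exact hne (by simp [f, hx])
    refine Finset.sum_bij (fun x hx => (⟨x, (Finset.mem_filter.1 hx).2⟩ : E))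
      (fun _ _ => Finset.mem_univ _) (fun _ _ _ _ h => congrArg Subtype.val h)
      (fun e _ => ⟨(e : K), by simp, rfl⟩) fun x hx => ?_
    simp [f, (Finset.mem_filter.1 hx).2]
  have hff : (fun c => ∑ x, f x * f (x⁻¹ * c)) = f := by
    funext c
    refine (Finset.sum_filter_of_ne (p := fun x => x ∈ E) fun x _ hne => ?_).symm.trans ?_
    · by_contra hx; exact hne (by simp [f, hx])
    rw [Finset.sum_congr rfl (g := fun _ => (Nat.card E : ℂ)⁻¹ * f c) fun x hx => ?_,
      Finset.sum_const, nsmul_eq_mul, ← mul_assoc]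
    · have : (Finset.univ.filter fun x => x ∈ E).card = Nat.card E := by
        rw [Nat.card_eq_fintype_card, Fintype.card_subtype]
      rw [this, mul_inv_cancel₀ hN0, one_mul]
    · have hx' : x ∈ E := (Finset.mem_filter.1 hx).2
      simp only [f, if_pos hx']
      congr 1
      exact if_congr ⟨fun h => by simpa using E.mul_mem hx' h, fun h =>
        E.mul_mem (E.inv_mem hx') h⟩ rfl rfl
  have hidem : omega (ξ : K → ℂ) f * omega (ξ : K → ℂ) f = omega (ξ : K → ℂ) f := by
    rw [← omega_conv ξ hf hf, hff]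
  rcases (mul_left_eq_self₀.1 hidem : omega (ξ : K → ℂ) f = 1 ∨ omega (ξ : K → ℂ) f = 0) with h | h
  · rw [hom, div_eq_one_iff_eq (irr_one_ne_zero ξ), inv_mul_eq_iff_eq_mul₀ hN0] at h
    exact .inr h
  · rw [hom, div_eq_zero_iff, mul_eq_zero] at h
    rcases h with (h | h) | h
    · exact absurd h (inv_ne_zero hN0)
    · exact .inl h
    · exact absurd h (irr_one_ne_zero ξ)

/-- The value at a `p`-element `v` whose centraliser meets the class of the involution `t` in the
nontrivial elements of a normal subgroup. -/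
theorem apply_of_pElement (hM : IsPModular p M) (hp2 : p ≠ 2) {t : G} {v : G}
    (hv : ∃ k : ℕ, orderOf v = p ^ k) {E : Subgroup G}
    (hEv : E ≤ Subgroup.centralizer ({v} : Set G))
    (hEn : Subgroup.centralizer ({v} : Set G) ≤ Subgroup.normalizer (E : Set G))
    (hEsq : ∀ e ∈ E, e * e = 1) (hpE : ¬ p ∣ Nat.card E)
    (hclass : ∀ h : G, h ∈ Subgroup.centralizer ({v} : Set G) →
      (IsConj t h ↔ h ∈ E ∧ h ≠ 1))
    (χ : IrrCharacter G) (hsec : ∀ e ∈ E, e ≠ 1 → (χ : G → ℂ) (v * e) = (χ : G → ℂ) t) :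
    (MemLocalIdeal M (centralChar (χ : G → ℂ) t - ((Nat.card E : ℂ) - 1)) →
        ((Nat.card E : ℂ) - 1) * (χ : G → ℂ) t = ((Nat.card E : ℂ) - 1) * (χ : G → ℂ) v) ∧
      (¬ MemLocalIdeal M (centralChar (χ : G → ℂ) t - ((Nat.card E : ℂ) - 1)) →
        ((Nat.card E : ℂ) - 1) * (χ : G → ℂ) t = - (χ : G → ℂ) v) := by
  set K := Subgroup.centralizer ({v} : Set G) with hK
  set ω := centralChar (χ : G → ℂ) t
  set r : ℂ := (Nat.card E : ℂ) - 1
  set E' := E.subgroupOf K with hE'
  haveI : E'.Normal := (Subgroup.normal_subgroupOf_iff_le_normalizer hEv).2 hEn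
  have hE'c : Nat.card E' = Nat.card E := Nat.card_congr (Subgroup.subgroupOfEquivOfLe hEv).toEquiv
  set τ : ℂ := if MemLocalIdeal M (ω - r) then r else -1 with hτ
  set ϑ : K → ℂ := fun c => (χ : G → ℂ) (v * (c : G)) with hϑ
  have hcl : IsClassFunction K ϑ := mul_left_isClassFunction hK χ
  set S : Finset K := Finset.univ.filter fun c => c ∈ E' ∧ c ≠ 1 with hS
  have hsplit : ∀ f : K → ℂ, ∑ e : E', f e = f 1 + ∑ c ∈ S, f c := fun f => by
    have h1 : ∑ e : E', f e = ∑ c ∈ Finset.univ.filter (fun c : K => c ∈ E'), f c := by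
      rw [Finset.sum_filter]
      refine (Finset.sum_filter _ _).symm.trans ?_ |>.symm
      exact Finset.sum_subtype _ (fun c => by simp) f
    rw [h1, ← Finset.add_sum_erase _ _ (a := (1 : K)) (by simp [E'.one_mem])]
    congr 1
    refine Finset.sum_congr ?_ fun _ _ => rfl
    ext c
    simp [hS, and_comm]
  have hScard : (S.card : ℂ) = r := by
    have h := hsplit fun _ => 1
    rw [Finset.sum_const, Finset.sum_const, nsmul_eq_mul, mul_one, nsmul_eq_mul, mul_one,
      Finset.card_univ, Fintype.card_eq_nat_card, hE'c] at h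
    rw [show r = (Nat.card E : ℂ) - 1 from rfl, h]
    ring
  -- the sums of the characters of `K`
  have hcases : ∀ ξ : IrrCharacter K, ∑ c ∈ S, (ξ : K → ℂ) c = r * (ξ : K → ℂ) 1 ∨
      ∑ c ∈ S, (ξ : K → ℂ) c = (-1) * (ξ : K → ℂ) 1 := fun ξ => by
    have h := hsplit (ξ : K → ℂ)
    rcases sum_normal_cases ξ E' with h0 | h0
    · right
      rw [h0] at h
      linear_combination -h
    · left
      rw [h0, hE'c] at h
      rw [show r = (Nat.card E : ℂ) - 1 from rfl]
      linear_combination -h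
  have hreg : ∀ c ∈ S, ¬ p ∣ orderOf c := fun c hc hd => by
    obtain ⟨hcE, -⟩ := (Finset.mem_filter.1 hc).2
    have h2 : orderOf c ∣ 2 := orderOf_dvd_of_pow_eq_one (Subtype.ext (by
      rw [SubmonoidClass.coe_pow, pow_two]; exact hEsq _ (Subgroup.mem_subgroupOf.1 hcE)))
    exact hp2 ((Nat.prime_dvd_prime_iff_eq hM.1 Nat.prime_two).1 (hd.trans h2))
  -- block by block
  have hzero : ∀ b ∈ blockFinset M K, ∑ ξ : IrrCharacter K, blockInd b ξ *
      (classInner ϑ (ξ : K → ℂ) * (∑ c ∈ S, (ξ : K → ℂ) c - τ * (ξ : K → ℂ) 1)) = 0 := by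
    intro b hb
    by_cases hind : IsInducedBlock M K b (blockOf M (χ : G → ℂ))
    · refine Finset.sum_eq_zero fun ξ _ => ?_
      by_cases hξ : ξ ∈ b
      swap
      · rw [blockInd_of_notMem hξ, zero_mul]
      have hLI := hind.2.2 ξ hξ χ (SameBlock_refl hM _) t
      have hval : inducedCentralChar K (ξ : K → ℂ) t
          = (∑ c ∈ S, (ξ : K → ℂ) c) / (ξ : K → ℂ) 1 := by
        rw [inducedCentralChar, finsum_mem_eq_toFinset_sum, Finset.sum_div]
        refine Finset.sum_congr ?_ fun _ _ => rfl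
        ext c
        simp only [Set.mem_toFinset, Set.mem_ofPred_eq, hS, Finset.mem_filter, Finset.mem_univ,
          true_and]
        rw [hclass c c.2, hE', Subgroup.mem_subgroupOf]
        exact and_congr_right fun _ => not_congr ⟨fun e => Subtype.ext e, congrArg Subtype.val⟩
      rw [hval] at hLI
      have hneg : ¬ MemLocalIdeal M ((-1 : ℂ) - r) := fun h => hpE <| (LI.natCast_iff hM _).1 (by
        have := LI.sub_comm h
        rwa [show r - (-1) = ((Nat.card E : ℕ) : ℂ) by
          rw [show r = (Nat.card E : ℂ) - 1 from rfl]; ring] at this)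
      suffices hτξ : ∑ c ∈ S, (ξ : K → ℂ) c = τ * (ξ : K → ℂ) 1 by
        rw [hτξ, sub_self, mul_zero, mul_zero]
      rcases hcases ξ with h | h <;>
        rw [h, mul_div_cancel_right₀ _ (irr_one_ne_zero ξ)] at hLI <;> rw [h, hτ]
      · rw [if_pos (LI.sub_comm hLI)]
      · rw [if_neg fun hr => hneg (LI.trans hM hLI hr)]
    · have h0 : ∀ c : K, ¬ p ∣ orderOf c → ∑ ξ : IrrCharacter K,
          blockInd b ξ * (classInner ϑ (ξ : K → ℂ) * (ξ : K → ℂ) c) = 0 := fun c hc => by
        rw [← blockPart_eq_sum]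
        exact blockPart_eq_zero_of_not_induced hM hK hv (isPBlock_blockOf χ)
          (SameBlock_refl hM _) (mem_blockFinset.1 hb) hind hc
      have e : ∀ ξ : IrrCharacter K, blockInd b ξ *
          (classInner ϑ (ξ : K → ℂ) * (∑ c ∈ S, (ξ : K → ℂ) c - τ * (ξ : K → ℂ) 1))
          = (∑ c ∈ S, blockInd b ξ * (classInner ϑ (ξ : K → ℂ) * (ξ : K → ℂ) c))
            - τ * (blockInd b ξ * (classInner ϑ (ξ : K → ℂ) * (ξ : K → ℂ) 1)) := fun ξ => by
        rw [← Finset.mul_sum, ← Finset.mul_sum]; ring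
      rw [Finset.sum_congr rfl fun ξ _ => e ξ, Finset.sum_sub_distrib, Finset.sum_comm,
        Finset.sum_eq_zero fun c hc => h0 c (hreg c hc), ← Finset.mul_sum,
        h0 1 (by rw [orderOf_one]; exact hM.1.not_dvd_one), mul_zero, sub_zero]
  have hkey : ∑ c ∈ S, ϑ c = τ * ϑ 1 := by
    have hexp : ∀ y : K, ϑ y = ∑ ξ : IrrCharacter K, classInner ϑ (ξ : K → ℂ) * (ξ : K → ℂ) y := by
      intro y
      conv_lhs => rw [CfsgLib.Char.IsClassFunction.eq_sum_irr hcl]
      simp
    have h := sum_eq_sum_blocks hM (fun _ : Set (IrrCharacter K) => (1 : ℂ)) fun ξ : IrrCharacter K =>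
      classInner ϑ (ξ : K → ℂ) * (∑ c ∈ S, (ξ : K → ℂ) c - τ * (ξ : K → ℂ) 1)
    simp only [one_mul] at h
    rw [Finset.sum_eq_zero hzero] at h
    have e : ∀ ξ : IrrCharacter K, classInner ϑ (ξ : K → ℂ) *
        (∑ c ∈ S, (ξ : K → ℂ) c - τ * (ξ : K → ℂ) 1) = (∑ c ∈ S, classInner ϑ (ξ : K → ℂ) *
          (ξ : K → ℂ) c) - τ * (classInner ϑ (ξ : K → ℂ) * (ξ : K → ℂ) 1) := fun ξ => by
      rw [← Finset.mul_sum]; ring
    rw [Finset.sum_congr rfl fun ξ _ => e ξ, Finset.sum_sub_distrib, Finset.sum_comm,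
      ← Finset.mul_sum, ← hexp, sub_eq_zero] at h
    rw [← h]
    exact Finset.sum_congr rfl fun c _ => hexp c
  have hval : ∑ c ∈ S, ϑ c = r * (χ : G → ℂ) t := by
    rw [Finset.sum_congr rfl (g := fun _ => (χ : G → ℂ) t) fun c hc => ?_, Finset.sum_const,
      nsmul_eq_mul, hScard]
    obtain ⟨hcE, hc1⟩ := (Finset.mem_filter.1 hc).2
    exact hsec _ (Subgroup.mem_subgroupOf.1 hcE) fun e => hc1 (Subtype.ext e)
  rw [hval, show ϑ 1 = (χ : G → ℂ) v by simp [hϑ], hτ] at hkey
  exact ⟨fun h => by rwa [if_pos h] at hkey, fun h => by rw [if_neg h, neg_one_mul] at hkey; exact hkey⟩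

/-- An element of an odd normal subgroup of the centraliser of an involution is absorbed by the
principal `2`-block. -/
theorem apply_section_odd (hM : IsPModular 2 M) {χ : IrrCharacter G}
    (hχ : χ ∈ principalBlock M G) {x : G} (hx : ∃ k : ℕ, orderOf x = 2 ^ k) {N : Subgroup G}
    (hN : N ≤ Subgroup.centralizer ({x} : Set G))
    (hNn : Subgroup.centralizer ({x} : Set G) ≤ Subgroup.normalizer (N : Set G))
    (hodd : Odd (Nat.card N)) {y : G} (hy : y ∈ N) :
    (χ : G → ℂ) (x * y) = (χ : G → ℂ) x := by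
  haveI : (N.subgroupOf (Subgroup.centralizer ({x} : Set G))).Normal :=
    (Subgroup.normal_subgroupOf_iff_le_normalizer hN).2 hNn
  exact CfsgLib.BrauerSuzuki.principalBlock_apply_section hM hx hχ
    (N.subgroupOf (Subgroup.centralizer ({x} : Set G)))
    (by rw [Nat.card_congr (Subgroup.subgroupOfEquivOfLe hN).toEquiv]
        exact fun h => Nat.not_even_iff_odd.2 hodd (even_iff_two_dvd.2 h))
    (y := ⟨y, hN hy⟩) (Subgroup.mem_subgroupOf.2 hy)

/-- The sum of the squares of the values at an involution over the principal `2`-block. -/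
theorem sum_sq_apply_involution_le (hM : IsPModular 2 M) {t : G} (ht : orderOf t = 2)
    {N : Subgroup G} (hN : N ≤ Subgroup.centralizer ({t} : Set G))
    (hNn : Subgroup.centralizer ({t} : Set G) ≤ Subgroup.normalizer (N : Set G))
    (hodd : Odd (Nat.card N)) :
    (Nat.card N : ℝ) *
        ∑ χ ∈ (principalBlock M G).toFinset, ((χ : G → ℂ) t).re ^ 2 ≤
      (Nat.card (Subgroup.centralizer ({t} : Set G)) : ℝ) := by
  set C := Subgroup.centralizer ({t} : Set G) with hC
  have htt : t * t = 1 := by rw [← pow_two, ← ht, pow_orderOf_eq_one]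
  set m : G → ℕ := fun g =>
    (Finset.univ.filter fun h : G => t⁻¹ * (h⁻¹ * g * h) ∈ N).card with hm
  set f : G → ℂ := fun g => (m g : ℂ) with hf
  have hfc : IsClassFunction G f := fun g x => by
    simp only [hf, hm, Nat.cast_inj]
    refine Finset.card_bij' (fun h _ => x⁻¹ * h) (fun h _ => x * h) ?_ ?_ ?_ ?_
    · intro h hh
      simp only [Finset.mem_filter, Finset.mem_univ, true_and] at hh ⊢
      convert hh using 2
      group
    · intro h hh
      simp only [Finset.mem_filter, Finset.mem_univ, true_and] at hh ⊢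
      convert hh using 2
      group
    · intro h _; group
    · intro h _; group
  have hpow : ∀ y ∈ N, (t * y) ^ Nat.card N = t := fun y hy => by
    have hc : Commute t y := (Subgroup.mem_centralizer_singleton_iff.1 (hN hy)).symm
    obtain ⟨k, hk⟩ := hodd
    rw [hc.mul_pow, show y ^ Nat.card N = 1 from congrArg Subtype.val (pow_card_eq_one' (x := (⟨y, hy⟩ : N))),
      mul_one, hk, pow_succ, pow_mul, pow_two, htt, one_pow, one_mul]
  have hle : ∀ g, m g ≤ Nat.card C := fun g => by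
    by_cases he : (Finset.univ.filter fun h : G => t⁻¹ * (h⁻¹ * g * h) ∈ N).Nonempty
    · obtain ⟨h₀, hh₀⟩ := he
      have h0 := (Finset.mem_filter.1 hh₀).2
      rw [Nat.card_eq_fintype_card, Fintype.card_subtype]
      refine Finset.card_le_card_of_injOn (fun h => h₀⁻¹ * h) (fun h hh => ?_)
        fun h _ h' _ e => mul_left_cancel e
      simp only [Finset.coe_filter, Finset.mem_univ, true_and, Set.mem_setOf_eq]
      have h1 := (Finset.mem_filter.1 hh).2
      have e0 := hpow _ h0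
      have e1 := hpow _ h1
      rw [mul_inv_cancel_left, conj_pow_inv] at e0 e1
      refine Subgroup.mem_centralizer_singleton_iff.2 ?_
      calc h₀⁻¹ * h * t = h₀⁻¹ * h * (h⁻¹ * g ^ Nat.card N * h) := by rw [e1]
        _ = (h₀⁻¹ * g ^ Nat.card N * h₀) * (h₀⁻¹ * h) := by group
        _ = _ := by rw [e0]
    · rw [Finset.not_nonempty_iff_eq_empty] at he
      simp only [hm, he, Finset.card_empty]
      exact Nat.zero_le _
  have hswap : ∀ F : G → ℂ, IsClassFunction G F →
      ∑ g, f g * F g = (Nat.card G : ℂ) * ∑ y : N, F (t * (y : G)) := by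
    intro F hF
    have e : ∀ g, f g * F g = ∑ h : G, if t⁻¹ * (h⁻¹ * g * h) ∈ N then F g else 0 := fun g => by
      simp only [hf, hm, Finset.natCast_card_filter, Finset.sum_mul]
      exact Finset.sum_congr rfl fun h _ => by split <;> simp
    rw [Finset.sum_congr rfl fun g _ => e g, Finset.sum_comm,
      Finset.sum_congr rfl (g := fun _ => ∑ y : N, F (t * (y : G))) fun h _ => ?_, Finset.sum_const,
      nsmul_eq_mul, Finset.card_univ, Fintype.card_eq_nat_card]
    rw [← Finset.sum_filter]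
    refine Finset.sum_bij' (fun g hg => (⟨t⁻¹ * (h⁻¹ * g * h), (Finset.mem_filter.1 hg).2⟩ : N))
      (fun y _ => h * (t * (y : G)) * h⁻¹) ?_ ?_ ?_ ?_ ?_
    · intro g _; exact Finset.mem_univ _
    · intro y _
      refine Finset.mem_filter.2 ⟨Finset.mem_univ _, ?_⟩
      rw [show t⁻¹ * (h⁻¹ * (h * (t * (y : G)) * h⁻¹) * h) = (y : G) by group]
      exact y.2
    · intro g _; group
    · intro y _; exact Subtype.ext (by group)
    · intro g _
      rw [← hF (t * (t⁻¹ * (h⁻¹ * g * h))) h]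
      congr 1
      group
  have hinner : ∀ χ ∈ (principalBlock M G).toFinset,
      ‖classInner f (χ : G → ℂ)‖ ^ 2 = (Nat.card N : ℝ) ^ 2 * ((χ : G → ℂ) t).re ^ 2 := by
    intro χ hχ
    have h1 : classInner f (χ : G → ℂ) = (Nat.card N : ℂ) * (χ : G → ℂ) t := by
      rw [classInner, hswap (fun g => conj ((χ : G → ℂ) g)) fun g h => by
          simp only [irr_conj_apply],
        inv_mul_cancel_left₀ CfsgLib.Char.card_ne_zero,
        Finset.sum_congr rfl (g := fun _ => (χ : G → ℂ) t) fun y _ => ?_, Finset.sum_const,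
        nsmul_eq_mul, Finset.card_univ, Fintype.card_eq_nat_card]
      rw [apply_section_odd hM (Set.mem_toFinset.1 hχ) ⟨1, by rw [ht, pow_one]⟩ hN hNn hodd y.2,
        conj_apply_of_sq htt]
    rw [h1, ← ofReal_re_apply htt χ, ← Complex.ofReal_natCast, ← Complex.ofReal_mul,
      Complex.norm_real, Real.norm_eq_abs, sq_abs, Complex.ofReal_re, mul_pow]
  have hff : (classInner f f).re ≤ (Nat.card C : ℝ) * (Nat.card N : ℝ) := by
    have hGpos : (0 : ℝ) < Nat.card G := Nat.cast_pos.2 Nat.card_pos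
    have hsum : ∑ g, (m g : ℝ) = (Nat.card G : ℝ) * (Nat.card N : ℝ) := by
      have h := hswap (fun _ => 1) fun _ _ => rfl
      simp only [mul_one, Finset.sum_const, nsmul_eq_mul, Finset.card_univ,
        Fintype.card_eq_nat_card, hf] at h
      exact_mod_cast h
    have h2 : (classInner f f).re = (Nat.card G : ℝ)⁻¹ * ∑ g, (m g : ℝ) ^ 2 := by
      rw [CfsgLib.Char.classInner_self, Complex.ofReal_re]
      simp [hf]
    rw [h2, inv_mul_le_iff₀ hGpos]
    calc ∑ g, (m g : ℝ) ^ 2 ≤ ∑ g, (Nat.card C : ℝ) * (m g : ℝ) := by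
          refine Finset.sum_le_sum fun g _ => ?_
          rw [pow_two]
          exact mul_le_mul_of_nonneg_right (Nat.cast_le.2 (hle g)) (Nat.cast_nonneg _)
      _ = _ := by rw [← Finset.mul_sum, hsum]; ring
  have hbessel : ∑ χ ∈ (principalBlock M G).toFinset, ‖classInner f (χ : G → ℂ)‖ ^ 2
      ≤ (classInner f f).re := by
    rw [← sum_norm_sq_classInner hfc]
    exact Finset.sum_le_sum_of_subset_of_nonneg (Finset.subset_univ _) fun _ _ _ => sq_nonneg _
  rw [Finset.sum_congr rfl hinner, ← Finset.mul_sum] at hbessel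
  have hNpos : (0 : ℝ) < Nat.card N := Nat.cast_pos.2 Nat.card_pos
  nlinarith [hbessel.trans hff]
where
  conj_pow_inv {h g : G} {k : ℕ} : (h⁻¹ * g * h) ^ k = h⁻¹ * g ^ k * h := by
    induction k with
    | zero => simp
    | succ k ih => rw [pow_succ, pow_succ, ih]; group

/-- The degree bound from an elementary abelian subgroup `R` centralised by `S`, at whose
nontrivial elements the character is constant. -/
theorem degree_le_of_const {R S : Subgroup G} (hRc : ∀ v ∈ R, ∀ w ∈ R, Commute v w)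
    (hRS : ∀ v ∈ R, ∀ x ∈ S, Commute v x) (hdisj : R ⊓ S = ⊥) (hR1 : R ≠ ⊥)
    (χ : IrrCharacter G) {k : ℝ} (hk : ∀ v ∈ R, v ≠ 1 → (χ : G → ℂ) v = (k : ℂ))
    (hsec : ∀ v ∈ R, ∀ x ∈ S, x ≠ 1 → (χ : G → ℂ) (v * x) = (χ : G → ℂ) x) :
    (∀ v ∈ R, (χ : G → ℂ) v = (χ : G → ℂ) 1) ∨
      ((Nat.card R : ℝ) - 1) * (Nat.card S : ℝ) ≤ ((χ : G → ℂ) 1).re := by
  haveI : IsMulCommutative R := ⟨⟨fun v w => Subtype.ext (hRc v v.2 w w.2).eq⟩⟩
  letI : CommGroup R := { (inferInstance : Group R) with mul_comm := fun v w => mul_comm' v w }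
  obtain ⟨v₀, hv₀⟩ := Subgroup.ne_bot_iff_exists_ne_one.1 hR1
  obtain ⟨lam, hlam⟩ := CommGroup.exists_apply_ne_one_of_hasEnoughRootsOfUnity R ℂ hv₀
  let ι : R × S →* G := MonoidHom.noncommCoprod R.subtype S.subtype
    fun v x => hRS v v.2 x x.2
  have hι : ∀ v : R, ∀ x : S, ι (v, x) = (v : G) * (x : G) := fun _ _ => rfl
  set d : ℝ := ((χ : G → ℂ) 1).re with hd
  have hd' : (χ : G → ℂ) 1 = (d : ℂ) := by
    rw [hd, irr_one_eq]; simp
  -- the multiplicity of `lam ⊗ 1`
  obtain ⟨z, hz⟩ := CfsgLib.Char.IsCharacter.classInner_nat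
    (CfsgLib.Char.IsCharacter.comp (CfsgLib.Char.isCharacter_irr χ) ι)
    (CfsgLib.Char.isCharacter_hom (lam.comp (MonoidHom.fst R S)))
  have hlam0 : ∑ v : R, conj ((lam v : ℂˣ) : ℂ) = 0 := by
    have h := sum_hom_units_eq_zero ((Units.coeHom ℂ).comp lam) (fun h => hlam (Units.ext (by
      simpa using DFunLike.congr_fun h v₀)))
    rw [← map_sum]
    simp only [MonoidHom.coe_comp, Function.comp_apply, Units.coeHom_apply] at h
    rw [h, map_zero]
  have hsum1 : ∑ v : R, (χ : G → ℂ) v * conj ((lam v : ℂˣ) : ℂ) = (d : ℂ) - (k : ℂ) := by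
    have e : ∀ v : R, (χ : G → ℂ) v * conj ((lam v : ℂˣ) : ℂ) =
        (k : ℂ) * conj ((lam v : ℂˣ) : ℂ) + if v = 1 then (d : ℂ) - (k : ℂ) else 0 := fun v => by
      by_cases hv : v = 1
      · subst hv
        simp [hd']
      · rw [if_neg hv, add_zero, hk _ v.2 fun h => hv (Subtype.ext h)]
    rw [Finset.sum_congr rfl fun v _ => e v, Finset.sum_add_distrib, ← Finset.mul_sum, hlam0,
      mul_zero, zero_add, Finset.sum_ite_eq' Finset.univ (1 : R), if_pos (Finset.mem_univ _)]
  have hmult : (z : ℂ) * ((Nat.card R : ℂ) * (Nat.card S : ℂ)) = (d : ℂ) - (k : ℂ) := by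
    rw [← hz, classInner, Nat.card_prod, Nat.cast_mul, mul_comm, ← mul_assoc,
      mul_inv_cancel₀ (mul_ne_zero CfsgLib.Char.card_ne_zero CfsgLib.Char.card_ne_zero), one_mul,
      Fintype.sum_prod_type_right, Finset.sum_eq_single (1 : S)]
    · rw [← hsum1]
      refine Finset.sum_congr rfl fun v _ => ?_
      show (χ : G → ℂ) (ι (v, 1)) * _ = _
      rw [hι, OneMemClass.coe_one, mul_one]
      rfl
    · intro x _ hx
      refine Eq.trans (Finset.sum_congr rfl (g := fun v : R => (χ : G → ℂ) x *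
        conj ((lam v : ℂˣ) : ℂ)) fun v _ => ?_) (by rw [← Finset.mul_sum, hlam0, mul_zero])
      show (χ : G → ℂ) (ι (v, x)) * _ = _
      rw [hι, hsec _ v.2 _ x.2 fun h => hx (Subtype.ext h)]
      rfl
    · exact fun h => absurd (Finset.mem_univ _) h
  have hmultR : (z : ℝ) * ((Nat.card R : ℝ) * (Nat.card S : ℝ)) = d - k := by
    exact_mod_cast hmult
  -- the average over `R`
  obtain ⟨w, hw⟩ := CfsgLib.Char.IsCharacter.classInner_nat
    (CfsgLib.Char.IsCharacter.restrict (CfsgLib.Char.isCharacter_irr χ) R)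
    (CfsgLib.Char.isCharacter_one (G := R))
  have havg : (Nat.card R : ℝ) * (w : ℝ) = d + ((Nat.card R : ℝ) - 1) * k := by
    have h : (Nat.card R : ℂ) * (w : ℂ) = (d : ℂ) + ((Nat.card R : ℂ) - 1) * (k : ℂ) := by
      rw [← hw, CfsgLib.Char.classInner_fun_one_right, ← mul_assoc,
        mul_inv_cancel₀ CfsgLib.Char.card_ne_zero, one_mul,
        ← Finset.add_sum_erase Finset.univ _ (Finset.mem_univ (1 : R)),
        Finset.sum_congr rfl (g := fun _ => (k : ℂ)) fun v hv => hk _ v.2 fun h =>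
          (Finset.mem_erase.1 hv).1 (Subtype.ext h),
        Finset.sum_const, Finset.card_erase_of_mem (Finset.mem_univ _), Finset.card_univ,
        nsmul_eq_mul, Fintype.card_eq_nat_card, Nat.cast_sub Nat.card_pos, Nat.cast_one, ← hd']
      rfl
    exact_mod_cast h
  have hw0 : (0 : ℝ) ≤ w := Nat.cast_nonneg _
  have hRpos : (1 : ℝ) ≤ Nat.card R := Nat.one_le_cast.2 Nat.card_pos
  have hSpos : (1 : ℝ) ≤ Nat.card S := Nat.one_le_cast.2 Nat.card_pos
  rcases Nat.eq_zero_or_pos z with hz0 | hz0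
  · left
    intro v hv
    by_cases hv1 : v = 1
    · rw [hv1]
    rw [hk v hv hv1, hd']
    rw [hz0] at hmultR
    norm_num at hmultR
    rw [sub_eq_zero.1 hmultR.symm]
  · right
    have hz1 : (1 : ℝ) ≤ z := Nat.one_le_cast.2 hz0
    nlinarith [mul_nonneg hw0 (by linarith : (0 : ℝ) ≤ (Nat.card R : ℝ)),
      mul_nonneg (mul_nonneg (sub_nonneg.2 hz1) (sub_nonneg.2 hRpos))
        (by linarith : (0 : ℝ) ≤ (Nat.card S : ℝ))]

end CfsgLib.LocalEven.StrongCore
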