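import Cfsg.Agent.Lib.LocalEven.StrongCore.Singular
import Cfsg.Agent.Lib.LocalEven.StrongCore.Characters
import Cfsg.Agent.Lib.BrauerSuzuki.Basic
import Cfsg.Agent.Lib.Blocks.Eigen

/-!
# The principal block inequality

The proportion of elements of even order against the degrees of the characters of the principal
`2`-block which do not vanish at involutions.
-/

set_option autoImplicit false
set_option linter.style.haveILetI false

open scoped Classical

namespace CfsgLib.LocalEven.StrongCore

open Subgroup MulAction CfsgLib.Involution.Dihedral CfsgLib.Involution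
  CfsgLib.LocalEven.BenderTransitive CfsgLib.LocalEven.SwapInjective
open Cfsg CfsgLib.Blocks
open scoped ComplexConjugate

universe u

namespace Setting

variable {G : Type u} [Group G] [Finite G] {H : Subgroup G}
  {a b : G ⧸ H} {u : G} {p : ℕ} {R : Subgroup G} (s : Setting a b u p R)

include s

/-- The involutions are conjugate. -/
theorem isConj_of_involution {t x : G} (ht : orderOf t = 2) (hta : t • a = a) (hx : orderOf x = 2) :
    IsConj t x := by
  obtain ⟨δ, hδ⟩ := SE.exists_fixed s.min.se hx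
  obtain ⟨g, hg⟩ := MulAction.exists_smul_eq G δ a
  have hxa : (g * x * g⁻¹) • a = a := by
    rw [← hg, smul_smul, inv_mul_cancel_right, mul_smul, hδ]
  obtain ⟨k, -, hk⟩ := s.exists_K_conj ht hta ((Dihedral.orderOf_conj g x).trans hx) hxa
  exact (isConj_iff.2 ⟨k, hk⟩).trans (isConj_iff.2 ⟨g⁻¹, by group⟩)

/-- The product of `t` with an involution has even order only if both fix `a`. -/
theorem smul_eq_of_even_mul {t y : G} (ht : orderOf t = 2) (hta : t • a = a) (hy : orderOf y = 2)
    (h : 2 ∣ orderOf (t * y)) : y • a = a := by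
  set g := t * y with hg
  set z := g ^ (orderOf g / 2) with hzdef
  have hz : orderOf z = 2 := orderOf_pow_orderOf_div (orderOf_pos g).ne' h
  have hinv : t * g * t⁻¹ = g⁻¹ := by
    rw [hg, mul_inv_rev, inv_eq ht, inv_eq hy]
    calc t * (t * y) * t = (t * t) * y * t := by group
      _ = y * t := by rw [mul_self ht, one_mul]
  have htz : Commute t z := by
    have h1 := Dihedral.conj_pow hinv (orderOf g / 2)
    rw [← hzdef, inv_eq hz] at h1
    exact mul_inv_eq_iff_eq_mul.1 h1
  have hza : z • a = a := SE.commute_fixes s.min.se ht hta htz.symm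
  have hgz : Commute g z := (Commute.refl g).pow_right _
  have hga : g • a = a := SE.commute_fixes s.min.se hz hza hgz
  have hyg : y = t * g := by rw [hg, ← mul_assoc, mul_self ht, one_mul]
  rw [hyg, mul_smul, hga, hta]

/-- A nontrivial character in whose kernel `R` lies does not exist. -/
theorem eq_triv_of_le_ker [Fintype G] (χ : IrrCharacter G)
    (h : ∀ v ∈ R, (χ : G → ℂ) v = (χ : G → ℂ) 1) : χ = trivChar G := by
  haveI := Fact.mk s.prime
  haveI := irrKer_normal χ
  set N := irrKer χ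
  by_contra hne
  have hN : N ≠ ⊤ := fun e => hne (BrauerSuzuki.irr_eq_triv_of_ker_top e)
  have hRN : R ≤ N := fun v hv => mem_irrKer.2 (h v hv)
  by_cases hodd : Odd (Nat.card N)
  · exact s.ne (le_bot_iff.1 (s.min.eq_bot_of_normal hodd ▸ hRN))
  obtain ⟨⟨x, hxN⟩, hx⟩ :=
    exists_prime_orderOf_dvd_card' (G := N) 2 (even_iff_two_dvd.1 (Nat.not_odd_iff_even.1 hodd))
  rw [Subgroup.orderOf_mk] at hx
  obtain ⟨v, w, hv, hva, hw, hwa, hvw, hvwne⟩ := exists_four s.min.se s.min.comm a
  have hall : ∀ y : G, orderOf y = 2 → y ∈ N := fun y hy => by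
    obtain ⟨g, hg⟩ := isConj_iff.1
      ((s.isConj_of_involution hv hva hx).symm.trans (s.isConj_of_involution hv hva hy))
    exact hg ▸ (inferInstance : N.Normal).conj_mem x hxN g
  have hcore := s.min.le_oddCore_map hN hv hva (hall v hv) (hall u s.inv) s.u_ne
    (N := R) (le_inf hRN s.le) (odd_of_pgroup s.ne_two s.group) (inf_le_right.trans s.normal)
  haveI : ((Cfsg.oddCore N).map N.subtype).Normal := normalizer_eq_top_iff.1 (eq_top_iff.2
    fun g _ => by
      haveI : (Cfsg.oddCore N).Characteristic :=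
        inferInstanceAs (Cfsg.pPrimeCore 2 N).Characteristic
      exact Coprime.FixedPointFreeOnModule.mem_normalizer_map_of_char _
        (normalizer_eq_top (H := N) ▸ mem_top g))
  exact s.ne (le_bot_iff.1 (s.min.eq_bot_of_normal (Min.odd_oddCore_map N) ▸ hcore))

/-- The principal block inequality. -/
theorem principal_inequality (hRel : Cfsg.IsElementaryAbelian p R) {t : G} (ht : orderOf t = 2)
    (hta : t • a = a) :
    ((evenCount a : ℝ) / Nat.card (stabilizer G a)
        - ((mult H : ℝ) - 1) / ((Nat.card (G ⧸ H) : ℝ) * mult H)) ^ 2 ≤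
      (evenCount a : ℝ) / Nat.card (stabilizer G a) *
        ((s.hIndex t : ℝ) * s.jIndex / ((Nat.card R : ℝ) - 1)) ^ 2 := by
  haveI := Fintype.ofFinite G
  haveI := Fact.mk Nat.prime_two
  haveI := Fact.mk s.prime
  obtain ⟨M, hM⟩ := exists_isPModular Nat.prime_two
  obtain ⟨Mp, hMp⟩ := exists_isPModular s.prime
  set r := mult H with hrdef
  set σ : ℝ := (evenCount a : ℝ) / Nat.card (stabilizer G a) with hσ
  have hr1 := one_lt_mult s.min
  have htt : t * t = 1 := mul_self ht
  have hG : Nat.card G = Nat.card (G ⧸ H) * Nat.card (stabilizer G a) := by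
    rw [← MulAction.index_stabilizer_of_transitive G a, Subgroup.index_mul_card]
  have hΩ : (0 : ℝ) < Nat.card (G ⧸ H) := Nat.cast_pos.2 Nat.card_pos
  have hGa : (0 : ℝ) < Nat.card (stabilizer G a) := Nat.cast_pos.2 Nat.card_pos
  -- the indicator of the elements of even order
  set θ : G → ℂ := fun g => if 2 ∣ orderOf g then 1 else 0 with hθ
  have hθc : IsClassFunction G θ := fun g h => by simp only [hθ, Dihedral.orderOf_conj]
  set c : IrrCharacter G → ℂ := fun χ => classInner θ (χ : G → ℂ) with hc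
  have hθsum : ∑ g, θ g = ((Nat.card (G ⧸ H) * evenCount a : ℕ) : ℂ) := by
    rw [← s.card_even, Nat.card_eq_fintype_card, Fintype.card_subtype, Finset.natCast_card_filter]
  have hσC : (Nat.card G : ℂ)⁻¹ * ∑ g, θ g = (σ : ℂ) := by
    rw [hθsum, hG, hσ]
    push_cast
    have h1 : (Nat.card (G ⧸ H) : ℂ) ≠ 0 := Nat.cast_ne_zero.2 Nat.card_pos.ne'
    have h2 : (Nat.card (stabilizer G a) : ℂ) ≠ 0 := Nat.cast_ne_zero.2 Nat.card_pos.ne'
    field_simp
  have hctriv : c (trivChar G) = (σ : ℂ) := by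
    rw [← hσC, hc]
    simp [classInner]
  have hcout : ∀ χ : IrrCharacter G, χ ∉ principalBlock M G → c χ = 0 := by
    intro χ hχ
    have h1 : ∑ g : G with IsPRegular 2 g, (χ : G → ℂ) g = 0 :=
      SectionSums.sum_regular_eq_zero hM hχ
    have h2 : ∑ g : G, (χ : G → ℂ) g = 0 := by
      have h := CfsgLib.Char.classInner_irr_ne χ.2 (trivChar G).2 fun e =>
        hχ ((Subtype.ext e : χ = trivChar G) ▸ trivChar_mem_principalBlock hM)
      rw [show ((trivChar G : IrrCharacter G) : G → ℂ) = fun _ => 1 from rfl,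
        CfsgLib.Char.classInner_fun_one_right, mul_eq_zero] at h
      exact h.resolve_left (inv_ne_zero CfsgLib.Char.card_ne_zero)
    have h3 : ∑ g : G, θ g * (χ : G → ℂ) g = 0 := by
      rw [← h2.trans h1.symm |> sub_eq_zero.2, Finset.sum_filter, ← Finset.sum_sub_distrib]
      refine Finset.sum_congr rfl fun g _ => ?_
      simp only [hθ, IsPRegular]
      by_cases hg : 2 ∣ orderOf g <;> simp [hg]
    have h4 : c χ = (Nat.card G : ℂ)⁻¹ * conj (∑ g : G, θ g * (χ : G → ℂ) g) := by
      rw [hc, map_sum]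
      simp only [classInner]
      congr 1
      refine Finset.sum_congr rfl fun g _ => ?_
      simp only [hθ, map_mul]
      split_ifs <;> simp
    rw [h4, h3, map_zero, mul_zero]
  have hnorm : ∑ χ : IrrCharacter G, ‖c χ‖ ^ 2 = σ := by
    rw [sum_norm_sq_classInner hθc]
    have e : classInner θ θ = (σ : ℂ) := by
      rw [← hσC, classInner]
      congr 1
      refine Finset.sum_congr rfl fun g _ => ?_
      simp only [hθ]
      split_ifs <;> simp
    rw [e, Complex.ofReal_re]
  -- the structure constant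
  have hident : ∑ χ : IrrCharacter G, c χ * ((χ : G → ℂ) t ^ 2 / (χ : G → ℂ) 1) =
      ((((r : ℝ) - 1) / ((Nat.card (G ⧸ H) : ℝ) * r) : ℝ) : ℂ) := by
    have hcount : ∑ h : G, θ (t * (h * t * h⁻¹)) =
        ((r : ℂ) - 1) * Nat.card (centralizer ({t} : Set G)) := by
      have hiff : ∀ h : G, 2 ∣ orderOf (t * (h * t * h⁻¹)) ↔
          h ∈ stabilizer G a ∧ h ∉ centralizer ({t} : Set G) := by
        intro h
        have hy : orderOf (h * t * h⁻¹) = 2 := (Dihedral.orderOf_conj h t).trans ht
        constructor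
        · intro h2
          have hya := s.smul_eq_of_even_mul ht hta hy h2
          refine ⟨mem_stabilizer_iff.2 (SE.fixed_unique s.min.se hy ?_ hya), fun hh => ?_⟩
          · rw [smul_smul, inv_mul_cancel_right, mul_smul, hta]
          · rw [mem_centralizer_singleton_iff.1 hh, mul_inv_cancel_right, htt, orderOf_one] at h2
            omega
        · rintro ⟨hha, hh⟩
          have hha' := mem_stabilizer_iff.1 hha
          have hne : t ≠ h * t * h⁻¹ := fun e =>
            hh (mem_centralizer_singleton_iff.2 (eq_mul_inv_iff_mul_eq.1 e).symm)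
          rw [commute_mul ht hy hne (s.commute_of_fixes ht hta hy (by
            rw [mul_smul, mul_smul, inv_smul_eq_iff.2 hha'.symm, hta, hha']))]
      simp only [hθ, hiff, ← Finset.natCast_card_filter]
      have e1 : (Finset.univ.filter fun h : G =>
            h ∈ stabilizer G a ∧ h ∉ centralizer ({t} : Set G)).card
          + Nat.card (centralizer ({t} : Set G)) = Nat.card (stabilizer G a) := by
        rw [Nat.card_eq_fintype_card, Fintype.card_subtype, Nat.card_eq_fintype_card,
          Fintype.card_subtype, ← Finset.card_union_of_disjoint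
            (Finset.disjoint_filter.2 fun h _ h1 h2 => h1.2 h2)]
        congr 1
        ext h
        simp only [Finset.mem_union, Finset.mem_filter, Finset.mem_univ, true_and]
        exact ⟨fun h => h.elim (·.1) fun h => s.centralizer_le_stabilizer ht hta h,
          fun h1 => (em (h ∈ centralizer ({t} : Set G))).elim .inr fun h2 => .inl ⟨h1, h2⟩⟩
      rw [s.card_stabilizer ht hta] at e1
      have e2 := congrArg (fun m : ℕ => (m : ℂ)) e1
      push_cast at e2
      linear_combination e2
    have hexp : ∀ y : G, θ y = ∑ χ : IrrCharacter G, c χ * (χ : G → ℂ) y := fun y => by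
      conv_lhs => rw [CfsgLib.Char.IsClassFunction.eq_sum_irr hθc]
      simp [hc]
    simp only [hexp] at hcount
    rw [Finset.sum_comm] at hcount
    simp only [← Finset.mul_sum, CfsgLib.Char.IsIrrCharacter.sum_mul_conjugate (Subtype.prop _)]
      at hcount
    have e : ∀ χ : IrrCharacter G, c χ * ((Nat.card G : ℂ) * (χ : G → ℂ) t * (χ : G → ℂ) t /
        (χ : G → ℂ) 1) = (Nat.card G : ℂ) * (c χ * ((χ : G → ℂ) t ^ 2 / (χ : G → ℂ) 1)) :=
      fun χ => by ring
    rw [Finset.sum_congr rfl fun χ _ => e χ, ← Finset.mul_sum, hG, s.card_stabilizer ht hta,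
      ← hrdef] at hcount
    have hC0 : (Nat.card (centralizer ({t} : Set G)) : ℂ) ≠ 0 := CfsgLib.Char.card_ne_zero
    have hr0 : (r : ℂ) ≠ 0 := Nat.cast_ne_zero.2 (by omega)
    have hN0 : (Nat.card (G ⧸ H) : ℂ) ≠ 0 := Nat.cast_ne_zero.2 Nat.card_pos.ne'
    push_cast at hcount ⊢
    rw [eq_div_iff (mul_ne_zero hN0 hr0)]
    exact mul_right_cancel₀ hC0 (by linear_combination hcount)
  -- the degrees
  obtain ⟨n, -, hn⟩ := s.exists_card_E
  obtain ⟨O1, hO1C, hO1odd, hO1n, hC0c⟩ := s.exists_oddPart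
  have hCa := s.centralizer_le_stabilizer ht hta
  have hsum := sum_sq_apply_involution_le hM ht (hO1C.trans (s.C0_le_centralizer ht hta))
    (hCa.trans hO1n) hO1odd
  have hO1pos : (0 : ℝ) < Nat.card O1 := Nat.cast_pos.2 Nat.card_pos
  set B := (principalBlock M G).toFinset with hB
  have hsum' : ∑ χ ∈ B, ((χ : G → ℂ) t).re ^ 2 ≤
      (s.hIndex t : ℝ) * s.jIndex * Nat.card s.S0 := by
    rw [s.card_centralizer ht hta, hC0c] at hsum
    push_cast at hsum
    nlinarith
  set D : ℝ := ((Nat.card R : ℝ) - 1) * Nat.card s.S0 with hD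
  have hR1 : (1 : ℝ) < Nat.card R := by
    rw [← Nat.cast_one, Nat.cast_lt, Finite.one_lt_card_iff_nontrivial]
    obtain ⟨v, hv, hv1⟩ := s.exists_R
    exact ⟨⟨v, hv⟩, 1, fun e => hv1 (congrArg Subtype.val e)⟩
  have hDpos : 0 < D := mul_pos (by linarith) (Nat.cast_pos.2 Nat.card_pos)
  have hdeg : ∀ χ ∈ B, χ ≠ trivChar G → ((χ : G → ℂ) t).re ≠ 0 → D ≤ ((χ : G → ℂ) 1).re := by
    intro χ hχ hne _
    have hχB := Set.mem_toFinset.1 hχ
    set cE : ℂ := (Nat.card s.E : ℂ) - 1 with hcE
    have hcEr : cE = ((r : ℝ) : ℂ) := by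
      rw [hcE, s.card_E]; push_cast; ring
    set k : ℝ := if MemLocalIdeal Mp (centralChar (χ : G → ℂ) t - cE) then ((χ : G → ℂ) t).re
      else -((r : ℝ) * ((χ : G → ℂ) t).re) with hk
    have hpE : ¬ p ∣ Nat.card s.E := fun hd => by
      rw [hn] at hd
      exact s.ne_two ((Nat.prime_dvd_prime_iff_eq s.prime Nat.prime_two).1
        (s.prime.dvd_of_dvd_pow hd))
    have hval : ∀ v ∈ R, v ≠ 1 → (χ : G → ℂ) v = (k : ℂ) := by
      intro v hv hv1
      have hvC := s.toConfig.centralizer_le hv hv1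
      obtain ⟨hpos, hneg⟩ := apply_of_pElement hMp s.ne_two (v := v) (t := t)
        (IsPGroup.iff_orderOf.1 s.group ⟨v, hv⟩ |>.imp fun k hk => by
          rwa [Subgroup.orderOf_mk] at hk)
        (E := s.E) (fun e he => mem_centralizer_singleton_iff.2 (by
          by_cases he1 : e = 1
          · rw [he1, one_mul, mul_one]
          · exact (s.toConfig.commute_involution (s.orderOf_of_mem_E he he1) he.1 hv).eq))
        (hvC.trans s.normalizer_E) (fun e he => he.2) hpE
        (fun h hh => ⟨fun hth => by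
            obtain ⟨g, hg⟩ := isConj_iff.1 hth
            have h2 : orderOf h = 2 := by rw [← hg, Dihedral.orderOf_conj]; exact ht
            exact ⟨s.mem_E_of_involution h2 (mem_stabilizer_iff.1 (hvC hh)), ne_one h2⟩,
          fun ⟨hhE, h1⟩ => s.isConj_of_involution ht hta (s.orderOf_of_mem_E hhE h1)⟩) χ
        (fun e he he1 => by
          have h2 := s.orderOf_of_mem_E he he1
          have hcv := s.toConfig.commute_involution h2 he.1 hv
          rw [← hcv.eq, apply_section_odd hM hχB ⟨1, by rw [h2, pow_one]⟩ (N := R)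
            (fun w hw => mem_centralizer_singleton_iff.2
              (s.toConfig.commute_involution h2 he.1 hw).symm.eq)
            ((s.centralizer_le_stabilizer h2 he.1).trans s.normal)
            (odd_of_pgroup s.ne_two s.group) hv]
          exact (CfsgLib.Char.IsClassFunction.apply_eq_of_isConj
            (CfsgLib.Char.IsIrrCharacter.isClassFunction χ.2)
            (s.isConj_of_involution ht hta h2).symm))
      rw [hk]
      by_cases hLI : MemLocalIdeal Mp (centralChar (χ : G → ℂ) t - cE)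
      · have h := hpos hLI
        rw [if_pos hLI, ofReal_re_apply htt χ]
        refine (mul_left_cancel₀ ?_ h).symm
        rw [← hcE, hcEr]
        exact_mod_cast (show r ≠ 0 by omega)
      · have h := hneg hLI
        rw [← hcE, hcEr] at h
        rw [if_neg hLI, Complex.ofReal_neg, Complex.ofReal_mul, ofReal_re_apply htt χ, h, neg_neg]
    have hdisj : R ⊓ s.S0 = ⊥ := by
      obtain ⟨i, hi⟩ := s.isPGroup_S0.exists_card_eq
      exact inf_eq_bot_of_coprime (by rw [hi]; exact s.coprime_two_R.pow_right i)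
    rcases degree_le_of_const (R := R) (S := s.S0)
      (fun v hv w hw => congrArg Subtype.val (hRel.1.is_comm.comm (⟨v, hv⟩ : R) ⟨w, hw⟩))
      (fun v hv x hx => mem_centralizer_iff.1 (s.S0_le_centralizer hx) v hv) hdisj s.ne χ hval
      (fun v hv x hx hx1 => by
        obtain ⟨i, hi⟩ := IsPGroup.iff_orderOf.1 s.isPGroup_S0 ⟨x, hx⟩
        rw [Subgroup.orderOf_mk] at hi
        have hvx : Commute v x := mem_centralizer_iff.1 (s.S0_le_centralizer hx) v hv
        rcases i with _ | i
        · exact absurd (orderOf_eq_one_iff.1 (by rw [hi, pow_zero])) hx1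
        have hz : orderOf (x ^ 2 ^ i) = 2 := by
          rw [orderOf_pow' _ (pow_ne_zero _ two_ne_zero), hi,
            Nat.gcd_eq_right (pow_dvd_pow 2 i.le_succ), pow_succ,
            Nat.mul_div_cancel_left _ (pow_pos two_pos i)]
        have hza : x ^ 2 ^ i • a = a := mem_stabilizer_iff.1 (s.S0_le (pow_mem hx _))
        have hCx : centralizer ({x} : Set G) ≤ stabilizer G a := fun g hg =>
          s.centralizer_le_stabilizer hz hza (mem_centralizer_singleton_iff.2
            ((show Commute g x from mem_centralizer_singleton_iff.1 hg).pow_right _).eq)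
        rw [hvx.eq]
        exact apply_section_odd hM hχB ⟨i + 1, hi⟩ (N := R) (fun w hw =>
          mem_centralizer_singleton_iff.2 (mem_centralizer_iff.1 (s.S0_le_centralizer hx) w hw))
          (hCx.trans s.normal) (odd_of_pgroup s.ne_two s.group) hv) with hker | hbound
    · exact absurd (s.eq_triv_of_le_ker χ hker) hne
    · exact hbound
  -- the estimate
  set T := B.erase (trivChar G) with hT
  set A : IrrCharacter G → ℝ := fun χ => ((χ : G → ℂ) t).re ^ 2 / D with hA
  have hterm : ∀ χ ∈ T, ‖c χ * ((χ : G → ℂ) t ^ 2 / (χ : G → ℂ) 1)‖ ≤ ‖c χ‖ * A χ := by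
    intro χ hχ
    obtain ⟨hne, hχB⟩ := Finset.mem_erase.1 hχ
    rw [norm_mul]
    refine mul_le_mul_of_nonneg_left ?_ (norm_nonneg _)
    have h1 : (χ : G → ℂ) 1 = ((((χ : G → ℂ) 1).re : ℝ) : ℂ) := by
      rw [irr_one_eq]; simp
    rw [← ofReal_re_apply htt χ, h1, ← Complex.ofReal_pow, ← Complex.ofReal_div,
      Complex.norm_real, Real.norm_eq_abs]
    by_cases h0 : ((χ : G → ℂ) t).re = 0
    · simp [hA, h0]
    have hd := hdeg χ hχB hne h0
    rw [abs_of_nonneg (div_nonneg (sq_nonneg _) (hDpos.le.trans hd))]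
    exact div_le_div_of_nonneg_left (sq_nonneg _) hDpos hd
  have hdiff : ((((r : ℝ) - 1) / ((Nat.card (G ⧸ H) : ℝ) * r) - σ : ℝ) : ℂ) =
      ∑ χ ∈ T, c χ * ((χ : G → ℂ) t ^ 2 / (χ : G → ℂ) 1) := by
    rw [hT, Finset.sum_erase_eq_sub (Set.mem_toFinset.2 (trivChar_mem_principalBlock hM)),
      Finset.sum_subset (Finset.subset_univ _) fun χ _ hχ => by
        rw [hcout χ (by simpa using hχ), zero_mul], hident, hctriv]
    simp
  have habs : |((r : ℝ) - 1) / ((Nat.card (G ⧸ H) : ℝ) * r) - σ| ≤ ∑ χ ∈ T, ‖c χ‖ * A χ := by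
    rw [← Real.norm_eq_abs, ← Complex.norm_real, hdiff]
    exact (norm_sum_le _ _).trans (Finset.sum_le_sum hterm)
  have hAnn : ∀ χ, 0 ≤ A χ := fun χ => div_nonneg (sq_nonneg _) hDpos.le
  have hAsum : ∑ χ ∈ T, A χ ≤ (s.hIndex t : ℝ) * s.jIndex / ((Nat.card R : ℝ) - 1) := by
    refine (Finset.sum_le_sum_of_subset_of_nonneg (Finset.erase_subset _ _) fun χ _ _ => hAnn χ).trans ?_
    simp only [hA, ← Finset.sum_div]
    refine (div_le_div_of_nonneg_right hsum' hDpos.le).trans (le_of_eq ?_)
    rw [hD]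
    have hS0 : (Nat.card s.S0 : ℝ) ≠ 0 := Nat.cast_ne_zero.2 Nat.card_pos.ne'
    field_simp
  have hcs := Finset.sum_mul_sq_le_sq_mul_sq T (fun χ => ‖c χ‖) A
  have hcsum : ∑ χ ∈ T, ‖c χ‖ ^ 2 ≤ σ := hnorm ▸
    Finset.sum_le_sum_of_subset_of_nonneg (Finset.subset_univ _) fun _ _ _ => sq_nonneg _
  have hA2 : ∑ χ ∈ T, A χ ^ 2 ≤ ((s.hIndex t : ℝ) * s.jIndex / ((Nat.card R : ℝ) - 1)) ^ 2 :=
    (Finset.sum_sq_le_sq_sum_of_nonneg fun χ _ => hAnn χ).trans
      (pow_le_pow_left₀ (Finset.sum_nonneg fun χ _ => hAnn χ) hAsum 2)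
  calc (σ - ((r : ℝ) - 1) / ((Nat.card (G ⧸ H) : ℝ) * r)) ^ 2
      = |((r : ℝ) - 1) / ((Nat.card (G ⧸ H) : ℝ) * r) - σ| ^ 2 := by rw [sq_abs]; ring
    _ ≤ (∑ χ ∈ T, ‖c χ‖ * A χ) ^ 2 := pow_le_pow_left₀ (abs_nonneg _) habs 2
    _ ≤ (∑ χ ∈ T, ‖c χ‖ ^ 2) * ∑ χ ∈ T, A χ ^ 2 := hcs
    _ ≤ _ := mul_le_mul hcsum hA2 (Finset.sum_nonneg fun _ _ => sq_nonneg _)
      (div_nonneg (Nat.cast_nonneg _) (Nat.cast_nonneg _))

end Setting

end CfsgLib.LocalEven.StrongCore
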