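import Cfsg.Agent.Lib.LocalEven.StrongCore.CaseCentral
import Cfsg.Agent.Lib.LocalEven.StrongCore.CaseSquare
import Cfsg.Agent.Lib.LocalEven.StrongCore.Inequality
import Cfsg.Agent.Lib.OddOrder.Final.Main
import Cfsg.Agent.Lib.Solvable.Basic

/-!
# The odd core of a strongly embedded subgroup

If `H` is strongly embedded in the finite group `G` then `O(H) ≤ O(G)`.
-/

set_option autoImplicit false
set_option linter.style.haveILetI false

namespace CfsgLib.LocalEven.StrongCore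

open Subgroup MulAction CfsgLib.Involution.Dihedral CfsgLib.Involution
  CfsgLib.LocalEven.BenderTransitive CfsgLib.LocalEven.SwapInjective

universe u

/-- The product bounding the stabiliser of an involution, against `(2 ^ n + 1) ^ n`. -/
theorem three_mul_prod_le {n : ℕ} (hn : 3 ≤ n) :
    3 * (∏ i ∈ Finset.Ico 1 n, (2 ^ n - 2 ^ i)) * (2 ^ n + 1) + 1 ≤ (2 ^ n + 1) ^ n := by
  rcases eq_or_lt_of_le hn with rfl | h4
  · decide
  obtain ⟨m, rfl⟩ : ∃ m, n = m + 4 := ⟨n - 4, by omega⟩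
  set X := 2 ^ (m + 4) with hX
  have hX16 : X = 16 * 2 ^ m := by rw [hX, pow_add]; ring
  have hY : ∏ i ∈ Finset.Ico 1 (m + 1), (X - 2 ^ i) ≤ X ^ m :=
    (Finset.prod_le_pow_card _ _ X fun i _ => Nat.sub_le _ _).trans_eq (by simp)
  have hP : 64 * (∏ i ∈ Finset.Ico 1 (m + 4), (X - 2 ^ i)) ≤ 21 * X ^ (m + 3) := by
    rw [Finset.prod_Ico_succ_top (by omega : 1 ≤ m + 3),
      Finset.prod_Ico_succ_top (by omega : 1 ≤ m + 2),
      Finset.prod_Ico_succ_top (by omega : 1 ≤ m + 1)]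
    have e1 : X - 2 ^ (m + 1) = 14 * 2 ^ m := by rw [hX16, pow_succ]; omega
    have e2 : X - 2 ^ (m + 2) = 12 * 2 ^ m := by rw [hX16, pow_add]; omega
    have e3 : X - 2 ^ (m + 3) = 8 * 2 ^ m := by rw [hX16, pow_add]; omega
    rw [e1, e2, e3]
    refine le_of_le_of_eq (Nat.mul_le_mul_left 64 (Nat.mul_le_mul_right _
      (Nat.mul_le_mul_right _ (Nat.mul_le_mul_right _ hY)))) ?_
    rw [hX16]; ring
  have hpow : X ^ (m + 4) + 2 * X ^ (m + 3) ≤ (X + 1) ^ (m + 4) := by
    calc X ^ (m + 4) + 2 * X ^ (m + 3) = X ^ (m + 2) * (X ^ 2 + 2 * X) := by ring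
      _ ≤ (X + 1) ^ (m + 2) * (X + 1) ^ 2 :=
        Nat.mul_le_mul (Nat.pow_le_pow_left X.le_succ _) (by nlinarith)
      _ = _ := by ring
  have h1 := Nat.mul_le_mul_right (3 * (X + 1)) hP
  have h2 : 1 ≤ X ^ (m + 3) := Nat.one_le_pow _ _ (by positivity)
  have e : X ^ (m + 4) = X ^ (m + 3) * X := by ring
  nlinarith

theorem sq_lt_two_pow (m : ℕ) : 32 * (m + 3) ^ 2 + 49 < 49 * 2 ^ (m + 3) := by
  induction m with
  | zero => norm_num
  | succ m ih =>
    have h : 32 * (m + 1 + 3) ^ 2 + 49 ≤ 2 * (32 * (m + 3) ^ 2 + 49) := by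
      ring_nf; omega
    rw [show m + 1 + 3 = (m + 3) + 1 by omega] at h ⊢
    rw [pow_succ 2]
    omega

/-- The arithmetic when an inverted element of prime order is central in `D`. -/
theorem central_arith {n e A r N h j R : ℕ} (hn : 2 ≤ n) (hr : r = 2 ^ n - 1) (hA : 0 < A)
    (hAe : A ≤ 2 * r * e) (hj : 2 * (j * r) + 1 ≤ R) (hN : (2 * r + 1) * (r + 1) < N)
    (hodd : Odd h) (hhn : h ≤ n) (hj0 : 0 < j)
    (hineq : ((e : ℝ) / A - ((r : ℝ) - 1) / ((N : ℝ) * r)) ^ 2 ≤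
      (e : ℝ) / A * ((h : ℝ) * j / ((R : ℝ) - 1)) ^ 2) : False := by
  have h4 : 2 ^ 2 ≤ 2 ^ n := Nat.pow_le_pow_right two_pos hn
  have hr3 : 3 ≤ r := by omega
  have hrR : (3 : ℝ) ≤ r := by exact_mod_cast hr3
  have hN' : (2 * (r : ℝ) + 1) * (r + 1) < N := by exact_mod_cast hN
  have hNpos : (0 : ℝ) < N := by nlinarith
  have hApos : (0 : ℝ) < A := by exact_mod_cast hA
  have hjR : 2 * ((j : ℝ) * r) ≤ (R : ℝ) - 1 := by
    have : (2 : ℝ) * ((j : ℝ) * r) + 1 ≤ R := by exact_mod_cast hj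
    linarith
  have hjpos : (0 : ℝ) < j := by exact_mod_cast hj0
  set σ := (e : ℝ) / A with hσ
  have hσge : 1 / (2 * (r : ℝ)) ≤ σ := by
    rw [hσ, div_le_div_iff₀ (by positivity) hApos]
    have : (A : ℝ) ≤ 2 * r * e := by exact_mod_cast hAe
    linarith
  have hσpos : 0 < σ := lt_of_lt_of_le (by positivity) hσge
  have hX : (h : ℝ) * j / ((R : ℝ) - 1) ≤ h / (2 * r) := by
    rw [div_le_div_iff₀ (by nlinarith) (by positivity)]
    have : (0 : ℝ) ≤ h := Nat.cast_nonneg _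
    nlinarith
  have hX0 : 0 ≤ (h : ℝ) * j / ((R : ℝ) - 1) := div_nonneg (by positivity) (by nlinarith)
  -- the loss
  set c := 1 - 2 * (r : ℝ) / N with hc
  have hc0 : 0 ≤ c := by
    rw [hc, sub_nonneg, div_le_one hNpos]
    nlinarith
  have hcσ : σ * c ≤ σ - ((r : ℝ) - 1) / ((N : ℝ) * r) := by
    have h1 : ((r : ℝ) - 1) / ((N : ℝ) * r) ≤ 1 / N := by
      rw [div_le_div_iff₀ (by positivity) hNpos]
      nlinarith
    have h2 : 1 / (N : ℝ) ≤ σ * (2 * r / N) := by
      have h3 : 1 ≤ σ * (2 * r) := by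
        have := (div_le_iff₀ (by positivity : (0 : ℝ) < 2 * r)).1 hσge
        linarith
      calc 1 / (N : ℝ) ≤ σ * (2 * r) / N := div_le_div_of_nonneg_right h3 hNpos.le
        _ = _ := by ring
    rw [hc, mul_sub, mul_one]
    linarith
  have hmain : σ * c ^ 2 ≤ ((h : ℝ) / (2 * r)) ^ 2 := by
    refine le_of_mul_le_mul_left ?_ hσpos
    calc σ * (σ * c ^ 2) = (σ * c) ^ 2 := by ring
      _ ≤ (σ - ((r : ℝ) - 1) / ((N : ℝ) * r)) ^ 2 :=
        pow_le_pow_left₀ (mul_nonneg hσpos.le hc0) hcσ 2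
      _ ≤ _ := hineq.trans
        (mul_le_mul_of_nonneg_left (pow_le_pow_left₀ hX0 hX 2) hσpos.le)
  have hfin : 2 * (r : ℝ) * c ^ 2 ≤ (h : ℝ) ^ 2 := by
    have h1 := (mul_le_mul_of_nonneg_right hσge (sq_nonneg c)).trans hmain
    rw [div_pow, div_mul_eq_mul_div, one_mul, div_le_div_iff₀ (by positivity) (by positivity)] at h1
    nlinarith
  rcases Nat.lt_or_ge n 3 with hn3 | hn3
  · obtain rfl : n = 2 := by omega
    obtain rfl : r = 3 := by omega
    obtain rfl : h = 1 := by obtain ⟨k, rfl⟩ := hodd; omega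
    have hc1 : (3 : ℝ) / 4 ≤ c := by
      rw [hc, le_sub_iff_add_le, ← le_sub_iff_add_le', div_le_iff₀ hNpos]
      push_cast at hN' ⊢
      nlinarith
    norm_num at hfin
    nlinarith
  · have h8 : 2 ^ 3 ≤ 2 ^ n := Nat.pow_le_pow_right two_pos hn3
    have hr7 : (7 : ℝ) ≤ r := by exact_mod_cast (show 7 ≤ r by omega)
    have hc1 : (7 : ℝ) / 8 ≤ c := by
      rw [hc, le_sub_iff_add_le, ← le_sub_iff_add_le', div_le_iff₀ hNpos]
      nlinarith
    have hb := sq_lt_two_pow (n - 3)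
    rw [Nat.sub_add_cancel hn3] at hb
    have hb' : (32 * n ^ 2 : ℝ) < 49 * r := by
      exact_mod_cast (show 32 * n ^ 2 < 49 * r by omega)
    have hhn' : (h : ℝ) ≤ n := by exact_mod_cast hhn
    have h2 : (h : ℝ) ^ 2 ≤ (n : ℝ) ^ 2 := pow_le_pow_left₀ (Nat.cast_nonneg _) hhn' 2
    have h3 : (49 : ℝ) / 64 ≤ c ^ 2 := by
      have := pow_le_pow_left₀ (by norm_num) hc1 2
      norm_num at this
      exact this
    have h5 := mul_le_mul_of_nonneg_left h3 (by linarith : (0 : ℝ) ≤ 2 * r)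
    linarith

/-- The arithmetic when an element squares the inverted elements. -/
theorem square_arith {P e A r N h j R : ℕ} (hA : 0 < A) (hh : 0 < h) (hhP : h ≤ P)
    (hAe : A * h ≤ 4 * P * e) (hj : j ≤ r + 2) (hR : 3 * P * (r + 2) + 1 ≤ R)
    (hN : 12 * P < N) (hr : 0 < r)
    (hineq : ((e : ℝ) / A - ((r : ℝ) - 1) / ((N : ℝ) * r)) ^ 2 ≤
      (e : ℝ) / A * ((h : ℝ) * j / ((R : ℝ) - 1)) ^ 2) : False := by
  have hP : (0 : ℝ) < P := by exact_mod_cast (by omega : 0 < P)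
  have hApos : (0 : ℝ) < A := by exact_mod_cast hA
  have hh1 : (1 : ℝ) ≤ h := by exact_mod_cast hh
  have hrR : (1 : ℝ) ≤ r := by exact_mod_cast hr
  have hjR : (j : ℝ) ≤ r + 2 := by exact_mod_cast hj
  have hRR : 3 * (P : ℝ) * (r + 2) ≤ (R : ℝ) - 1 := by
    have : 3 * (P : ℝ) * (r + 2) + 1 ≤ R := by exact_mod_cast hR
    linarith
  have hN' : 12 * (P : ℝ) < N := by exact_mod_cast hN
  have hNpos : (0 : ℝ) < N := by linarith
  set σ := (e : ℝ) / A with hσ
  have hσge : (h : ℝ) / (4 * P) ≤ σ := by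
    rw [hσ, div_le_div_iff₀ (by positivity) hApos]
    have : (A : ℝ) * h ≤ 4 * P * e := by exact_mod_cast hAe
    linarith
  have hσpos : 0 < σ := lt_of_lt_of_le (by positivity) hσge
  have hX : (h : ℝ) * j / ((R : ℝ) - 1) ≤ h / (3 * P) := by
    rw [div_le_div_iff₀ (by nlinarith) (by positivity)]
    have h1 : (j : ℝ) * (3 * P) ≤ (R : ℝ) - 1 :=
      ((mul_le_mul_of_nonneg_right hjR (by positivity)).trans_eq (by ring)).trans hRR
    calc (h : ℝ) * j * (3 * P) = h * (j * (3 * P)) := by ring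
      _ ≤ _ := mul_le_mul_of_nonneg_left h1 (by positivity)
  have hX0 : 0 ≤ (h : ℝ) * j / ((R : ℝ) - 1) := div_nonneg (by positivity) (by nlinarith)
  have hd : 2 / 3 * σ < σ - ((r : ℝ) - 1) / ((N : ℝ) * r) := by
    have h1 : ((r : ℝ) - 1) / ((N : ℝ) * r) ≤ 1 / N := by
      rw [div_le_div_iff₀ (by positivity) hNpos]
      nlinarith
    have h2 : 1 / (N : ℝ) < h / (12 * P) := by
      rw [div_lt_div_iff₀ hNpos (by positivity)]
      nlinarith
    have h3 : (h : ℝ) / (12 * P) = h / (4 * P) / 3 := by rw [div_div]; congr 1; ring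
    linarith
  have hmain : σ * (4 / 9 * σ) < σ * ((h : ℝ) / (3 * P)) ^ 2 := by
    calc σ * (4 / 9 * σ) = (2 / 3 * σ) ^ 2 := by ring
      _ < (σ - ((r : ℝ) - 1) / ((N : ℝ) * r)) ^ 2 :=
        pow_lt_pow_left₀ hd (by positivity) two_ne_zero
      _ ≤ _ := hineq.trans
        (mul_le_mul_of_nonneg_left (pow_le_pow_left₀ hX0 hX 2) hσpos.le)
  have h1 := lt_of_mul_lt_mul_left hmain hσpos.le
  rw [div_pow, lt_div_iff₀ (by positivity)] at h1
  rw [div_le_iff₀ (by positivity)] at hσge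
  have hhP' : (h : ℝ) ≤ P := by exact_mod_cast hhP
  nlinarith

namespace Setting

variable {G : Type u} [Group G] [Finite G] {H : Subgroup G}
  {a b : G ⧸ H} {u : G} {p : ℕ} {R : Subgroup G} (s : Setting a b u p R)

include s

/-- The configuration does not occur. -/
theorem false_of_elementary (hRel : Cfsg.IsElementaryAbelian p R) : False := by
  classical
  haveI := Fact.mk s.prime
  obtain ⟨n, -, hn⟩ := s.exists_card_E
  obtain ⟨hn2, hr⟩ := s.mult_eq hn
  obtain ⟨t, ht, hta⟩ := SE.exists_involution_fixing s.min.se a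
  have hineq := s.principal_inequality hRel ht hta
  have hA : 0 < Nat.card (stabilizer G a) := Nat.card_pos
  have h4 : 2 ^ 2 ≤ 2 ^ n := Nat.pow_le_pow_right two_pos hn2
  have hN : Nat.card R * (mult H + 1) < Nat.card (G ⧸ H) := by
    refine lt_of_le_of_lt (Nat.mul_le_mul_left _ ?_) s.card_mul_lt_cosets
    have hc := s.card_E
    have hle := Nat.le_of_dvd Nat.card_pos (Subgroup.card_dvd_of_le s.E_le_S0)
    omega
  obtain ⟨hjodd, hjr⟩ := s.odd_jIndex_dvd
  rcases s.central_or_square hn with ⟨q, hq, k, hkK, hko, hkD⟩ | ⟨w, hw, hwk⟩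
  · haveI := Fact.mk hq
    obtain ⟨hodd, hhn⟩ := s.hIndex_le_rank hkK hko hkD ht hta hn
    have hR1 : 1 < Nat.card R := (Subgroup.one_lt_card_iff_ne_bot R).2 s.ne
    have hRodd := odd_of_pgroup s.ne_two s.group
    have hrodd : Odd (mult H) := by
      rw [hr]
      exact Nat.Even.sub_odd Nat.one_le_two_pow (Nat.even_pow.2 ⟨even_two, by omega⟩) odd_one
    have h2 : 2 * (s.jIndex * mult H) ∣ Nat.card R - 1 :=
      (Nat.coprime_two_left.2 (hjodd.mul hrodd)).mul_dvd_of_dvd_of_dvd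
        (by obtain ⟨c, hc⟩ := hRodd; exact ⟨c, by omega⟩) hjr
    have hj : 2 * (s.jIndex * mult H) + 1 ≤ Nat.card R := by
      have := Nat.le_of_dvd (by omega) h2
      omega
    have hj1 : mult H ≤ s.jIndex * mult H := Nat.le_mul_of_pos_left _ hjodd.pos
    refine central_arith hn2 hr hA ?_ hj ?_ hodd hhn hjodd.pos hineq
    · rw [s.card_stabilizer ht hta, mul_comm 2, mul_assoc]
      exact Nat.mul_le_mul_left _ (s.card_centralizer_le_even ht hta)
    · exact lt_of_le_of_lt (Nat.mul_le_mul_right _ (by omega)) hN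
  · have hn3 : 3 ≤ n := by
      obtain ⟨i, rfl⟩ := s.odd_rank hn hw hwk
      omega
    set P := ∏ i ∈ Finset.Ico 1 n, (2 ^ n - 2 ^ i) with hP
    have hh := s.hIndex_le hn ht hta
    have hR : 3 * P * (mult H + 2) + 1 ≤ Nat.card R := by
      refine le_trans ?_ (s.pow_le_card_R hn hw hwk hRel)
      rw [show mult H + 2 = 2 ^ n + 1 by omega]
      exact three_mul_prod_le hn3
    refine square_arith hA (s.hIndex_pos t) hh (s.hIndex_mul_le_even hn ht hta) s.jIndex_le hR ?_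
      (by omega) hineq
    have h8 : 2 ^ 3 ≤ 2 ^ n := Nat.pow_le_pow_right two_pos hn3
    refine lt_of_le_of_lt ?_ hN
    calc 12 * P ≤ 3 * P * (mult H + 2) := by
          rw [show 12 * P = 3 * P * 4 by ring]; exact Nat.mul_le_mul_left _ (by omega)
      _ ≤ Nat.card R := by omega
      _ ≤ Nat.card R * (mult H + 1) := Nat.le_mul_of_pos_right _ (by omega)

end Setting

variable {G : Type u} [Group G] [Finite G] {H : Subgroup G}

/-- The preimage of an odd normal subgroup under a map without involutions in its kernel. -/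
theorem comap_le_oddCore {Q : Type u} [Group Q] [Finite Q] (f : G →* Q)
    (hker : Odd (Nat.card f.ker)) {M : Subgroup Q} [M.Normal] (hM : Odd (Nat.card M)) :
    M.comap f ≤ Cfsg.oddCore G := by
  refine ZStar.le_oddCore inferInstance ?_
  rw [← Nat.not_even_iff_odd]
  intro hev
  obtain ⟨x, hx, hx2⟩ := Basic.exists_involution_of_even _ hev
  have h1 : f x = 1 := by
    have hdvd : orderOf (f x) ∣ Nat.card M := Subgroup.orderOf_dvd_natCard M hx
    exact orderOf_eq_one_iff.1 (Nat.eq_one_of_dvd_coprimes (Nat.coprime_two_right.2 hM) hdvd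
      (hx2 ▸ orderOf_map_dvd f x))
  have h2 : orderOf x ∣ Nat.card f.ker := Subgroup.orderOf_dvd_natCard _ (MonoidHom.mem_ker.2 h1)
  rw [hx2] at h2
  exact Nat.not_even_iff_odd.2 hker (even_iff_two_dvd.2 h2)

theorem map_oddCore_normal (h : ∀ g : G, ∃ x ∈ H, ∃ c ∈ (Cfsg.oddCore G), g = c * x) :
    (((Cfsg.oddCore H).map H.subtype).map (QuotientGroup.mk' (Cfsg.oddCore G))).Normal := by
  refine ⟨fun y hy q => ?_⟩
  obtain ⟨g, rfl⟩ := QuotientGroup.mk'_surjective (Cfsg.oddCore G) q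
  obtain ⟨x, hx, c, hc, rfl⟩ := h g
  obtain ⟨_, ⟨z, hz, rfl⟩, rfl⟩ := hy
  have hc1 : QuotientGroup.mk' (Cfsg.oddCore G) c = 1 := (QuotientGroup.eq_one_iff c).2 hc
  rw [map_mul, hc1, one_mul, ← map_inv, ← map_mul, ← map_mul]
  haveI : (Cfsg.oddCore H).Normal := ZStar.oddCore_normal
  exact mem_map_of_mem _ ⟨⟨x, hx⟩ * z * ⟨x, hx⟩⁻¹,
    Subgroup.Normal.conj_mem inferInstance z hz _, rfl⟩

/-- The theorem when no two involutions commute. -/
theorem oddCore_le_of_rank_one (hH : Cfsg.IsStronglyEmbedded H)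
    (hcomm : ¬ ∃ x y : G, orderOf x = 2 ∧ orderOf y = 2 ∧ x ≠ y ∧ Commute x y) :
    (Cfsg.oddCore H).map H.subtype ≤ Cfsg.oddCore G := by
  obtain ⟨t, htH, ht⟩ := Basic.exists_involution_of_even H hH.2.1
  have hiso : Cfsg.IsIsolatedInvolution t := ⟨ht, fun g hc => by
    by_contra hne
    exact hcomm ⟨t, g * t * g⁻¹, ht, (Dihedral.orderOf_conj g t).trans ht, Ne.symm hne, hc⟩⟩
  have hfix : t • ((1 : G) : G ⧸ H) = ((1 : G) : G ⧸ H) := by
    rw [SE.fixes_mk_iff]; simpa using htH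
  have hC : ∀ c ∈ centralizer ({t} : Set G), c ∈ H := fun c hc => by
    have h1 := SE.commute_fixes hH ht hfix (mem_centralizer_singleton_iff.1 hc : Commute c t)
    rw [SE.fixes_mk_iff] at h1
    simpa using h1
  haveI := map_oddCore_normal (H := H) fun g => by
    obtain ⟨o, ho, c, hc, e⟩ :=
      ZStar.exists_oddCore_mul_centralizer (ZStar.starCentral G) hiso g
    exact ⟨c, hC c hc, o, ho, e⟩
  haveI : (Cfsg.oddCore G).Normal := ZStar.oddCore_normal
  refine le_trans (Subgroup.le_comap_map (QuotientGroup.mk' (Cfsg.oddCore G)) _)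
    (comap_le_oddCore _ (by rw [QuotientGroup.ker_mk']; exact ZStar.odd_card_oddCore) ?_)
  exact (Min.odd_oddCore_map H).of_dvd_nat (Subgroup.card_map_dvd _ _)

/-- The theorem modulo the core of `H`. -/
theorem oddCore_le_of_core (hH : Cfsg.IsStronglyEmbedded H) (hcore : H.normalCore ≠ ⊥)
    (ih : CoreBelow.{u} (Nat.card G)) :
    (Cfsg.oddCore H).map H.subtype ≤ Cfsg.oddCore G := by
  set C := H.normalCore with hC
  have hCH : C ≤ H := H.normalCore_le
  obtain ⟨b, hb⟩ := exists_ne_coset hH ((1 : G) : G ⧸ H)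
  have hCodd : ∀ t ∈ C, orderOf t ≠ 2 := by
    intro t ht ht2
    have hfix : ∀ c : G ⧸ H, t • c = c := by
      intro c
      induction c using QuotientGroup.induction_on with
      | H g =>
        rw [SE.fixes_mk_iff]
        simpa using ht g⁻¹
    exact hb (SE.fixed_unique hH ht2 (hfix b) (hfix _))
  set π := QuotientGroup.mk' C with hπ
  have hπ2 : ∀ t : G, orderOf t = 2 → orderOf (π t) = 2 := fun t ht =>
    orderOf_eq_two (by rw [← map_mul, mul_self ht, map_one])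
      fun h => hCodd t ((QuotientGroup.eq_one_iff t).1 h) ht
  have hπH : ∀ {g : G}, π g ∈ H.map π → g ∈ H := fun {g} h => by
    obtain ⟨x, hx, e⟩ := h
    have h1 : x⁻¹ * g ∈ C := QuotientGroup.eq.1 e
    simpa using mul_mem hx (hCH h1)
  have hcard : Nat.card (G ⧸ C) < Nat.card G := Solvable.Basic.card_quotient_lt C hcore
  have hSE : Cfsg.IsStronglyEmbedded (H.map π) := by
    refine ⟨fun h => hH.1 (eq_top_iff.2 fun g _ => hπH (h ▸ mem_top _)), ?_, fun g hg => ?_⟩
    · obtain ⟨t, htH, ht⟩ := Basic.exists_involution_of_even H hH.2.1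
      rw [even_iff_two_dvd, ← hπ2 t ht]
      exact Subgroup.orderOf_dvd_natCard _ (mem_map_of_mem π htH)
    · obtain ⟨g, rfl⟩ := QuotientGroup.mk'_surjective C g
      have hgH : g ∉ H := fun h => hg (mem_map_of_mem π h)
      refine (hH.2.2 g hgH).of_dvd_nat ((Subgroup.card_dvd_of_le ?_).trans
        (Subgroup.card_map_dvd _ π))
      rintro _ ⟨⟨k, hk, rfl⟩, ⟨_, ⟨l, hl, rfl⟩, e⟩⟩
      refine ⟨k, ⟨hk, g⁻¹ * k * g, ?_, by simp [mul_assoc]⟩, rfl⟩
      refine hπH ?_
      change π g * π l * (π g)⁻¹ = π k at e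
      rw [map_mul, map_mul, map_inv, ← e]
      exact ⟨l, hl, by group⟩
  have h1 := ih (G ⧸ C) (H.map π) hcard hSE
  haveI : (Cfsg.oddCore H).Normal := ZStar.oddCore_normal
  have h2 : (Cfsg.oddCore H).map (π.subgroupMap H) ≤ Cfsg.oddCore (H.map π) :=
    ZStar.le_oddCore (Subgroup.Normal.map inferInstance _ (π.subgroupMap_surjective H))
      (ZStar.odd_card_oddCore.of_dvd_nat (Subgroup.card_map_dvd _ _))
  haveI : (Cfsg.oddCore (G ⧸ C)).Normal := ZStar.oddCore_normal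
  refine fun x hx => comap_le_oddCore π ?_ (M := Cfsg.oddCore (G ⧸ C)) ZStar.odd_card_oddCore ?_
  · rw [QuotientGroup.ker_mk', ← Nat.not_even_iff_odd]
    intro hev
    obtain ⟨t, ht, ht2⟩ := Basic.exists_involution_of_even _ hev
    exact hCodd t ht ht2
  obtain ⟨y, hy, rfl⟩ := hx
  exact h1 ⟨π.subgroupMap H y, h2 (mem_map_of_mem _ hy), rfl⟩

/-- The reduced case. -/
theorem Min.oddCore_eq_bot (h : Min H) : Cfsg.oddCore H = ⊥ := by
  by_contra hne
  haveI : (Cfsg.oddCore H).Normal := ZStar.oddCore_normal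
  obtain ⟨N, hN, hN1, hNle, hmin⟩ := Solvable.Basic.exists_minimal_normal_le hne
  haveI := hN
  have hNodd : Odd (Nat.card N) := ZStar.odd_card_oddCore.of_dvd_nat (Subgroup.card_dvd_of_le hNle)
  haveI : Group.IsSolvable N := OddOrder.Final.oddSolvable N hNodd
  obtain ⟨hc, p, hp, hexp, hpN⟩ := Solvable.Basic.minimal_normal_solvable N hN1 hmin
  haveI := Fact.mk hp
  set R := N.map H.subtype with hR
  set a : G ⧸ H := ((1 : G) : G ⧸ H) with ha
  have hstab : stabilizer G a = H := MulAction.stabilizer_quotient H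
  obtain ⟨b, hb⟩ := exists_ne_coset h.se a
  obtain ⟨u, hu, hub⟩ := BenderTransitive.exists_swap h.se hb.symm
  have hp2 : p ≠ 2 := by
    rintro rfl
    obtain ⟨i, hi⟩ := hpN.exists_card_eq
    rcases i with _ | i
    · exact hN1 (Subgroup.eq_bot_of_card_eq N (by rw [hi, pow_zero]))
    · rw [hi] at hNodd
      exact Nat.not_even_iff_odd.2 hNodd (Nat.even_pow.2 ⟨even_two, i.succ_ne_zero⟩)
  have hRel : Cfsg.IsElementaryAbelian p R := by
    refine ⟨Solvable.Basic.isMulCommutative_subgroup_iff.2 ?_, ?_⟩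
    · rintro _ ⟨x, hx, rfl⟩ _ ⟨y, hy, rfl⟩
      rw [← map_mul, ← map_mul, Solvable.Basic.isMulCommutative_subgroup_iff.1 hc x hx y hy]
    · rintro _ ⟨x, hx, rfl⟩
      rw [← map_pow, hexp x hx, map_one]
  exact Setting.false_of_elementary
    (⟨⟨h, hp, hp2, hpN.map _, fun e => hN1 ((Subgroup.map_eq_bot_iff_of_injective _
        H.subtype_injective).1 e), hstab.symm ▸ map_subtype_le N, fun g hg => by
        rw [hstab] at hg
        exact Coprime.mem_normalizer_of_conj_map_le fun x ⟨z, hz, e⟩ =>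
          ⟨⟨g, hg⟩ * z * ⟨g, hg⟩⁻¹, hN.conj_mem z hz _, by rw [← e]; rfl⟩⟩,
      hb.symm, hu, hub⟩ : Setting a b u p R) hRel

/-- The containment for all orders below `n`. -/
theorem coreBelow (n : ℕ) : CoreBelow.{u} n := by
  induction n with
  | zero => intro G _ _ H hG _; exact absurd hG (Nat.not_lt_zero _)
  | succ n ih =>
    intro G _ _ H hG hH
    have ih' : CoreBelow.{u} (Nat.card G) := fun G' _ _ H' hG' => ih G' H' (by omega)
    by_cases hcomm : ∃ x y : G, orderOf x = 2 ∧ orderOf y = 2 ∧ x ≠ y ∧ Commute x y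
    · by_cases hcore : H.normalCore = ⊥
      · rw [(⟨hH, hcomm, hcore, ih'⟩ : Min H).oddCore_eq_bot, Subgroup.map_bot]
        exact bot_le
      · exact oddCore_le_of_core hH hcore ih'
    · exact oddCore_le_of_rank_one hH hcomm

/-- The odd core of a strongly embedded subgroup lies in the odd core of the group. -/
theorem oddCore_le (hH : Cfsg.IsStronglyEmbedded H) :
    (Cfsg.oddCore H).map H.subtype ≤ Cfsg.oddCore G :=
  coreBelow (Nat.card G + 1) G H (Nat.lt_succ_self _) hH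

end CfsgLib.LocalEven.StrongCore
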