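import Cfsg.Agent.Lib.LocalEven.StrongCore.Dbar

/-!
# Automisers of subgroups of the kernel, and the centraliser of `S0`

A `2`-element at `a` normalising a subgroup of the kernel `W0` centralises it; the `2`-elements at
`a` centralising `S0` and a subgroup of `W0` lie in `S0`.
-/

set_option autoImplicit false
set_option linter.style.haveILetI false

namespace CfsgLib.LocalEven.StrongCore

open Subgroup MulAction CfsgLib.Involution.Dihedral CfsgLib.Involution
  CfsgLib.LocalEven.BenderTransitive CfsgLib.LocalEven.SwapInjective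

universe u

variable {G : Type u} [Group G] [Finite G] {H : Subgroup G}

/-- A subgroup containing the prime-power elements of `V` contains `V`. -/
theorem le_of_primePow_mem {V C : Subgroup G}
    (h : ∀ ℓ : ℕ, ℓ.Prime → ∀ z ∈ V, IsPGroup ℓ (zpowers z) → z ∈ C) : V ≤ C := by
  have hdvd : Nat.card V ∣ Nat.card ↥(C ⊓ V) := by
    refine (Nat.factorization_le_iff_dvd Nat.card_pos.ne' Nat.card_pos.ne').1 fun ℓ => ?_
    by_cases hℓ : ℓ.Prime
    · haveI := Fact.mk hℓ
      let S : Sylow ℓ V := default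
      have hle : (S : Subgroup V).map V.subtype ≤ C ⊓ V := by
        refine le_inf ?_ (map_subtype_le _)
        rintro _ ⟨z, hz, rfl⟩
        exact h ℓ hℓ _ z.2
          ((S.isPGroup'.map V.subtype).to_le (zpowers_le.2 ⟨z, hz, rfl⟩))
      have h1 := Subgroup.card_dvd_of_le hle
      rw [Coprime.card_map_subtype, S.card_eq_multiplicity] at h1
      exact (hℓ.pow_dvd_iff_le_factorization Nat.card_pos.ne').1 h1
    · rw [Nat.factorization_eq_zero_of_not_prime _ hℓ]
      exact Nat.zero_le _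
  have := Subgroup.eq_of_le_of_card_ge (inf_le_right : C ⊓ V ≤ V)
    (Nat.le_of_dvd Nat.card_pos hdvd)
  exact this ▸ inf_le_left

omit [Finite G] in
/-- An element is in a subgroup containing two of its coprime powers. -/
theorem mem_of_coprime_powers {C : Subgroup G} {g : G} {i j : ℕ} (hi : g ^ i ∈ C) (hj : g ^ j ∈ C)
    (h : i.Coprime j) : g ∈ C := by
  have h1 : g ^ ((i.gcd j : ℕ) : ℤ) ∈ C := by
    rw [Nat.gcd_eq_gcd_ab, zpow_add, zpow_mul, zpow_mul, zpow_natCast, zpow_natCast]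
    exact mul_mem (zpow_mem hi _) (zpow_mem hj _)
  rwa [h, Nat.cast_one, zpow_one] at h1

/-- An element whose parts for the primes below `ℓ` centralise a cyclic `ℓ`-group acts on it with
`ℓ`-power order. -/
theorem exists_pow_mem_centralizer_of_small {ℓ : ℕ} [hℓ : Fact ℓ.Prime] {U : Subgroup G}
    [IsCyclic U] (hU : IsPGroup ℓ U) {n : G} (hnU : n ∈ normalizer (U : Set G))
    (hn : ∀ m : ℕ, m.Prime → m < ℓ →
      n ^ (orderOf n / m ^ (orderOf n).factorization m) ∈ centralizer (U : Set G)) :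
    ∃ k : ℕ, n ^ ℓ ^ k ∈ centralizer (U : Set G) := by
  set N : normalizer (U : Set G) := ⟨n, hnU⟩
  set φ := U.normalizerMonoidHom
  have key : ∀ i : ℕ, n ^ i ∈ centralizer (U : Set G) ↔ φ N ^ i = 1 := fun i => by
    rw [← map_pow, ← MonoidHom.mem_ker, Subgroup.normalizerMonoidHom_ker, mem_subgroupOf,
      SubmonoidClass.coe_pow]
  obtain ⟨j, hj⟩ := hU.exists_card_eq
  have h1 : orderOf (φ N) ∣ Nat.totient (ℓ ^ j) := by
    rw [← hj, ← IsCyclic.card_mulAut]
    exact orderOf_dvd_natCard _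
  have h2 : orderOf (φ N) ∣ orderOf n :=
    (orderOf_map_dvd φ N).trans (Subgroup.orderOf_mk n hnU).dvd
  obtain ⟨k, hk⟩ : ∃ k : ℕ, orderOf (φ N) = ℓ ^ k := by
    refine ⟨_, Nat.eq_prime_pow_of_unique_prime_dvd (orderOf_pos (φ N)).ne' fun {m} hm hd => ?_⟩
    by_contra hne
    rcases j with _ | j
    · rw [pow_zero, Nat.totient_one] at h1
      exact absurd (hd.trans h1) hm.not_dvd_one
    rw [Nat.totient_prime_pow_succ hℓ.out] at h1
    have hlt : m < ℓ := by
      rcases hm.dvd_mul.1 (hd.trans h1) with h | h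
      · exact absurd ((Nat.prime_dvd_prime_iff_eq hm hℓ.out).1 (hm.dvd_of_dvd_pow h)) hne
      · have := hℓ.out.two_le
        have := Nat.le_of_dvd (by omega) h
        omega
    exact Nat.not_dvd_ordCompl hm (orderOf_pos n).ne'
      (hd.trans (orderOf_dvd_of_pow_eq_one ((key _).1 (hn m hm hlt))))
  exact ⟨k, (key _).2 (hk ▸ pow_orderOf_eq_one _)⟩

namespace Setting

variable {a b : G ⧸ H} {u : G} {p : ℕ} {R : Subgroup G} (s : Setting a b u p R)

include s

/-- The subgroup of `G_a` centralising `S0`. -/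
def C1 (s : Setting a b u p R) : Subgroup G := stabilizer G a ⊓ centralizer (s.S0 : Set G)

theorem normalizer_C1 : stabilizer G a ≤ normalizer (s.C1 : Set G) := fun _ hg =>
  mem_normalizer_inf' (le_normalizer hg) (mem_normalizer_centralizer (s.normalizer_S0 hg))

theorem C1_le_centralizer_E : s.C1 ≤ centralizer (s.E : Set G) :=
  inf_le_right.trans (centralizer_le s.E_le_S0)

theorem swap_mem_centralizer {Y : Subgroup G} (hY : Y ≤ s.W0) :
    u ∈ centralizer (Y : Set G) :=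
  mem_centralizer_iff.2 fun _ hy => (s.commute_swap_W0 (hY hy)).symm.eq

theorem E_le_centralizer {Y : Subgroup G} (hY : Y ≤ s.W0) : s.E ≤ centralizer (Y : Set G) :=
  fun _ he => mem_centralizer_iff.2 fun _ hy => (s.commute_W0_E (hY hy) he).eq

theorem K_le_centralizer {Y : Subgroup G} (hY : Y ≤ s.W0) : s.K ≤ centralizer (Y : Set G) :=
  fun _ hk => mem_centralizer_iff.2 fun _ hy =>
    (s.commute_inverted_W0 (s.mem_K.1 hk).1 (s.mem_K.1 hk).2 (hY hy)).symm.eq

/-- The kernel acts fixed-point-freely on `R`. -/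
theorem eq_one_of_W0_commute {x v : G} (hx : x ∈ s.W0) (hx1 : x ≠ 1) (hv : v ∈ R)
    (hxv : Commute x v) : v = 1 := by
  have ho : orderOf x ≠ 1 := fun e => hx1 (orderOf_eq_one_iff.1 e)
  haveI := Fact.mk (Nat.minFac_prime ho)
  set y := x ^ (orderOf x / (orderOf x).minFac)
  have hyo : orderOf y = (orderOf x).minFac :=
    orderOf_pow_orderOf_div (orderOf_pos x).ne' (Nat.minFac_dvd _)
  obtain ⟨t, t', ht, hta, ht', hta', -, hne⟩ := exists_four s.min.se s.min.comm a
  have hE : ∀ {s' : G}, orderOf s' = 2 → s' • a = a → Commute s' y := fun hs' hsa =>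
    (s.commute_W0_E (pow_mem hx _) (s.mem_E_of_involution hs' hsa)).symm
  exact s.eq_one_of_commute_two (pow_mem hx.1 _) hyo ht hta (hE ht hta) ht' hta' (hE ht' hta')
    hne hv (hxv.pow_left _)

/-- The prime-power subgroups of the kernel are cyclic. -/
theorem isCyclic_of_W0 {ℓ : ℕ} [hℓ : Fact ℓ.Prime] (hℓ2 : ℓ ≠ 2) {Q : Subgroup G}
    (hQ : IsPGroup ℓ Q) (hQW : Q ≤ s.W0) : IsCyclic Q := by
  have hfpf : ∀ g ∈ Q, g ≠ 1 → R ⊓ centralizer {g} = ⊥ := fun g hg hg1 =>
    (Subgroup.eq_bot_iff_forall _).2 fun v hv => by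
      have hvg : Commute v g := mem_centralizer_singleton_iff.1 hv.2
      exact s.eq_one_of_W0_commute (hQW hg) hg1 hv.1 hvg.symm
  obtain ⟨T, hT⟩ : ∃ T : Sylow ℓ Q, (T : Subgroup Q) = ⊤ := by
    obtain ⟨T, hT⟩ := (hQ.of_equiv topEquiv.symm : IsPGroup ℓ (⊤ : Subgroup Q)).exists_le_sylow
    exact ⟨T, top_le_iff.1 hT⟩
  rcases FrobRealize.FPF.sylow_cyclic_or_quaternion s.ne
    (hQW.trans (s.W0_le_D.trans (inf_le_left.trans s.normal))) hfpf T with hc | ⟨h2, -⟩
  · rw [hT] at hc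
    exact (topEquiv (G := Q)).isCyclic.1 hc
  · exact absurd h2 hℓ2

/-- A `2`-element at `a` normalising a subgroup of the kernel centralises it. -/
theorem mem_centralizer_of_two {Y : Subgroup G} (hY : Y ≤ s.W0) {n : G}
    (hn : n ∈ stabilizer G a) (hnY : n ∈ normalizer (Y : Set G)) {k : ℕ} (hk : n ^ 2 ^ k = 1) :
    n ∈ centralizer (Y : Set G) := by
  set X := centralizer (Y : Set G) with hX
  have huX : u ∈ X := s.swap_mem_centralizer hY
  obtain ⟨v, w, hv, hva, hw, hwa, hvw, hne⟩ := exists_four s.min.se s.min.comm a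
  have hna : n • a = a := mem_stabilizer_iff.1 hn
  have hγ : n * u * n⁻¹ ∈ X :=
    BenderTransitive.conj_mem_of_mem_normalizer (mem_normalizer_centralizer hnY) huX
  have hγa : (n * u * n⁻¹) • a = n • b := by
    rw [mul_smul, mul_smul, inv_smul_eq_iff.2 hna.symm, s.swap]
  have hnb : n • b ≠ a := fun h => s.hab (by
    have h1 := h.trans hna.symm
    exact (smul_left_cancel n h1).symm)
  obtain ⟨c, hcX, hca, hcb⟩ := orbit_pair s.min.se hv
    (s.E_le_centralizer hY (s.mem_E_of_involution hv hva)) hva hw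
    (s.E_le_centralizer hY (s.mem_E_of_involution hw hwa)) hvw hne huX hγ s.u_ne
    (by rw [hγa]; exact hnb)
  rw [s.swap, hγa] at hcb
  set d := c⁻¹ * n with hd
  have hdD : d ∈ stab2 a b := mem_stab2.2
    ⟨by rw [mul_smul, hna, inv_smul_eq_iff.2 hca.symm],
      by rw [mul_smul, inv_smul_eq_iff, hcb]⟩
  have hcY : c ∈ normalizer (Y : Set G) := Coprime.mem_normalizer_of_conj_map_le fun y hy => by
    rw [← mem_centralizer_iff.1 hcX y hy, mul_inv_cancel_right]
    exact hy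
  have hdY : d ∈ normalizer (Y : Set G) := mul_mem (inv_mem hcY) hnY
  set φ := Y.normalizerMonoidHom
  have hker : ∀ {x : G} (hx : x ∈ normalizer (Y : Set G)), φ ⟨x, hx⟩ = 1 ↔ x ∈ X := fun {x} hx => by
    rw [← MonoidHom.mem_ker, Subgroup.normalizerMonoidHom_ker, mem_subgroupOf]
  have he : φ ⟨d, hdY⟩ = φ ⟨n, hnY⟩ := by
    rw [show (⟨d, hdY⟩ : normalizer (Y : Set G)) = ⟨c, hcY⟩⁻¹ * ⟨n, hnY⟩ from rfl, map_mul,
      map_inv, (hker hcY).2 hcX, inv_one, one_mul]
  refine (hker hnY).1 (orderOf_eq_one_iff.1 ?_)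
  have h1 : orderOf (φ ⟨n, hnY⟩) ∣ 2 ^ k :=
    (orderOf_map_dvd φ _).trans ((Subgroup.orderOf_mk n hnY).dvd.trans (orderOf_dvd_of_pow_eq_one hk))
  have h2 : orderOf (φ ⟨n, hnY⟩) ∣ orderOf d :=
    he ▸ (orderOf_map_dvd φ _).trans (Subgroup.orderOf_mk d hdY).dvd
  exact Nat.eq_one_of_dvd_coprimes ((Nat.coprime_two_left.2 (s.odd_mem hdD)).pow_left k) h1 h2

/-- The `2`-elements of a subgroup of `G_a` of order prime to `q` normalised by an inverted element
of order `q` lie in `S0`. -/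
theorem mem_S0_of_coprime {k : G} {q : ℕ} [hq : Fact q.Prime] (hko : orderOf k = q)
    (hk : k ∈ stab2 a b) (hinv : u * k * u⁻¹ = k⁻¹) {M : Subgroup G} (hM : M ≤ stabilizer G a)
    (hkM : k ∈ normalizer (M : Set G)) (hqM : ¬ q ∣ Nat.card M) {g : G} (hg : g ∈ M) {i : ℕ}
    (hi : g ^ 2 ^ i = 1) : g ∈ s.S0 := by
  haveI := Fact.mk Nat.prime_two
  have hcop : (Nat.card (zpowers k)).Coprime (Nat.card M) := by
    rw [Nat.card_zpowers, hko]
    exact hq.out.coprime_iff_not_dvd.2 hqM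
  obtain ⟨T, hT⟩ := Coprime.exists_invariant_sylow (A := zpowers k) (K := M) (zpowers_le.2 hkM)
    hcop (.inl (Coprime.isSolvable_zpowers k)) 2
  have hTS : (T : Subgroup M).map M.subtype ≤ s.S0 :=
    s.le_S0 hq.out hko hk hinv (T.isPGroup'.map M.subtype) ((map_subtype_le _).trans hM)
      (hT (mem_zpowers k))
  have hg2 : IsPGroup 2 (zpowers (⟨g, hg⟩ : M)) := by
    obtain ⟨j, -, hj⟩ := (Nat.dvd_prime_pow Nat.prime_two).1 (orderOf_dvd_of_pow_eq_one hi)
    exact IsPGroup.of_card (n := j) (by rw [Nat.card_zpowers, Subgroup.orderOf_mk, hj])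
  obtain ⟨T', hT'⟩ := hg2.exists_le_sylow
  obtain ⟨m, rfl⟩ := MulAction.exists_smul_eq M T T'
  have h1 : g ∈ ((m • T : Sylow 2 M) : Subgroup M).map M.subtype :=
    ⟨_, hT' (mem_zpowers _), rfl⟩
  rw [Coprime.map_smul_sylow] at h1
  obtain ⟨x, hx, rfl⟩ := h1
  exact BenderTransitive.conj_mem_of_mem_normalizer (s.normalizer_S0 (hM m.2)) (hTS hx)

/-- The `2`-elements centralising `S0` and a subgroup of the kernel lie in `S0`. -/
theorem mem_S0_of_C1 {Y : Subgroup G} (hY : Y ≤ s.W0) {g : G} (hg : g ∈ s.C1)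
    (hgY : g ∈ centralizer (Y : Set G)) {k : ℕ} (hk : g ^ 2 ^ k = 1) : g ∈ s.S0 := by
  suffices h : ∀ Y ≤ s.W0, twoGen (s.C1 ⊓ centralizer (Y : Set G)) ≤ s.S0 from
    h Y hY (mem_twoGen (Subgroup.mem_inf.2 ⟨hg, hgY⟩) hk)
  clear hY hgY hg hk Y g k
  intro Y
  induction Y using WellFoundedGT.induction with
  | _ Y ih =>
  intro hY
  classical
  set X := centralizer (Y : Set G) with hX
  set M := twoGen (s.C1 ⊓ X) with hMdef
  have hMC1 : M ≤ s.C1 := (twoGen_le _).trans inf_le_left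
  have hMX : M ≤ X := (twoGen_le _).trans inf_le_right
  have hMa : M ≤ stabilizer G a := hMC1.trans inf_le_left
  have hcentral : ∀ x ∈ M, ∀ y ∈ s.S0, Commute x y := fun x hx y hy =>
    (mem_centralizer_iff.1 (hMC1 hx).2 y hy).symm
  have hnorm : ∀ x ∈ stabilizer G a, x ∈ normalizer (X : Set G) →
      x ∈ normalizer (M : Set G) := fun x hx hxX =>
    normalizer_twoGen _ (mem_normalizer_inf' (s.normalizer_C1 hx) hxX)
  have hXnorm : X ≤ normalizer (X : Set G) := le_normalizer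
  set V := M ⊓ stab2 a b with hV
  have hVW : V ≤ s.W0 := le_inf inf_le_right (inf_le_left.trans (hMC1.trans s.C1_le_centralizer_E))
  -- a prime dividing `mult H`
  obtain ⟨q, hq', hqd⟩ := Nat.exists_prime_and_dvd (one_lt_mult s.min).ne'
  haveI := Fact.mk hq'
  have huX : u ∈ X := s.swap_mem_centralizer hY
  have hoddX : Odd (Nat.card ↥(X ⊓ stab2 a b)) :=
    s.odd_D.of_dvd_nat (Subgroup.card_dvd_of_le inf_le_right)
  obtain ⟨P, hP, hPc, hPp, huP⟩ := exists_inv_sylow (p := q) s.inv hoddX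
    (mem_normalizer_inf' (le_normalizer huX) s.swap_D)
  obtain ⟨v, w, hv, hva, hw, hwa, hvw, hne⟩ := exists_four s.min.se s.min.comm a
  have hvX := s.E_le_centralizer hY (s.mem_E_of_involution hv hva)
  have hwX := s.E_le_centralizer hY (s.mem_E_of_involution hw hwa)
  have hdvd : q ∣ Nat.card {t : G // orderOf t = 2 ∧ t ∈ X ∧ t • a = a} := by
    rw [show Nat.card {t : G // orderOf t = 2 ∧ t ∈ X ∧ t • a = a} = mult H by
      rw [← card_involutions_fixing s.min.se a]
      exact Nat.card_congr (Equiv.subtypeEquivRight fun t => ⟨fun h => ⟨h.1, h.2.2⟩,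
        fun h => ⟨h.1, s.E_le_centralizer hY (s.mem_E_of_involution h.1 h.2), h.2⟩⟩)]
    exact hqd
  have hfix : ∀ x ∈ X, P ≤ stabilizer G (x • a) → x • a = a ∨ x • a = b := fun x hx hPx => by
    have h := orbit_fixed_pair s.min.se s.min.rigid hv hvX hva hw hwX hvw hne hdvd huX s.u_ne
      (P := P) (by rwa [s.swap]) (by rwa [s.swap]) hx hPx
    rwa [s.swap] at h
  have hPD : P ≤ stab2 a b := hP.trans inf_le_right
  have hPc' := card_sylow_of_fixed_pair (X := X) (δ := a) (ε := b) hP hPc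
    ⟨⟨u, huX⟩, s.swap⟩ hfix s.hab
  have hND : X ⊓ stabilizer G a ⊓ normalizer (P : Set G) ≤ stab2 a b := by
    intro x hx
    obtain ⟨⟨hxX, hxa⟩, hxP⟩ := hx
    have hxa' : x • a = a := mem_stabilizer_iff.1 hxa
    have e : (x * u) • a = x • b := by rw [mul_smul, s.swap]
    rcases hfix (x * u) (mul_mem hxX huX)
      (e ▸ smul_of_normalizes hxP (hPD.trans inf_le_right)) with h | h
    · exact absurd (smul_left_cancel x ((e.symm.trans h).trans hxa'.symm)).symm s.hab
    · exact mem_stab2.2 ⟨hxa', e.symm.trans h⟩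
  have hPM : P ≤ normalizer (M : Set G) := fun x hx =>
    hnorm x (hPD hx).1 (hXnorm (hP hx).1)
  set U := M ⊓ P with hU
  have hUW : U ≤ s.W0 := fun x hx => hVW ⟨hx.1, hPD hx.2⟩
  haveI : IsCyclic U := s.isCyclic_centralized hqd (hPp.to_le inf_le_right)
    (inf_le_right.trans hPD) fun x hx => s.commute_swap_W0 (hUW hx)
  have hUc : Nat.card U = q ^ (Nat.card M).factorization q :=
    card_inf_sylow_of_le (le_inf hMX hMa) (le_inf (hP.trans inf_le_left) (hPD.trans inf_le_left))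
      (fun x hx => hnorm x hx.2 (hXnorm hx.1)) hPc'
  by_cases hab' : ∀ x ∈ V, ∀ y ∈ V, Commute x y
  · -- Burnside: `M` has order prime to `q`
    have hbot : U = ⊥ := by
      refine eq_bot_of_twoGen (dvd_mult_ne_two s.min hqd) (twoGen_twoGen _) inf_le_left hUc ?_
      rintro g ⟨hg, hgU⟩
      obtain ⟨n, hn, hnD, -, π, hπ, hact⟩ := automizer_factor (q := q)
        (L₀ := X ⊓ stabilizer G a) (le_inf hMX hMa)
        (le_inf (hP.trans inf_le_left) (hPD.trans inf_le_left)) hPD hPc' hND hPM (U := U)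
        (fun x hx => mem_normalizer_inf' (hPM hx) (le_normalizer hx)) hg hgU
      have hnc : n ∈ centralizer (U : Set G) := mem_centralizer_iff.2 fun y hy =>
        (hab' y ⟨hy.1, hPD hy.2⟩ n ⟨hn, hnD⟩).eq
      have hπc : π ∈ centralizer (U : Set G) := mem_centralizer_iff.2 fun y hy =>
        (s.commute_sylow_W0 hqd hPD hPp huP hπ hy.2 (hUW hy)).symm.eq
      have := mul_mem (mul_mem hnc hπc) hact
      rwa [show n * π * (π⁻¹ * n⁻¹ * g) = g by group] at this
    rw [hbot, Subgroup.card_bot] at hUc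
    have hqM : ¬ q ∣ Nat.card M := fun h =>
      (Nat.one_lt_pow ((Fact.out : q.Prime).factorization_pos_of_dvd Nat.card_pos.ne' h).ne'
        (Fact.out : q.Prime).one_lt).ne hUc
    obtain ⟨k, hk, hko, hkinv⟩ := s.exists_inverted_prime hqd
    exact twoGen_le_iff.2 fun g hg i hi => s.mem_S0_of_coprime hko hk hkinv hMa
      (hnorm k hk.1 (hXnorm (s.K_le_centralizer hY (s.mem_K.2 ⟨hk, hkinv⟩)))) hqM
      (mem_twoGen hg hi) hi
  exfalso
  -- the least prime with a non-central element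
  have hex : ∃ ℓ : ℕ, ℓ.Prime ∧ ∃ z ∈ V, IsPGroup ℓ (zpowers z) ∧ ∃ y ∈ V, ¬ Commute z y := by
    by_contra hno
    push Not at hno
    refine hab' fun x hx y hy => ?_
    have hle : V ≤ centralizer ({y} : Set G) := le_of_primePow_mem fun ℓ hℓ z hz hzp =>
      mem_centralizer_singleton_iff.2 (hno ℓ hℓ z hz hzp y hy).eq
    exact mem_centralizer_singleton_iff.1 (hle hx)
  set ℓ := Nat.find hex
  obtain ⟨hℓp, z, hzV, hzp, y, hyV, hzy⟩ := Nat.find_spec hex
  haveI := Fact.mk hℓp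
  have hsmall : ∀ m : ℕ, m.Prime → m < ℓ → ∀ x ∈ V, IsPGroup m (zpowers x) → ∀ y ∈ V,
      Commute x y := fun m hm hlt x hx hxp y hy => by
    by_contra hne'
    exact Nat.find_min hex hlt ⟨hm, x, hx, hxp, y, hy, hne'⟩
  have hVodd : Odd (Nat.card V) := s.odd_D.of_dvd_nat (Subgroup.card_dvd_of_le inf_le_right)
  have hz1 : z ≠ 1 := fun e => hzy (e ▸ Commute.one_left y)
  have hℓ2 : ℓ ≠ 2 := fun e => by
    obtain ⟨i, hi⟩ := hzp.exists_card_eq
    rw [Nat.card_zpowers, show Nat.find hex = 2 from e] at hi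
    rcases i with _ | i
    · exact hz1 (orderOf_eq_one_iff.1 (by rw [hi, pow_zero]))
    · exact absurd (hVodd.of_dvd_nat (Subgroup.orderOf_dvd_natCard V hzV))
        (Nat.not_odd_iff_even.2 (hi ▸ (Nat.even_pow.2 ⟨even_two, i.succ_ne_zero⟩)))
  obtain ⟨S, hS⟩ := (hzp.of_equiv (subgroupOfEquivOfLe (zpowers_le.2 hzV)).symm).exists_le_sylow
  set Q := (S : Subgroup V).map V.subtype with hQdef
  have hQV : Q ≤ V := map_subtype_le _
  have hQp : IsPGroup ℓ Q := S.isPGroup'.map _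
  have hzQ : z ∈ Q := ⟨⟨z, hzV⟩, hS (mem_subgroupOf.2 (mem_zpowers z)), rfl⟩
  have hQc : Nat.card Q = ℓ ^ (Nat.card V).factorization ℓ := by
    rw [hQdef, Coprime.card_map_subtype, S.card_eq_multiplicity]
  haveI : IsCyclic Q := s.isCyclic_of_W0 hℓ2 hQp (hQV.trans hVW)
  have hlt : Y < Y ⊔ Q := lt_of_le_of_ne le_sup_left fun e => hzy
    (mem_centralizer_iff.1 (hMX hyV.1) z (e ▸ mem_sup_right hzQ) : z * y = y * z)
  have hIH := ih _ hlt (sup_le hY (hQV.trans hVW))
  set N := M ⊓ normalizer (Q : Set G) with hN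
  have htwo : ∀ g ∈ N, ∀ i : ℕ, g ^ 2 ^ i = 1 → g ∈ s.S0 := fun g hg i hi => by
    have hgQ := s.mem_centralizer_of_two (hQV.trans hVW) (hMa hg.1) hg.2 hi
    refine hIH (mem_twoGen (Subgroup.mem_inf.2 ⟨hMC1 hg.1, mem_centralizer_iff.2 ?_⟩) hi)
    have hle : Y ⊔ Q ≤ centralizer ({g} : Set G) := sup_le
      (fun y hy => mem_centralizer_singleton_iff.2 (mem_centralizer_iff.1 (hMX hg.1) y hy))
      (fun y hy => mem_centralizer_singleton_iff.2 (mem_centralizer_iff.1 hgQ y hy))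
    exact fun y hy => mem_centralizer_singleton_iff.1 (hle hy)
  -- the odd part of `N_M(Q)`
  haveI := Fact.mk Nat.prime_two
  set U₂ := s.S0 ⊓ N with hU₂
  have hU₂c : Nat.card U₂ = 2 ^ (Nat.card N).factorization 2 := by
    let T : Sylow 2 N := default
    have hle : (T : Subgroup N).map N.subtype ≤ U₂ := by
      refine le_inf ?_ (map_subtype_le _)
      rintro _ ⟨x, hx, rfl⟩
      obtain ⟨i, hi⟩ := T.isPGroup' ⟨x, hx⟩
      exact htwo _ x.2 i (by simpa using congrArg Subtype.val (congrArg Subtype.val hi))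
    obtain ⟨n, hn⟩ := (s.isPGroup_S0.to_le (inf_le_left : U₂ ≤ s.S0)).exists_card_eq
    refine le_antisymm ?_ ?_
    · rw [hn]
      refine Nat.pow_le_pow_right two_pos
        ((Nat.prime_two.pow_dvd_iff_le_factorization Nat.card_pos.ne').1 ?_)
      rw [← hn]
      exact Subgroup.card_dvd_of_le inf_le_right
    · rw [← T.card_eq_multiplicity, ← Coprime.card_map_subtype]
      exact Subgroup.card_le_of_le hle
  obtain ⟨N₀, hN₀N, -, h2N₀, hN₀⟩ := exists_complement (N := N) inf_le_right hU₂c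
    fun x hx => mem_centralizer_iff.2 fun y hy => (hcentral x hx.1.1 y hy.1).symm.eq
  have hN₀odd : Odd (Nat.card N₀) :=
    Nat.not_even_iff_odd.1 fun h => h2N₀ (even_iff_two_dvd.1 h)
  have hN₀iff : ∀ {x : G}, x ∈ N₀ ↔ x ∈ N ∧ Odd (orderOf x) := fun {x} =>
    ⟨fun hx => ⟨hN₀N hx, hN₀odd.of_dvd_nat (Subgroup.orderOf_dvd_natCard _ hx)⟩,
      fun hx => hN₀ x hx.1 (Nat.coprime_two_right.2 hx.2)⟩
  set X₂ := X ⊓ normalizer (Q : Set G) with hX₂
  have hQ1 : Q ≠ ⊥ := fun e => hz1 (mem_bot.1 (e ▸ hzQ))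
  have hQa : Q ≤ stabilizer G a := hQV.trans (inf_le_right.trans inf_le_left)
  have hX₂top : X₂ ≠ ⊤ := fun e =>
    normalizer_ne_top s.min.core hQ1 hQa (top_le_iff.1 (e ▸ inf_le_right))
  have hQcent : centralizer (Q : Set G) ≤ normalizer (Q : Set G) := centralizer_le_normalizer _
  have huX₂ : u ∈ X₂ := ⟨huX, hQcent (s.swap_mem_centralizer (hQV.trans hVW))⟩
  have hEX₂ : ∀ {t : G}, orderOf t = 2 → t • a = a → t ∈ X₂ := fun ht hta =>
    ⟨s.E_le_centralizer hY (s.mem_E_of_involution ht hta),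
      hQcent (s.E_le_centralizer (hQV.trans hVW) (s.mem_E_of_involution ht hta))⟩
  have hN₀D : N₀ ≤ V := by
    have h := s.min.fixes_orbit hX₂top hv hva hw hvw hne (hEX₂ hv hva) (hEX₂ hw hwa) huX₂
      s.u_ne (N := N₀) (fun x hx => ⟨⟨hMX (hN₀N hx).1, (hN₀N hx).2⟩, hMa (hN₀N hx).1⟩) hN₀odd
      (fun x hx => Coprime.mem_normalizer_of_conj_map_le fun m hm => by
        obtain ⟨hmN, hmo⟩ := hN₀iff.1 hm
        refine hN₀iff.2 ⟨BenderTransitive.conj_mem_of_mem_normalizer (mem_normalizer_inf'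
          (hnorm x hx.2 (hXnorm hx.1.1)) (le_normalizer hx.1.2)) hmN, ?_⟩
        rw [Dihedral.orderOf_conj]
        exact hmo) huX₂
    rw [s.swap] at h
    exact fun x hx => ⟨(hN₀N hx).1, hMa (hN₀N hx).1, h hx⟩
  -- `Q` is a Sylow subgroup of `M`
  have hQM : Nat.card Q = ℓ ^ (Nat.card M).factorization ℓ := by
    obtain ⟨T, hT⟩ := (hQp.of_equiv (subgroupOfEquivOfLe (hQV.trans inf_le_left)).symm).exists_le_sylow
    have hQT : Q ≤ (T : Subgroup M).map M.subtype := fun x hx =>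
      ⟨⟨x, (hQV hx).1⟩, hT (mem_subgroupOf.2 hx), rfl⟩
    rw [← T.card_eq_multiplicity, ← Coprime.card_map_subtype]
    by_contra hc
    obtain ⟨x, hxT, hxN, hxQ⟩ := exists_normalizer_not_mem (T.isPGroup'.map M.subtype)
      (lt_of_le_of_ne hQT fun e => hc (e ▸ rfl))
    have hxp : IsPGroup ℓ (zpowers x) := (T.isPGroup'.map M.subtype).to_le (zpowers_le.2 hxT)
    obtain ⟨i, hi⟩ := hxp.exists_card_eq
    rw [Nat.card_zpowers] at hi
    have hxV : x ∈ V := hN₀D (hN₀iff.2 ⟨⟨map_subtype_le _ hxT, hxN⟩,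
      hi ▸ (hℓp.odd_of_ne_two hℓ2).pow⟩)
    obtain ⟨j, hj⟩ := (hQp.to_sup_of_normal_left' hxp (zpowers_le.2 hxN)).exists_card_eq
    refine hxQ ((Subgroup.eq_of_le_of_card_ge (le_sup_left : Q ≤ Q ⊔ zpowers x) ?_).ge
      (mem_sup_right (mem_zpowers x)))
    rw [hj, hQc]
    refine Nat.pow_le_pow_right hℓp.pos
      ((hℓp.pow_dvd_iff_le_factorization Nat.card_pos.ne').1 ?_)
    rw [← hj]
    exact Subgroup.card_dvd_of_le (sup_le hQV (zpowers_le.2 hxV))
  refine hQ1 (eq_bot_of_twoGen hℓ2 (twoGen_twoGen _) (hQV.trans inf_le_left) hQM ?_)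
  rintro g ⟨hgM, hgQ⟩
  have hgN : g ∈ N := ⟨hgM, hgQ⟩
  set α := 2 ^ (orderOf g).factorization 2 with hα
  set β := orderOf g / α with hβ
  have hαβ : α.Coprime β := (Nat.coprime_ordCompl Nat.prime_two (orderOf_pos g).ne').pow_left _
  refine mem_of_coprime_powers ?_ ?_ hαβ
  · -- the odd part lies in `V`
    set n := g ^ α
    have hnV : n ∈ V := hN₀D (hN₀iff.2 ⟨pow_mem hgN _, by
      rw [orderOf_pow, Nat.gcd_eq_right (Nat.ordProj_dvd _ 2), ← Nat.not_even_iff_odd,
        even_iff_two_dvd]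
      exact Nat.not_dvd_ordCompl Nat.prime_two (orderOf_pos g).ne'⟩)
    obtain ⟨k, hk⟩ := exists_pow_mem_centralizer_of_small hQp (pow_mem hgQ α) (n := n)
      fun m hm hlt => mem_centralizer_iff.2 fun x hx => by
        haveI := Fact.mk hm
        have hmp : IsPGroup m (zpowers (n ^ (orderOf n / m ^ (orderOf n).factorization m))) :=
          IsPGroup.of_card (n := (orderOf n).factorization m) (by
            rw [Nat.card_zpowers]
            exact orderOf_pow_orderOf_div (orderOf_pos n).ne' (Nat.ordProj_dvd _ m))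
        exact (hsmall m hm hlt _ (pow_mem hnV _) hmp x (hQV hx)).symm.eq
    exact mem_centralizer_of_pow hQV hQc hnV (pow_mem hgQ α) hk
  · -- the `2`-part
    refine s.mem_centralizer_of_two (hQV.trans hVW) (pow_mem (hMa hgM) _) (pow_mem hgQ _)
      (k := (orderOf g).factorization 2) ?_
    rw [← pow_mul, hβ, hα, Nat.div_mul_cancel (Nat.ordProj_dvd _ 2), pow_orderOf_eq_one]

end Setting

end CfsgLib.LocalEven.StrongCore
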