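import Cfsg.Agent.Lib.LocalEven.StrongCore.Basic

/-!
# Automisers of cyclic subgroups

The automiser in a normalised subgroup of a cyclic subgroup is controlled by the normaliser of a
Sylow subgroup; Burnside's transfer argument; subgroups generated by `2`-elements.
-/

set_option autoImplicit false
set_option linter.style.haveILetI false

namespace CfsgLib.LocalEven.StrongCore

open Subgroup CfsgLib.Involution CfsgLib.LocalEven.BenderTransitive

universe u

variable {G : Type u} [Group G]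

/-- The subgroup generated by the elements of `2`-power order of `X`. -/
def twoGen (X : Subgroup G) : Subgroup G :=
  Subgroup.closure {g | g ∈ X ∧ ∃ k : ℕ, g ^ 2 ^ k = 1}

theorem twoGen_le (X : Subgroup G) : twoGen X ≤ X := (closure_le _).2 fun _ hg => hg.1

theorem mem_twoGen {X : Subgroup G} {g : G} (hg : g ∈ X) {k : ℕ} (h : g ^ 2 ^ k = 1) :
    g ∈ twoGen X := subset_closure ⟨hg, k, h⟩

theorem twoGen_le_iff {X K : Subgroup G} :
    twoGen X ≤ K ↔ ∀ g ∈ X, ∀ k : ℕ, g ^ 2 ^ k = 1 → g ∈ K :=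
  ⟨fun h _ hg _ hk => h (mem_twoGen hg hk),
    fun h => (closure_le _).2 fun g hg => h g hg.1 _ hg.2.choose_spec⟩

theorem twoGen_twoGen (X : Subgroup G) : twoGen (twoGen X) = twoGen X :=
  le_antisymm (twoGen_le _) (twoGen_le_iff.2 fun _ hg _ hk => mem_twoGen (mem_twoGen hg hk) hk)

theorem normalizer_twoGen [Finite G] (X : Subgroup G) :
    normalizer (X : Set G) ≤ normalizer (twoGen X : Set G) := fun g hg => by
  refine Coprime.mem_normalizer_of_conj_map_le ?_
  suffices h : twoGen X ≤ (twoGen X).comap (MulAut.conj g).toMonoidHom from fun y hy => h hy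
  refine twoGen_le_iff.2 fun y hy k hk => mem_twoGen (k := k)
    (BenderTransitive.conj_mem_of_mem_normalizer hg hy) ?_
  change (g * y * g⁻¹) ^ 2 ^ k = 1
  rw [conj_pow, hk, mul_one, mul_inv_cancel]

theorem conj_mem_centralizer {U : Subgroup G} {a c : G} (ha : a ∈ normalizer (U : Set G))
    (hc : c ∈ centralizer (U : Set G)) : a * c * a⁻¹ ∈ centralizer (U : Set G) := by
  refine mem_centralizer_iff.2 fun y hy => ?_
  have h1 := mem_centralizer_iff.1 hc _ (BenderTransitive.conj_inv_mem_of_mem_normalizer ha hy)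
  calc y * (a * c * a⁻¹) = a * (a⁻¹ * y * a * c) * a⁻¹ := by group
    _ = a * (c * (a⁻¹ * y * a)) * a⁻¹ := by rw [h1]
    _ = a * c * a⁻¹ * y := by group

/-- The action of the normaliser on a cyclic subgroup is commutative. -/
theorem comm_mem_centralizer {U : Subgroup G} [IsCyclic U] {a b : G}
    (ha : a ∈ normalizer (U : Set G)) (hb : b ∈ normalizer (U : Set G)) :
    a * b * a⁻¹ * b⁻¹ ∈ centralizer (U : Set G) := by
  set φ := U.normalizerMonoidHom
  set A : normalizer (U : Set G) := ⟨a, ha⟩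
  set B : normalizer (U : Set G) := ⟨b, hb⟩
  have hc : φ A * φ B = φ B * φ A :=
    (IsCyclic.mulAutMulEquiv U).injective (by rw [map_mul, map_mul, mul_comm])
  have h : A * B * A⁻¹ * B⁻¹ ∈ φ.ker := by
    rw [MonoidHom.mem_ker, map_mul, map_mul, map_mul, map_inv, map_inv, hc]
    group
  rw [Subgroup.normalizerMonoidHom_ker, mem_subgroupOf] at h
  exact h

variable [Finite G] {q : ℕ} [hq : Fact q.Prime]

/-- In a subgroup `N` normalised by a Sylow subgroup `P` of `L₀`, elements normalising a cyclic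
subgroup act as products of elements of `N ⊓ D` and `P`. -/
theorem automizer_factor {L₀ D N P U : Subgroup G} (hN : N ≤ L₀) (hP : P ≤ L₀) (hPD : P ≤ D)
    (hPc : Nat.card P = q ^ (Nat.card L₀).factorization q)
    (hND : L₀ ⊓ normalizer (P : Set G) ≤ D) (hPN : P ≤ normalizer (N : Set G)) [IsCyclic U]
    (hPU : P ≤ normalizer (U : Set G)) {g : G} (hg : g ∈ N) (hgU : g ∈ normalizer (U : Set G)) :
    ∃ n ∈ N, n ∈ D ∧ n ∈ normalizer (U : Set G) ∧ ∃ π ∈ P,
      π⁻¹ * n⁻¹ * g ∈ centralizer (U : Set G) := by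
  set L := (N ⊔ P) ⊓ normalizer (U : Set G) with hL
  set C := L ⊓ centralizer (U : Set G) with hC
  set A := C ⊔ P with hA
  have hPL : P ≤ L := le_inf le_sup_right hPU
  have hCn : ∀ l ∈ L, ∀ c ∈ C, l * c * l⁻¹ ∈ C := fun l hl c hc =>
    Subgroup.mem_inf.2 ⟨mul_mem (mul_mem hl hc.1) (inv_mem hl), conj_mem_centralizer hl.2 hc.2⟩
  have hAn : ∀ l ∈ L, A.map (MulAut.conj l).toMonoidHom ≤ A := by
    intro l hl
    rw [Subgroup.map_sup]
    refine sup_le ?_ ?_
    · rintro _ ⟨c, hc, rfl⟩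
      exact mem_sup_left (hCn l hl c hc)
    · rintro _ ⟨x, hx, rfl⟩
      have h1 : l * x * l⁻¹ * x⁻¹ ∈ C :=
        Subgroup.mem_inf.2 ⟨mul_mem (mul_mem (mul_mem hl (hPL hx)) (inv_mem hl)) (inv_mem (hPL hx)),
          comm_mem_centralizer hl.2 (hPU hx)⟩
      have h2 : l * x * l⁻¹ = l * x * l⁻¹ * x⁻¹ * x := by group
      change l * x * l⁻¹ ∈ A
      rw [h2]
      exact mul_mem (mem_sup_left h1) (mem_sup_right hx)
  have hAL : A ≤ L₀ := sup_le (inf_le_left.trans (inf_le_left.trans (sup_le hN hP))) hP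
  have hPA : Nat.card P = q ^ (Nat.card A).factorization q := by
    refine le_antisymm ?_ ?_
    · refine Nat.le_of_dvd (pow_pos hq.out.pos _) ?_
      rw [hPc, Nat.pow_dvd_pow_iff_le_right hq.out.one_lt]
      refine (hq.out.pow_dvd_iff_le_factorization Nat.card_pos.ne').1 ?_
      rw [← hPc]
      exact Subgroup.card_dvd_of_le (le_sup_right : P ≤ A)
    · rw [hPc]
      exact Nat.pow_le_pow_right hq.out.pos
        ((Nat.factorization_le_iff_dvd Nat.card_pos.ne' Nat.card_pos.ne').2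
          (Subgroup.card_dvd_of_le hAL) q)
  obtain ⟨S, hS⟩ := Coprime.exists_sylow_map_eq (le_sup_right : P ≤ A) hPA
  have hgL : g ∈ L := ⟨mem_sup_left hg, hgU⟩
  have hle : P.map (MulAut.conj g).toMonoidHom ≤ A :=
    (Subgroup.map_mono (le_sup_right : P ≤ A)).trans (hAn g hgL)
  obtain ⟨T, hT⟩ := Coprime.exists_sylow_map_eq hle (by rw [Coprime.card_conj_map, hPA])
  obtain ⟨k, hk⟩ := MulAction.exists_smul_eq A T S
  have hkL : (k : G) ∈ L := (sup_le inf_le_left hPL : A ≤ L) k.2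
  have hkgP : (k : G) * g ∈ normalizer (P : Set G) := by
    refine mem_normalizer_iff_map_conj_eq.2 ?_
    rw [show ((MulAut.conj ((k : G) * g) : MulAut G) : G →* G) =
      (MulAut.conj (k : G)).toMonoidHom.comp (MulAut.conj g).toMonoidHom by
        ext x; simp [mul_assoc], ← Subgroup.map_map, ← hT, ← Coprime.map_smul_sylow, hk, hS]
  have hkgD : (k : G) * g ∈ D :=
    hND ⟨mul_mem (hAL k.2) (hN hg), hkgP⟩
  have hkgNP : ((k : G) * g) ∈ (↑(P ⊔ N) : Set G) := by
    rw [SetLike.mem_coe, sup_comm]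
    exact (mul_mem hkL hgL).1
  rw [coe_mul_of_left_le_normalizer_right P N hPN] at hkgNP
  obtain ⟨π₁, hπ₁, n, hn, hkg⟩ := hkgNP
  have hPC : P ≤ normalizer (C : Set G) := fun x hx =>
    Coprime.mem_normalizer_of_conj_map_le fun y hy => hCn x (hPL hx) y hy
  have hkA : (k : G) ∈ (↑(P ⊔ C) : Set G) := by
    rw [SetLike.mem_coe, sup_comm]
    exact k.2
  rw [coe_mul_of_left_le_normalizer_right P C hPC] at hkA
  obtain ⟨π₂, hπ₂, c, hc, hkc⟩ := hkA
  simp only [] at hkg hkc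
  have hne : n = π₁⁻¹ * ((k : G) * g) := by rw [← hkg, inv_mul_cancel_left]
  have hnD : n ∈ D := hne ▸ mul_mem (inv_mem (hPD hπ₁)) hkgD
  have hnU : n ∈ normalizer (U : Set G) :=
    hne ▸ mul_mem (inv_mem (hPU hπ₁)) (mul_mem hkL hgL).2
  refine ⟨n, hn, hnD, hnU, π₂⁻¹ * π₁, mul_mem (inv_mem hπ₂) hπ₁, ?_⟩
  set π := π₂⁻¹ * π₁ with hπ
  have hπU : π ∈ normalizer (U : Set G) := hPU (mul_mem (inv_mem hπ₂) hπ₁)
  have hge : g = c⁻¹ * π * n := by
    have h1 : π₂ * c * g = π₁ * n := by rw [hkc, hkg]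
    calc g = c⁻¹ * π₂⁻¹ * (π₂ * c * g) := by group
      _ = _ := by rw [h1, hπ]; group
  rw [hge, show π⁻¹ * n⁻¹ * (c⁻¹ * π * n) = (π⁻¹ * n⁻¹ * c⁻¹ * (π⁻¹ * n⁻¹)⁻¹) *
    (π⁻¹ * n⁻¹ * π⁻¹⁻¹ * n⁻¹⁻¹) by group]
  exact mul_mem (conj_mem_centralizer (mul_mem (inv_mem hπU) (inv_mem hnU)) (inv_mem hc.2))
    (comm_mem_centralizer (inv_mem hπU) (inv_mem hnU))

/-- Elements whose order has no prime divisor below `q` act on a cyclic `q`-group with `q`-power
order. -/
theorem exists_pow_mem_centralizer {U : Subgroup G} [IsCyclic U] (hU : IsPGroup q U) {n : G}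
    (hnU : n ∈ normalizer (U : Set G))
    (hn : ∀ ℓ : ℕ, ℓ.Prime → ℓ ∣ orderOf n → q ≤ ℓ) :
    ∃ k : ℕ, n ^ q ^ k ∈ centralizer (U : Set G) := by
  set N : normalizer (U : Set G) := ⟨n, hnU⟩
  set φ := U.normalizerMonoidHom
  obtain ⟨m, hm⟩ := hU.exists_card_eq
  have h1 : orderOf (φ N) ∣ Nat.totient (q ^ m) := by
    rw [← hm, ← IsCyclic.card_mulAut]
    exact orderOf_dvd_natCard _
  have h2 : orderOf (φ N) ∣ orderOf n :=
    (orderOf_map_dvd φ N).trans (Subgroup.orderOf_mk n hnU).dvd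
  obtain ⟨k, hk⟩ : ∃ k : ℕ, orderOf (φ N) = q ^ k := by
    refine ⟨_, Nat.eq_prime_pow_of_unique_prime_dvd (orderOf_pos (φ N)).ne' fun {ℓ} hℓ hd => ?_⟩
    rcases m with _ | m
    · rw [pow_zero, Nat.totient_one] at h1
      exact absurd (hd.trans h1) hℓ.not_dvd_one
    rw [Nat.totient_prime_pow_succ hq.out] at h1
    rcases hℓ.dvd_mul.1 (hd.trans h1) with h | h
    · exact (Nat.prime_dvd_prime_iff_eq hℓ hq.out).1 (hℓ.dvd_of_dvd_pow h)
    · have h3 := hn ℓ hℓ (hd.trans h2)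
      have h4 := hq.out.two_le
      have h5 := Nat.le_of_dvd (by omega) h
      omega
  refine ⟨k, ?_⟩
  have h3 : N ^ q ^ k ∈ φ.ker := by
    rw [MonoidHom.mem_ker, map_pow, ← hk, pow_orderOf_eq_one]
  rw [Subgroup.normalizerMonoidHom_ker, mem_subgroupOf, SubmonoidClass.coe_pow] at h3
  exact h3

omit hq [Finite G] in
/-- A product of commuting actions of `q`-power order has `q`-power order. -/
theorem exists_pow_of_factor {U : Subgroup G} [IsCyclic U] {g n π : G}
    (hgU : g ∈ normalizer (U : Set G)) (hnU : n ∈ normalizer (U : Set G))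
    (hπU : π ∈ normalizer (U : Set G)) (hact : π⁻¹ * n⁻¹ * g ∈ centralizer (U : Set G))
    {i j : ℕ} (hn : n ^ q ^ i ∈ centralizer (U : Set G))
    (hπ : π ^ q ^ j ∈ centralizer (U : Set G)) :
    ∃ k : ℕ, g ^ q ^ k ∈ centralizer (U : Set G) := by
  set φ := U.normalizerMonoidHom
  have key : ∀ {x : G} (hx : x ∈ normalizer (U : Set G)),
      φ ⟨x, hx⟩ = 1 ↔ x ∈ centralizer (U : Set G) := fun {x} hx => by
    rw [← MonoidHom.mem_ker, Subgroup.normalizerMonoidHom_ker, mem_subgroupOf]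
  have hc : Commute (φ ⟨n, hnU⟩) (φ ⟨π, hπU⟩) :=
    (IsCyclic.mulAutMulEquiv U).injective (by rw [map_mul, map_mul, mul_comm])
  have hg : φ ⟨g, hgU⟩ = φ ⟨n, hnU⟩ * φ ⟨π, hπU⟩ := by
    have h1 := (key (mul_mem (mul_mem (inv_mem hπU) (inv_mem hnU)) hgU)).2 hact
    have e : (⟨π⁻¹ * n⁻¹ * g, mul_mem (mul_mem (inv_mem hπU) (inv_mem hnU)) hgU⟩ :
        normalizer (U : Set G)) = ⟨π, hπU⟩⁻¹ * ⟨n, hnU⟩⁻¹ * ⟨g, hgU⟩ := rfl
    rw [e, map_mul, map_mul, map_inv, map_inv, ← mul_inv_rev, inv_mul_eq_one] at h1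
    exact h1.symm
  have hn' : φ ⟨n, hnU⟩ ^ q ^ i = 1 := by rw [← map_pow]; exact (key _).2 hn
  have hπ' : φ ⟨π, hπU⟩ ^ q ^ j = 1 := by rw [← map_pow]; exact (key _).2 hπ
  refine ⟨i + j, (key (pow_mem hgU _)).1 ?_⟩
  rw [show (⟨g ^ q ^ (i + j), pow_mem hgU _⟩ : normalizer (U : Set G)) = ⟨g, hgU⟩ ^ q ^ (i + j)
    from rfl, map_pow, hg, hc.mul_pow, pow_add, pow_mul, hn', one_pow, one_mul, mul_comm (q ^ i),
    pow_mul, hπ', one_pow]

/-- An automiser of `q`-power order of an abelian Sylow `q`-subgroup is trivial. -/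
theorem mem_centralizer_of_pow {N U : Subgroup G} (hUN : U ≤ N)
    (hUc : Nat.card U = q ^ (Nat.card N).factorization q) [IsMulCommutative U] {g : G}
    (hg : g ∈ N) (hgU : g ∈ normalizer (U : Set G)) {k : ℕ}
    (hk : g ^ q ^ k ∈ centralizer (U : Set G)) : g ∈ centralizer (U : Set G) := by
  set s := orderOf g / q ^ (orderOf g).factorization q with hs
  have hgs : g ^ s ∈ centralizer (U : Set G) := by
    have hU : IsPGroup q U := IsPGroup.of_card hUc
    have hx : IsPGroup q (zpowers (g ^ s)) := by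
      refine IsPGroup.of_card (n := (orderOf g).factorization q) ?_
      rw [Nat.card_zpowers]
      exact orderOf_pow_orderOf_div (orderOf_pos g).ne' (Nat.ordProj_dvd _ q)
        |> fun h => by
          simpa [hs] using h
    obtain ⟨m, hm⟩ :=
      (hU.to_sup_of_normal_left' hx (zpowers_le.2 (pow_mem hgU s))).exists_card_eq
    have hle : U ⊔ zpowers (g ^ s) ≤ N := sup_le hUN (zpowers_le.2 (pow_mem hg s))
    have heq : U = U ⊔ zpowers (g ^ s) := by
      refine Subgroup.eq_of_le_of_card_ge le_sup_left ?_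
      rw [hm, hUc]
      refine Nat.pow_le_pow_right hq.out.pos
        ((hq.out.pow_dvd_iff_le_factorization Nat.card_pos.ne').1 ?_)
      rw [← hm]
      exact Subgroup.card_dvd_of_le hle
    have hmem : g ^ s ∈ U := heq ▸ mem_sup_right (mem_zpowers _)
    exact mem_centralizer_iff.2 fun y hy => setLike_mul_comm hy hmem
  have hco : Nat.Coprime (q ^ k) s :=
    (Nat.coprime_ordCompl hq.out (orderOf_pos g).ne').pow_left k
  have h1 : g ^ (((q ^ k).gcd s : ℕ) : ℤ) ∈ centralizer (U : Set G) := by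
    rw [Nat.gcd_eq_gcd_ab, zpow_add, zpow_mul, zpow_mul, zpow_natCast, zpow_natCast]
    exact mul_mem (zpow_mem hk _) (zpow_mem hgs _)
  rwa [hco, Nat.cast_one, zpow_one] at h1

/-- Burnside's transfer theorem inside a subgroup. -/
theorem exists_complement {N U : Subgroup G} (hUN : U ≤ N)
    (hUc : Nat.card U = q ^ (Nat.card N).factorization q)
    (hcent : N ⊓ normalizer (U : Set G) ≤ centralizer (U : Set G)) :
    ∃ K ≤ N, N ≤ normalizer (K : Set G) ∧ ¬ q ∣ Nat.card K ∧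
      ∀ g ∈ N, (orderOf g).Coprime q → g ∈ K := by
  obtain ⟨S, hS⟩ := Coprime.exists_sylow_map_eq hUN hUc
  have hSc : normalizer (S : Subgroup N) ≤ centralizer ((S : Subgroup N) : Set N) := by
    intro x hx
    have hxU : (x : G) ∈ normalizer (U : Set G) := by
      rw [← hS]
      exact le_normalizer_map N.subtype ⟨x, hx, rfl⟩
    have h1 := hcent ⟨x.2, hxU⟩
    exact mem_centralizer_iff.2 fun y hy =>
      Subtype.ext (mem_centralizer_iff.1 h1 y (hS ▸ ⟨y, hy, rfl⟩))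
  set f := MonoidHom.transferSylow S hSc
  refine ⟨f.ker.map N.subtype, map_subtype_le _, ?_, ?_, ?_⟩
  · refine fun g hg => le_normalizer_map N.subtype ⟨⟨g, hg⟩, ?_, rfl⟩
    rw [normalizer_eq_top]
    exact mem_top _
  · rw [Coprime.card_map_subtype]
    exact MonoidHom.not_dvd_card_ker_transferSylow S hSc
  · intro g hg hco
    refine ⟨⟨g, hg⟩, MonoidHom.mem_ker.2 (orderOf_eq_one_iff.1 ?_), rfl⟩
    obtain ⟨j, hj⟩ := IsPGroup.iff_orderOf.1 S.isPGroup' (f ⟨g, hg⟩)
    have h1 : orderOf (f ⟨g, hg⟩) ∣ orderOf g :=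
      (orderOf_map_dvd f _).trans (Subgroup.orderOf_mk g hg).dvd
    exact Nat.eq_one_of_dvd_coprimes (hco.pow_right j) h1 hj.dvd

/-- A subgroup generated by `2`-elements has no nontrivial Sylow subgroup central in its
normaliser for an odd prime. -/
theorem eq_bot_of_twoGen (hq2 : q ≠ 2) {N U : Subgroup G} (hN : twoGen N = N) (hUN : U ≤ N)
    (hUc : Nat.card U = q ^ (Nat.card N).factorization q)
    (hcent : N ⊓ normalizer (U : Set G) ≤ centralizer (U : Set G)) : U = ⊥ := by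
  obtain ⟨K, -, -, hqK, hK⟩ := exists_complement hUN hUc hcent
  have hNK : N ≤ K := by
    rw [← hN]
    refine twoGen_le_iff.2 fun g hg k hk => hK g hg ?_
    exact Nat.Coprime.coprime_dvd_left (orderOf_dvd_of_pow_eq_one hk)
      (((Nat.coprime_primes Nat.prime_two hq.out).2 (Ne.symm hq2)).pow_left k)
  have h1 : ¬ q ∣ Nat.card N := fun h => hqK (h.trans (Subgroup.card_dvd_of_le hNK))
  rw [Nat.factorization_eq_zero_of_not_dvd h1, pow_zero] at hUc
  exact Subgroup.eq_bot_of_card_eq U hUc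

end CfsgLib.LocalEven.StrongCore
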