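import Cfsg.Agent.Lib.LocalEven.StrongCore.Kernel

/-!
# The action of `D` on the involutions at `a`

The inverted elements of `D` form a cyclic subgroup of order `mult H` inducing the Fitting
subgroup, `D` is its product with `C_D(u)`, and elements of `D` of prime order centralising two
involutions at `a` act fixed-point-freely on `R`.
-/

set_option autoImplicit false
set_option linter.style.haveILetI false

namespace CfsgLib.LocalEven.StrongCore

open Subgroup MulAction CfsgLib.Involution.Dihedral CfsgLib.Involution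
  CfsgLib.LocalEven.BenderTransitive CfsgLib.LocalEven.SwapInjective

universe u

variable {G : Type u} [Group G] [Finite G] {H : Subgroup G}

/-- An element of an odd subgroup normalised by an involution is a product of a centralised and an
inverted element. -/
theorem exists_decomp {u : G} (hu : orderOf u = 2) {Q : Subgroup G} (hQ : Odd (Nat.card Q))
    (huQ : u ∈ normalizer (Q : Set G)) {d : G} (hd : d ∈ Q) :
    ∃ v ∈ Q, ∃ i ∈ Q, Commute u v ∧ u * i * u⁻¹ = i⁻¹ ∧ d = v * i := by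
  set x := (u * d * u⁻¹)⁻¹ * d with hx
  have hxQ : x ∈ Q :=
    mul_mem (inv_mem (BenderTransitive.conj_mem_of_mem_normalizer huQ hd)) hd
  have hxinv : u * x * u⁻¹ = x⁻¹ := by
    have huu : u * u = 1 := mul_self hu
    calc u * x * u⁻¹ = ((u * u) * d * (u * u)⁻¹)⁻¹ * (u * d * u⁻¹) := by rw [hx]; simp [mul_assoc]
      _ = x⁻¹ := by rw [huu, hx]; group
  obtain ⟨m, hm⟩ := hQ.of_dvd_nat (Subgroup.orderOf_dvd_natCard Q hxQ)
  set i := x ^ (m + 1) with hi
  have hi2 : i * i = x := by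
    rw [hi, ← pow_add, show m + 1 + (m + 1) = orderOf x + 1 by omega, pow_succ, pow_orderOf_eq_one,
      one_mul]
  refine ⟨d * i⁻¹, mul_mem hd (inv_mem (pow_mem hxQ _)), i, pow_mem hxQ _, ?_,
    Dihedral.conj_pow hxinv _, by group⟩
  refine mul_inv_eq_iff_eq_mul.1 ?_
  calc u * (d * i⁻¹) * u⁻¹ = (u * d * u⁻¹) * (u * i * u⁻¹)⁻¹ := by group
    _ = (u * d * u⁻¹) * i := by rw [Dihedral.conj_pow hxinv _, inv_inv]
    _ = (u * d * u⁻¹) * (i * i) * i⁻¹ := by group
    _ = d * i⁻¹ := by rw [hi2, hx]; group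

namespace Setting

variable {a b : G ⧸ H} {u : G} {p : ℕ} {R : Subgroup G} (s : Setting a b u p R)

include s

theorem eq_of_inverted_mul {x i j : G} (hx : x ∈ s.W0) (hj : j ∈ stab2 a b)
    (hi' : u * i * u⁻¹ = i⁻¹) (hj' : u * j * u⁻¹ = j⁻¹) (h : i = x * j) : i = j := by
  have hc : Commute j x := s.commute_inverted_W0 hj hj' hx
  have h1 : i⁻¹ = x * j⁻¹ := by
    rw [← hi', h]
    calc u * (x * j) * u⁻¹ = (u * x * u⁻¹) * (u * j * u⁻¹) := by group
      _ = x * j⁻¹ := by rw [hj', (s.commute_swap_W0 hx).eq, mul_inv_cancel_right]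
  rw [h, mul_inv_rev] at h1
  have h2 : x⁻¹ = x := by
    rw [← mul_left_cancel_iff (a := j⁻¹), h1, hc.inv_left.eq]
  have hx1 : x = 1 := by
    refine ZStar.mem_of_sq_mem (N := (⊥ : Subgroup G)) (s.odd_mem hx.1) ?_
    rw [mem_bot]
    calc x * x = x⁻¹ * x := by rw [h2]
      _ = 1 := inv_mul_cancel x
  rw [h, hx1, one_mul]

theorem dvd_mult_of_fpf {d : stab2 a b} (hd : s.conjE.rangeRestrict d ∈
    Cfsg.fittingSubgroup s.conjE.range) (hd1 : s.conjE.rangeRestrict d ≠ 1) {q : ℕ} [Fact q.Prime]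
    (hdq : IsPGroup q (zpowers (d : G))) : q ∣ mult H := by
  haveI : IsEmpty {t : G // orderOf t = 2 ∧ t ∈ centralizer ({(d : G)} : Set G) ∧ t • a = a} :=
    ⟨fun t => s.not_commute_of_fpf hd hd1 t.2.1 t.2.2.2
      (mem_centralizer_singleton_iff.1 t.2.2.1)⟩
  have hmod := card_centralized_modEq s.min.se hdq (mem_stab2.1 d.2).1
  rw [Nat.card_of_isEmpty] at hmod
  exact Nat.modEq_zero_iff_dvd.1 hmod.symm

/-- No nontrivial element of the Fitting subgroup lifts to an element centralised by the swap. -/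
theorem rangeRestrict_eq_one_of_commute {d : stab2 a b} (hdF : s.conjE.rangeRestrict d ∈
    Cfsg.fittingSubgroup s.conjE.range) (hdu : Commute u d) : s.conjE.rangeRestrict d = 1 := by
  classical
  set π := s.conjE.rangeRestrict with hπ
  set F := Cfsg.fittingSubgroup s.conjE.range with hF
  haveI : F.Normal := CfsgLib.Solvable.Cores.fittingSubgroup_normal
  haveI : IsCyclic F := s.oddTrans.isCyclic_fitting
  by_contra hd1
  have hne : orderOf (π d) ≠ 1 := fun e => hd1 (orderOf_eq_one_iff.1 e)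
  set q := (orderOf (π d)).minFac
  haveI hq := Fact.mk (Nat.minFac_prime hne)
  set z := π d ^ (orderOf (π d) / q) with hz
  have hzo : orderOf z = q := orderOf_pow_orderOf_div (orderOf_pos _).ne' (Nat.minFac_dvd _)
  set m : G := (d : G) ^ (orderOf (π d) / q) with hm
  set σ := orderOf m / q ^ (orderOf m).factorization q with hσ
  have hσco : Nat.Coprime q σ := Nat.coprime_ordCompl hq.out (orderOf_pos m).ne'
  set m0 : G := m ^ σ with hm0
  have hm0o : orderOf m0 = q ^ (orderOf m).factorization q :=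
    orderOf_pow_orderOf_div (orderOf_pos m).ne' (Nat.ordProj_dvd _ q)
  have hm0q : IsPGroup q (zpowers m0) := IsPGroup.of_card (by rw [Nat.card_zpowers, hm0o])
  have hum : Commute u m0 := (hdu.pow_right _).pow_right σ
  have hm0D : m0 ∈ stab2 a b := pow_mem (pow_mem d.2 _) σ
  have hz0 : π ⟨m0, hm0D⟩ = z ^ σ := by
    rw [hz, ← map_pow, ← map_pow]; rfl
  have hz0o : orderOf (π ⟨m0, hm0D⟩) = q := by
    rw [hz0, Nat.Coprime.orderOf_pow (hzo ▸ hσco), hzo]
  have hz0F : π ⟨m0, hm0D⟩ ∈ F := hz0 ▸ pow_mem (pow_mem hdF _) σ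
  have hz01 : π ⟨m0, hm0D⟩ ≠ 1 := fun e =>
    hq.out.ne_one (hz0o.symm.trans ((congrArg orderOf e).trans orderOf_one))
  have hqd : q ∣ mult H := s.dvd_mult_of_fpf (d := ⟨m0, hm0D⟩) hz0F hz01 hm0q
  have hum0 : u ∈ normalizer ((zpowers m0 : Subgroup G) : Set G) :=
    conj_normalizer_of_commute hum
  obtain ⟨P, hYP, hP, hPc, hPp, huP⟩ :=
    exists_inv_sylow_ge (p := q) s.inv s.odd_D s.swap_D (zpowers_le.2 hm0D) hm0q hum0
  have hmP : m0 ∈ P := hYP (mem_zpowers m0)
  set V := zpowers m0 ⊔ (P ⊓ s.W0) with hV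
  have hVP : V ≤ P := sup_le hYP inf_le_left
  have hPV : P ≤ normalizer (V : Set G) := fun g hg => by
    refine Coprime.mem_normalizer_of_conj_map_le ?_
    suffices h : V ≤ V.comap (MulAut.conj g).toMonoidHom from fun v hv => h hv
    refine sup_le (zpowers_le.2 ?_) fun w hw => mem_sup_right
      (BenderTransitive.conj_mem_of_mem_normalizer
        (mem_normalizer_inf' (le_normalizer hg) (s.D_le_normalizer_W0 (hP hg))) hw)
    change g * m0 * g⁻¹ ∈ V
    rw [show g * m0 * g⁻¹ = (g * m0 * g⁻¹ * m0⁻¹) * m0 by group]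
    refine mul_mem (mem_sup_right (Subgroup.mem_inf.2
      ⟨mul_mem (mul_mem (mul_mem hg hmP) (inv_mem hg)) (inv_mem hmP), ?_⟩))
      (mem_sup_left (mem_zpowers m0))
    obtain ⟨j, hj⟩ := hPp ⟨g, hg⟩
    set g' : stab2 a b := ⟨g, hP hg⟩
    have hj' : π g' ^ q ^ j = 1 := by
      rw [← map_pow, show g' ^ q ^ j = 1 from Subtype.ext (congrArg Subtype.val hj :), map_one]
    have hc : Commute (π g') (π ⟨m0, hm0D⟩) := commute_of_qgroup_cyclic hz0F hz0o hj'
    refine s.rangeRestrict_eq_one (d := g' * ⟨m0, hm0D⟩ * g'⁻¹ * (⟨m0, hm0D⟩)⁻¹) |>.1 ?_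
    rw [map_mul, map_mul, map_mul, map_inv, map_inv, hc.eq, mul_inv_cancel_right, mul_inv_cancel]
  have huV : ∀ v ∈ V, Commute u v := by
    have h : V ≤ centralizer ({u} : Set G) := sup_le
      (zpowers_le.2 (mem_centralizer_singleton_iff.2 hum.symm.eq))
      fun w hw => mem_centralizer_singleton_iff.2 (s.commute_swap_W0 hw.2).symm.eq
    exact fun v hv => (mem_centralizer_singleton_iff.1 (h hv) : _ = _).symm
  obtain ⟨t, ht, hta, htV⟩ := s.exists_centralizing_involution hqd hP hPc huP hVP hPV huV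
  exact s.not_commute_of_fpf (d := ⟨m0, hm0D⟩) hz0F hz01 ht hta
    (htV m0 (mem_sup_left (mem_zpowers m0)))

/-- The images of the inverted elements lie in the Fitting subgroup. -/
theorem rangeRestrict_mem_fitting {i : stab2 a b} (hi : u * (i : G) * u⁻¹ = (i : G)⁻¹) :
    s.conjE.rangeRestrict i ∈ Cfsg.fittingSubgroup s.conjE.range := by
  classical
  set π := s.conjE.rangeRestrict with hπ
  have hπs : Function.Surjective π := s.conjE.rangeRestrict_surjective
  set F := Cfsg.fittingSubgroup s.conjE.range with hF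
  haveI : F.Normal := CfsgLib.Solvable.Cores.fittingSubgroup_normal
  haveI : IsCyclic F := s.oddTrans.isCyclic_fitting
  haveI : Group.IsNilpotent F := CfsgLib.Solvable.Cores.fittingSubgroup_isNilpotent
  let θ : stab2 a b →* stab2 a b := MonoidHom.mk'
    (fun d => ⟨u * d * u⁻¹, BenderTransitive.conj_mem_of_mem_normalizer s.swap_D d.2⟩)
    (fun d e => Subtype.ext
      (show u * ((d : G) * e) * u⁻¹ = u * d * u⁻¹ * (u * e * u⁻¹) by group))
  have hker : π.ker ≤ (π.comp θ).ker := fun d hd => MonoidHom.mem_ker.2 <|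
    s.rangeRestrict_eq_one.2 (BenderTransitive.conj_mem_of_mem_normalizer s.swap_W0
      (s.rangeRestrict_eq_one.1 hd))
  let θb : s.conjE.range →* s.conjE.range := π.liftOfSurjective hπs ⟨π.comp θ, hker⟩
  have hθb : ∀ d, θb (π d) = π (θ d) := fun d =>
    MonoidHom.liftOfRightInverse_comp_apply _ _ _ _ d
  have hinvol : ∀ x, θb (θb x) = x := fun x => by
    obtain ⟨d, rfl⟩ := hπs x
    rw [hθb, hθb]
    exact congrArg π (Subtype.ext (s.conj_swap_conj (d : G)))
  have hθbs : Function.Surjective θb := fun y => ⟨θb y, hinvol y⟩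
  have hθbi : Function.Injective θb := Finite.injective_iff_surjective.mpr hθbs
  have hθF : ∀ f ∈ F, θb f ∈ F := fun f hf => by
    haveI : (F.map θb).Normal := Subgroup.Normal.map inferInstance θb hθbs
    exact CfsgLib.Solvable.Cores.le_fittingSubgroup (N := F.map θb)
      (Group.nilpotent_of_mulEquiv (F.equivMapOfInjective θb hθbi)) ⟨f, hf, rfl⟩
  have hodd : Odd (Nat.card s.conjE.range) := s.oddTrans.odd
  have hsq : ∀ x : s.conjE.range, x * x = 1 → x = 1 := fun x hx =>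
    mem_bot.1 (ZStar.mem_of_sq_mem (N := (⊥ : Subgroup s.conjE.range))
      (hodd.of_dvd_nat (orderOf_dvd_natCard x)) (mem_bot.2 hx))
  have hfixed : ∀ f ∈ F, θb f = f → f = 1 := by
    intro f hf hθ
    obtain ⟨d, rfl⟩ := hπs f
    obtain ⟨v, hv, j, hj, huv, hjinv, hd⟩ := exists_decomp s.inv s.odd_D s.swap_D d.2
    have hd' : d = (⟨v, hv⟩ : stab2 a b) * ⟨j, hj⟩ := Subtype.ext hd
    have hθv : θ ⟨v, hv⟩ = ⟨v, hv⟩ :=
      Subtype.ext (show u * v * u⁻¹ = v by rw [huv.eq, mul_inv_cancel_right])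
    have hθj : θ ⟨j, hj⟩ = (⟨j, hj⟩ : stab2 a b)⁻¹ := Subtype.ext hjinv
    rw [hd', hθb, map_mul, map_mul, hθv, hθj, map_mul, mul_left_cancel_iff, map_inv] at hθ
    have hj1 : π ⟨j, hj⟩ = 1 := hsq _ (by nth_rw 1 [← hθ]; exact inv_mul_cancel _)
    rw [hd', map_mul, hj1, mul_one] at hf ⊢
    exact s.rangeRestrict_eq_one_of_commute hf huv
  have hcomm : ∀ f ∈ F, ∀ g ∈ F, f * g = g * f := fun f hf g hg => by
    letI := IsCyclic.commGroup (α := F)
    exact congrArg Subtype.val (mul_comm (⟨f, hf⟩ : F) ⟨g, hg⟩)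
  have hinv : ∀ f ∈ F, θb f = f⁻¹ := fun f hf => by
    have h1 := hfixed (f * θb f) (mul_mem hf (hθF f hf)) (by
      rw [map_mul, hinvol]; exact hcomm _ (hθF f hf) _ hf)
    exact eq_inv_of_mul_eq_one_right h1
  have hθi : θb (π i) = (π i)⁻¹ := by
    rw [hθb, ← map_inv]; exact congrArg π (Subtype.ext hi)
  have hi2 : π i * π i ∈ F := by
    refine s.oddTrans.centralizer_le (Subgroup.mem_centralizer_iff.2 fun f hf => ?_)
    have h1 := hinv _ (‹F.Normal›.conj_mem f hf (π i))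
    rw [map_mul, map_mul, map_inv, hθi, hinv f hf] at h1
    have h3 : (π i)⁻¹ * f⁻¹ * π i = π i * f⁻¹ * (π i)⁻¹ := by
      calc (π i)⁻¹ * f⁻¹ * π i = (π i)⁻¹ * f⁻¹ * (π i)⁻¹⁻¹ := by group
        _ = (π i * f * (π i)⁻¹)⁻¹ := h1
        _ = _ := by group
    have h4 : f⁻¹ * (π i * π i) = π i * π i * f⁻¹ := by
      calc f⁻¹ * (π i * π i) = π i * ((π i)⁻¹ * f⁻¹ * π i) * π i := by group
        _ = π i * (π i * f⁻¹ * (π i)⁻¹) * π i := by rw [h3]
        _ = _ := by group
    calc f * (π i * π i) = f * (π i * π i * f⁻¹) * f := by group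
      _ = f * (f⁻¹ * (π i * π i)) * f := by rw [h4]
      _ = _ := by group
  exact ZStar.mem_of_sq_mem (hodd.of_dvd_nat (orderOf_dvd_natCard _)) hi2

/-- The inverted elements form a cyclic group inducing the Fitting subgroup. -/
theorem exists_gen : ∃ k ∈ stab2 a b, u * k * u⁻¹ = k⁻¹ ∧
    (∀ i ∈ stab2 a b, u * i * u⁻¹ = i⁻¹ → i ∈ zpowers k) ∧ orderOf k = mult H := by
  classical
  set π := s.conjE.rangeRestrict with hπ
  set F := Cfsg.fittingSubgroup s.conjE.range with hF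
  haveI hFc : IsCyclic F := s.oddTrans.isCyclic_fitting
  obtain ⟨f0, hf0⟩ := hFc.exists_generator
  obtain ⟨d, hd⟩ := s.conjE.rangeRestrict_surjective (f0 : s.conjE.range)
  obtain ⟨v, hv, k, hk, huv, hkinv, hdvk⟩ := exists_decomp s.inv s.odd_D s.swap_D d.2
  have hd' : d = (⟨v, hv⟩ : stab2 a b) * ⟨k, hk⟩ := Subtype.ext hdvk
  have hkF : π ⟨k, hk⟩ ∈ F := s.rangeRestrict_mem_fitting hkinv
  have hv1 : π ⟨v, hv⟩ = 1 := s.rangeRestrict_eq_one_of_commute (by
    rw [show π ⟨v, hv⟩ = (f0 : s.conjE.range) * (π ⟨k, hk⟩)⁻¹ by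
      rw [← hd, ← hπ, hd', map_mul, mul_inv_cancel_right]]
    exact mul_mem f0.2 (inv_mem hkF)) huv
  have hk0 : π ⟨k, hk⟩ = (f0 : s.conjE.range) := by
    rw [← hd, ← hπ, hd', map_mul, hv1, one_mul]
  have hall : ∀ i ∈ stab2 a b, u * i * u⁻¹ = i⁻¹ → i ∈ zpowers k := fun i hi hiinv => by
    obtain ⟨n, hn⟩ := mem_zpowers_iff.1 (hf0 ⟨π ⟨i, hi⟩, s.rangeRestrict_mem_fitting hiinv⟩)
    refine mem_zpowers_iff.2 ⟨n, (s.eq_of_inverted_mul (x := i * (k ^ n)⁻¹) ?_ (zpow_mem hk n)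
      hiinv ?_ (by group)).symm⟩
    · refine s.rangeRestrict_eq_one (d := ⟨i, hi⟩ * (⟨k, hk⟩ ^ n)⁻¹) |>.1 ?_
      have hn' : π ⟨i, hi⟩ = (f0 : s.conjE.range) ^ n := (congrArg Subtype.val hn).symm
      rw [map_mul, map_inv, map_zpow, ← hπ, hk0, hn', mul_inv_cancel]
    · rw [Dihedral.conj_zpow hkinv, zpow_neg]
  refine ⟨k, hk, hkinv, hall, ?_⟩
  have hrel := relIndex_swap s.min.se s.hab s.inv s.swap
  set C := stab2 a b ⊓ centralizer ({u} : Set G) with hC
  have hzK : ∀ n : ℤ, u * k ^ n * u⁻¹ = (k ^ n)⁻¹ := fun n => by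
    rw [Dihedral.conj_zpow hkinv, zpow_neg]
  let e : C × zpowers k → stab2 a b := fun x =>
    ⟨(x.1 : G) * (x.2 : G), mul_mem x.1.2.1 ((zpowers_le.2 hk) x.2.2)⟩
  have he : Function.Bijective e := by
    refine ⟨fun x y h => ?_, fun d => ?_⟩
    · have h1 : (x.1 : G) * x.2 = y.1 * y.2 := congrArg Subtype.val h
      have hcy : Commute (y.1 : G) u := mem_centralizer_singleton_iff.1 y.1.2.2
      have hcx : Commute (x.1 : G) u := mem_centralizer_singleton_iff.1 x.1.2.2
      have hc1 : Commute u ((y.1 : G)⁻¹ * x.1) := hcy.symm.inv_right.mul_right hcx.symm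
      have h2 : (y.1 : G)⁻¹ * x.1 = y.2 * (x.2 : G)⁻¹ := by
        rw [inv_mul_eq_iff_eq_mul, ← mul_assoc, ← h1, mul_inv_cancel_right]
      obtain ⟨n, hn⟩ := mem_zpowers_iff.1 (mul_mem y.2.2 (inv_mem x.2.2))
      have h3 : (y.1 : G)⁻¹ * x.1 = 1 := by
        have h4 := hzK n
        rw [hn, ← h2, hc1.eq, mul_inv_cancel_right] at h4
        refine mem_bot.1 (ZStar.mem_of_sq_mem (N := (⊥ : Subgroup G))
          (s.odd_mem (mul_mem (inv_mem y.1.2.1) x.1.2.1)) (mem_bot.2 ?_))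
        nth_rw 1 [h4]
        exact inv_mul_cancel _
      have hx1 : x.1 = y.1 := Subtype.ext (inv_mul_eq_one.1 h3).symm
      rw [hx1, mul_left_cancel_iff] at h1
      exact Prod.ext hx1 (Subtype.ext h1)
    · obtain ⟨v, hv, i, hi, huv, hiinv, hdvi⟩ := exists_decomp s.inv s.odd_D s.swap_D d.2
      exact ⟨(⟨v, hv, mem_centralizer_singleton_iff.2 huv.symm.eq⟩, ⟨i, hall i hi hiinv⟩),
        Subtype.ext hdvi.symm⟩
  have hcard := Nat.card_eq_of_bijective e he
  rw [Nat.card_prod, Nat.card_zpowers, ← Subgroup.card_mul_index (C.subgroupOf (stab2 a b)),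
    Nat.card_congr (subgroupOfEquivOfLe (inf_le_left : C ≤ stab2 a b)).toEquiv] at hcard
  rw [← hrel, ← inf_relIndex_left (stab2 a b) (centralizer ({u} : Set G))]
  exact Nat.eq_of_mul_eq_mul_left Nat.card_pos hcard

/-- The subgroup of the inverted elements of `D`. -/
noncomputable def K (s : Setting a b u p R) : Subgroup G := zpowers s.exists_gen.choose

theorem mem_K {x : G} : x ∈ s.K ↔ x ∈ stab2 a b ∧ u * x * u⁻¹ = x⁻¹ := by
  obtain ⟨hk, hkinv, hall, -⟩ := s.exists_gen.choose_spec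
  refine ⟨fun hx => ?_, fun h => hall x h.1 h.2⟩
  obtain ⟨n, rfl⟩ := mem_zpowers_iff.1 hx
  exact ⟨zpow_mem hk n, by rw [Dihedral.conj_zpow hkinv, zpow_neg]⟩

theorem K_le_D : s.K ≤ stab2 a b := fun _ hx => (s.mem_K.1 hx).1

theorem card_K : Nat.card s.K = mult H :=
  (Nat.card_zpowers _).trans s.exists_gen.choose_spec.2.2.2

theorem isCyclic_K : IsCyclic s.K := by
  rw [K]; infer_instance

theorem exists_mul_K {d : G} (hd : d ∈ stab2 a b) :
    ∃ v ∈ stab2 a b, ∃ k ∈ s.K, Commute u v ∧ d = v * k :=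
  let ⟨v, hv, i, hi, huv, hiinv, hd⟩ := exists_decomp s.inv s.odd_D s.swap_D hd
  ⟨v, hv, i, s.mem_K.2 ⟨hi, hiinv⟩, huv, hd⟩

theorem D_le_normalizer_K : stab2 a b ≤ normalizer (s.K : Set G) := by
  intro d hd
  obtain ⟨v, hv, k, hk, huv, rfl⟩ := s.exists_mul_K hd
  refine mul_mem (Coprime.mem_normalizer_of_conj_map_le fun x hx => ?_) (le_normalizer hk)
  obtain ⟨hxD, hxinv⟩ := s.mem_K.1 hx
  refine s.mem_K.2 ⟨mul_mem (mul_mem hv hxD) (inv_mem hv), ?_⟩
  calc u * (v * x * v⁻¹) * u⁻¹ = (u * v * u⁻¹) * (u * x * u⁻¹) * (u * v * u⁻¹)⁻¹ := by group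
    _ = (v * x * v⁻¹)⁻¹ := by rw [huv.eq, mul_inv_cancel_right, hxinv]; group

theorem eq_one_of_K_W0 {x : G} (hx : x ∈ s.K) (hx' : x ∈ s.W0) : x = 1 :=
  s.inverted_W0_eq_one hx' (s.mem_K.1 hx).2

/-- `K` is regular on the involutions at `a`. -/
theorem exists_K_conj {t t' : G} (ht : orderOf t = 2) (hta : t • a = a) (ht' : orderOf t' = 2)
    (hta' : t' • a = a) : ∃ k ∈ s.K, k * t * k⁻¹ = t' := by
  let S := {x : G // orderOf x = 2 ∧ x • a = a}
  let φ : s.K → S := fun k => ⟨(k : G) * t * (k : G)⁻¹, (Dihedral.orderOf_conj _ _).trans ht, by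
    have hka := (mem_stab2.1 (s.K_le_D k.2)).1
    rw [mul_smul, mul_smul, inv_smul_eq_iff.2 hka.symm, hta, hka]⟩
  have hinj : Function.Injective φ := by
    intro k l h
    have h1 : (k : G) * t * (k : G)⁻¹ = (l : G) * t * (l : G)⁻¹ := congrArg Subtype.val h
    set x : G := (l : G)⁻¹ * k with hx
    have hxK : x ∈ s.K := mul_mem (inv_mem l.2) k.2
    have hxt : Commute t x := by
      show t * ((l : G)⁻¹ * k) = (l : G)⁻¹ * k * t
      calc t * ((l : G)⁻¹ * k) = (l : G)⁻¹ * ((l : G) * t * (l : G)⁻¹) * k := by group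
        _ = _ := by rw [← h1]; group
    have hx1 : x = 1 := by
      by_contra hne
      refine Nat.not_even_iff_odd.2 (odd_centralizer s.min s.hab s.inv s.swap (s.K_le_D hxK)
        (s.mem_K.1 hxK).2 hne) ?_
      exact Basic.even_of_involution_mem _ (mem_centralizer_singleton_iff.2 hxt.eq) ht
    exact (Subtype.ext (inv_mul_eq_one.1 hx1)).symm
  have hc : Nat.card s.K = Nat.card S := by
    rw [s.card_K, card_involutions_fixing s.min.se a]
  obtain ⟨k, hk⟩ := (hinj.bijective_of_nat_card_le hc.ge).2 ⟨t', ht', hta'⟩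
  exact ⟨k, k.2, congrArg Subtype.val hk⟩

/-- An element of prime order of `D` centralising an involution at `a` is conjugate under `K` to
one centralised by the swap. -/
theorem exists_conj_commute {x : G} (hx : x ∈ stab2 a b) {ℓ : ℕ} [hℓ : Fact ℓ.Prime]
    (hxo : orderOf x = ℓ) {t : G} (ht : orderOf t = 2) (hta : t • a = a) (htx : Commute t x) :
    ∃ k ∈ s.K, Commute u (k * x * k⁻¹) := by
  classical
  set π := s.conjE.rangeRestrict with hπ
  set F := Cfsg.fittingSubgroup s.conjE.range with hF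
  haveI : F.Normal := CfsgLib.Solvable.Cores.fittingSubgroup_normal
  by_cases hxW : x ∈ s.W0
  · exact ⟨1, one_mem _, by rw [one_mul, inv_one, mul_one]; exact s.commute_swap_W0 hxW⟩
  set X : stab2 a b := ⟨x, hx⟩
  have hX1 : π X ≠ 1 := fun e => hxW (s.rangeRestrict_eq_one.1 e)
  have hXF : π X ∉ F := fun h => s.not_commute_of_fpf h hX1 ht hta htx
  obtain ⟨v, hv, k, hk, huv, hdvk⟩ := s.exists_mul_K hx
  set V : stab2 a b := ⟨v, hv⟩
  set K' : stab2 a b := ⟨k, s.K_le_D hk⟩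
  have hXVK : X = V * K' := Subtype.ext hdvk
  have hKF : π K' ∈ F := s.rangeRestrict_mem_fitting (s.mem_K.1 hk).2
  have hVF : π V ∉ F := fun h => hXF (hXVK ▸ map_mul π V K' ▸ mul_mem h hKF)
  have hVℓ : π V ^ ℓ = 1 := by
    have hq : (QuotientGroup.mk' F (π V)) ^ ℓ = 1 := by
      have e : QuotientGroup.mk' F (π V) = QuotientGroup.mk' F (π X) := by
        rw [hXVK, map_mul, map_mul, show QuotientGroup.mk' F (π K') = 1 from
          (QuotientGroup.eq_one_iff _).2 hKF, mul_one]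
      rw [e, ← map_pow, ← map_pow, show X ^ ℓ = 1 from Subtype.ext (hxo ▸ pow_orderOf_eq_one x),
        map_one, map_one]
    rw [← map_pow, QuotientGroup.mk'_apply, QuotientGroup.eq_one_iff] at hq
    rw [← map_pow] at hq ⊢
    exact s.rangeRestrict_eq_one_of_commute hq
      (by rw [SubmonoidClass.coe_pow]; exact huv.pow_right ℓ)
  have hVo : orderOf (π V) = ℓ :=
    orderOf_eq_prime hVℓ fun e => hVF (e ▸ one_mem F)
  obtain ⟨e, he, he1⟩ : ∃ e : s.E, ((π V : s.conjE.range) : MulAut s.E) e = e ∧ e ≠ 1 := by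
    by_contra hno
    push Not at hno
    exact hVF (s.oddTrans.mem_fitting hℓ.out hVo hno)
  have he1' : (e : G) ≠ 1 := fun h => he1 (Subtype.ext h)
  obtain ⟨l, hl, hle⟩ := s.exists_K_conj ht hta (s.orderOf_of_mem_E e.2 he1') e.2.1
  set L : stab2 a b := ⟨l, s.K_le_D hl⟩
  set Y : stab2 a b := L * X * L⁻¹ with hY
  have hYe : ((π Y : s.conjE.range) : MulAut s.E) e = e := Subtype.ext <| by
    change (l * x * l⁻¹) * (e : G) * (l * x * l⁻¹)⁻¹ = e
    calc l * x * l⁻¹ * (e : G) * (l * x * l⁻¹)⁻¹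
        = l * x * (l⁻¹ * (e : G) * l) * x⁻¹ * l⁻¹ := by group
      _ = l * (x * t * x⁻¹) * l⁻¹ := by rw [← hle]; group
      _ = _ := by rw [← htx.eq, mul_inv_cancel_right, hle]
  set B := zpowers (π V) ⊔ zpowers (π Y) with hB
  haveI : IsCyclic B := by
    refine s.oddTrans.isCyclic_of_fix he1 (B := B) fun f hf => ?_
    have : B ≤ (MulAction.stabilizer (MulAut s.E) e).comap s.conjE.range.subtype :=
      sup_le (zpowers_le.2 (MulAction.mem_stabilizer_iff.2 he))
        (zpowers_le.2 (MulAction.mem_stabilizer_iff.2 hYe))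
    exact MulAction.mem_stabilizer_iff.1 (this hf)
  have hYo : orderOf (π Y) = ℓ := by
    rw [hY, map_mul, map_mul, map_inv, Dihedral.orderOf_conj]
    refine orderOf_eq_prime ?_ hX1
    rw [← map_pow, show X ^ ℓ = 1 from Subtype.ext (hxo ▸ pow_orderOf_eq_one x), map_one]
  have heq : zpowers (π Y) = zpowers (π V) := by
    refine Subgroup.eq_of_le_of_card_ge ?_ (by rw [Nat.card_zpowers, Nat.card_zpowers, hYo, hVo])
    rw [zpowers_le]
    have hmem : ∀ y : B, y ^ ℓ = 1 → y ∈ zpowers (⟨π V, mem_sup_left (mem_zpowers _)⟩ : B) := by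
      intro y hy
      have hcard : Nat.card {z : B // z ^ ℓ = 1} ≤ ℓ := by
        classical
        haveI := Fintype.ofFinite B
        rw [Nat.card_eq_fintype_card, Fintype.card_subtype]
        exact IsCyclic.card_pow_eq_one_le hℓ.out.pos
      set w : B := ⟨π V, mem_sup_left (mem_zpowers _)⟩
      have hwo : orderOf w = ℓ := (Subgroup.orderOf_mk _ _).trans hVo
      let f : zpowers w → {z : B // z ^ ℓ = 1} := fun z => ⟨z, by
        obtain ⟨j, hj⟩ := mem_zpowers_iff.1 z.2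
        rw [← hj, ← zpow_natCast, ← zpow_mul, mul_comm, zpow_mul, zpow_natCast, ← hwo,
          pow_orderOf_eq_one, one_zpow]⟩
      have hf : Function.Injective f := fun z z' h => Subtype.ext (congrArg Subtype.val h :)
      obtain ⟨z, hz⟩ := (hf.bijective_of_nat_card_le
        (by rw [Nat.card_zpowers, hwo]; exact hcard)).2 ⟨y, hy⟩
      have hzy : (z : B) = y := congrArg Subtype.val hz
      exact hzy ▸ z.2
    obtain ⟨n, hn⟩ := mem_zpowers_iff.1 (hmem ⟨π Y, mem_sup_right (mem_zpowers _)⟩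
      (Subtype.ext (hYo ▸ pow_orderOf_eq_one (π Y))))
    exact mem_zpowers_iff.2 ⟨n, congrArg Subtype.val hn⟩
  obtain ⟨n, hn⟩ := mem_zpowers_iff.1 (heq ▸ mem_zpowers (π Y) : π Y ∈ zpowers (π V))
  have hW : l * x * l⁻¹ * (v ^ n)⁻¹ ∈ s.W0 := by
    refine s.rangeRestrict_eq_one (d := Y * (V ^ n)⁻¹) |>.1 ?_
    rw [map_mul, map_inv, map_zpow, ← hπ, hn, mul_inv_cancel]
  refine ⟨l, hl, ?_⟩
  rw [show l * x * l⁻¹ = (l * x * l⁻¹ * (v ^ n)⁻¹) * v ^ n by group]
  exact (s.commute_swap_W0 hW).mul_right (huv.zpow_right n)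

/-- An element of prime order of `D` centralising two involutions at `a` centralises no nontrivial
element of `R`. -/
theorem eq_one_of_commute_two {x : G} (hx : x ∈ stab2 a b) {ℓ : ℕ} [hℓ : Fact ℓ.Prime]
    (hxo : orderOf x = ℓ) {t t' : G} (ht : orderOf t = 2) (hta : t • a = a) (htx : Commute t x)
    (ht' : orderOf t' = 2) (hta' : t' • a = a) (htx' : Commute t' x) (hne : t ≠ t') {v : G}
    (hv : v ∈ R) (hxv : Commute x v) : v = 1 := by
  haveI := Fact.mk s.prime
  obtain ⟨k, hk, hku⟩ := s.exists_conj_commute hx hxo ht hta htx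
  have hka := (mem_stab2.1 (s.K_le_D hk)).1
  set φ := (MulAut.conj k).toMonoidHom with hφ
  have hcm : ∀ {y}, Commute y x → k * y * k⁻¹ ∈ centralizer ({k * x * k⁻¹} : Set G) :=
    fun {y} hy => mem_centralizer_singleton_iff.2 (hy.map φ).eq
  have hfix : ∀ {y : G}, y • a = a → (k * y * k⁻¹) • a = a := fun {y} hy => by
    rw [mul_smul, mul_smul, inv_smul_eq_iff.2 hka.symm, hy, hka]
  by_contra hv1
  have hx1 : x ≠ 1 := fun e => hℓ.out.ne_one (by rw [← hxo, e, orderOf_one])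
  refine s.u_ne (s.min.le_stabilizer_of_meets
    (centralizer_ne_top s.min (hfix (mem_stab2.1 hx).1) fun e => hx1 (by simpa using e))
    ((Dihedral.orderOf_conj k t).trans ht) (hfix hta)
    ((Dihedral.orderOf_conj k t').trans ht') ((s.commute_of_fixes ht hta ht' hta').map φ)
    (fun e => hne ((MulAut.conj k).injective e)) (hcm htx) (hcm htx') s.ne_two s.group s.le
    s.normal (fun e => hv1 ?_) (mem_centralizer_singleton_iff.2 hku.eq))
  have h1 : k * v * k⁻¹ = 1 := (Subgroup.eq_bot_iff_forall _).1 e _ (Subgroup.mem_inf.2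
    ⟨hcm hxv.symm, BenderTransitive.conj_mem_of_mem_normalizer (s.normal (s.K_le_D hk).1) hv⟩)
  simpa using h1

/-- An element of order `q ∣ mult H` centralised by the swap centralises two involutions at `a`. -/
theorem exists_two_commute {x : G} (hx : x ∈ stab2 a b) (hux : Commute u x) {q : ℕ}
    [hq : Fact q.Prime] (hqd : q ∣ mult H) (hxo : orderOf x = q) :
    ∃ t t' : G, orderOf t = 2 ∧ t • a = a ∧ Commute t x ∧ orderOf t' = 2 ∧ t' • a = a ∧
      Commute t' x ∧ t ≠ t' := by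
  classical
  obtain ⟨t, ht, hta, htx⟩ : ∃ t : G, orderOf t = 2 ∧ t • a = a ∧ Commute t x := by
    obtain ⟨t₀, ht₀, hta₀⟩ := SE.exists_involution_fixing s.min.se a
    by_cases hxW : x ∈ s.W0
    · exact ⟨t₀, ht₀, hta₀, (s.commute_W0_E hxW (s.mem_E_of_involution ht₀ hta₀)).symm⟩
    set π := s.conjE.rangeRestrict with hπ
    set X : stab2 a b := ⟨x, hx⟩
    have hX1 : π X ≠ 1 := fun e => hxW (s.rangeRestrict_eq_one.1 e)
    have hXo : orderOf (π X) = q := orderOf_eq_prime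
      (by rw [← map_pow, show X ^ q = 1 from Subtype.ext (hxo ▸ pow_orderOf_eq_one x), map_one]) hX1
    by_contra hno
    push Not at hno
    refine hX1 (s.rangeRestrict_eq_one_of_commute (s.oddTrans.mem_fitting hq.out hXo
      fun e he => by_contra fun he1 => ?_) hux)
    have he1' : (e : G) ≠ 1 := fun h => he1 (Subtype.ext h)
    refine hno e (s.orderOf_of_mem_E e.2 he1') e.2.1 ?_
    have h1 : x * (e : G) * x⁻¹ = e := congrArg Subtype.val he
    exact (mul_inv_eq_iff_eq_mul.1 h1).symm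
  have hxq : IsPGroup q (zpowers x) :=
    IsPGroup.of_card (n := 1) (by rw [Nat.card_zpowers, hxo, pow_one])
  have hd : q ∣ Nat.card {t : G // orderOf t = 2 ∧ t ∈ centralizer ({x} : Set G) ∧ t • a = a} :=
    Nat.modEq_zero_iff_dvd.1 ((card_centralized_modEq s.min.se hxq (mem_stab2.1 hx).1).trans
      (Nat.modEq_zero_iff_dvd.2 hqd))
  by_contra hno
  push Not at hno
  have h1 : Nat.card {t : G // orderOf t = 2 ∧ t ∈ centralizer ({x} : Set G) ∧ t • a = a} = 1 :=
    Nat.card_eq_one_iff_unique.2 ⟨⟨fun y z => Subtype.ext (hno y z y.2.1 y.2.2.2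
      (mem_centralizer_singleton_iff.1 y.2.2.1) z.2.1 z.2.2.2
      (mem_centralizer_singleton_iff.1 z.2.2.1))⟩,
      ⟨⟨t, ht, mem_centralizer_singleton_iff.2 htx.eq, hta⟩⟩⟩
  exact hq.out.not_dvd_one (h1 ▸ hd)

/-- For `q ∣ mult H` the `q`-subgroups of `C_D(u)` are cyclic. -/
theorem isCyclic_centralized {q : ℕ} [hq : Fact q.Prime] (hqd : q ∣ mult H) {Q : Subgroup G}
    (hQ : IsPGroup q Q) (hQD : Q ≤ stab2 a b) (hQu : ∀ g ∈ Q, Commute u g) : IsCyclic Q := by
  have hfpf : ∀ g ∈ Q, g ≠ 1 → R ⊓ centralizer {g} = ⊥ := fun g hg hg1 => by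
    obtain ⟨j, hj⟩ := IsPGroup.iff_orderOf.1 hQ ⟨g, hg⟩
    rw [Subgroup.orderOf_mk] at hj
    rcases j with _ | j
    · exact absurd (orderOf_eq_one_iff.1 (by rw [hj, pow_zero])) hg1
    have hxo : orderOf (g ^ q ^ j) = q := by
      rw [orderOf_pow' _ (pow_ne_zero _ hq.out.ne_zero), hj,
        Nat.gcd_eq_right (pow_dvd_pow q j.le_succ), pow_succ,
        Nat.mul_div_cancel_left _ (pow_pos hq.out.pos j)]
    obtain ⟨t, t', ht, hta, htx, ht', hta', htx', hne⟩ :=
      s.exists_two_commute (pow_mem (hQD hg) _) ((hQu g hg).pow_right _) hqd hxo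
    refine (Subgroup.eq_bot_iff_forall _).2 fun v hv => ?_
    have hvg : Commute v g := mem_centralizer_singleton_iff.1 hv.2
    exact s.eq_one_of_commute_two (pow_mem (hQD hg) _) hxo ht hta htx ht' hta' htx' hne hv.1
      (hvg.symm.pow_left _)
  obtain ⟨T, hT⟩ : ∃ T : Sylow q Q, (T : Subgroup Q) = ⊤ := by
    obtain ⟨T, hT⟩ := (hQ.of_equiv topEquiv.symm : IsPGroup q (⊤ : Subgroup Q)).exists_le_sylow
    exact ⟨T, top_le_iff.1 hT⟩
  rcases FrobRealize.FPF.sylow_cyclic_or_quaternion s.ne (hQD.trans (inf_le_left.trans s.normal))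
    hfpf T with hc | ⟨h2, -⟩
  · rw [hT] at hc
    exact (topEquiv (G := Q)).isCyclic.1 hc
  · exact absurd h2 (dvd_mult_ne_two s.min hqd)

/-- A Sylow subgroup of `D` for a prime dividing `mult H` centralises its part of the kernel. -/
theorem commute_sylow_W0 {q : ℕ} [hq : Fact q.Prime] (hqd : q ∣ mult H) {P : Subgroup G}
    (hP : P ≤ stab2 a b) (hPp : IsPGroup q P) (huP : u ∈ normalizer (P : Set G)) {g x : G}
    (hg : g ∈ P) (hx : x ∈ P) (hxW : x ∈ s.W0) : Commute g x := by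
  have hodd : Odd (Nat.card P) := odd_of_pgroup (dvd_mult_ne_two s.min hqd) hPp
  obtain ⟨v, hv, i, hi, huv, hiinv, rfl⟩ := exists_decomp s.inv hodd huP hg
  refine Commute.mul_left ?_ (s.commute_inverted_W0 (hP hi) hiinv hxW)
  set Q := P ⊓ centralizer ({u} : Set G)
  haveI : IsCyclic Q := s.isCyclic_centralized hqd (hPp.to_le inf_le_left)
    (inf_le_left.trans hP) fun y hy => (mem_centralizer_singleton_iff.1 hy.2 : Commute y u).symm
  letI := IsCyclic.commGroup (α := Q)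
  exact congrArg Subtype.val (mul_comm
    (⟨v, hv, mem_centralizer_singleton_iff.2 huv.symm.eq⟩ : Q)
    ⟨x, hx, mem_centralizer_singleton_iff.2 (s.commute_swap_W0 hxW).symm.eq⟩)

end Setting

end CfsgLib.LocalEven.StrongCore
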