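import Cfsg.Agent.Lib.LocalEven.StrongCore.Centralized
import Cfsg.Agent.Lib.Solvable.FrattiniFitting
import Cfsg.Agent.Lib.FrobRealize.FixedPointFree

/-!
# `C_D(R)` meets its conjugate under a swap trivially

`D = G_{a,b}` and the involution `u` interchanges `a` and `b`.
-/

set_option autoImplicit false
set_option linter.style.haveILetI false

namespace CfsgLib.LocalEven.StrongCore

open Subgroup MulAction CfsgLib.Involution.Dihedral CfsgLib.Involution
  CfsgLib.LocalEven.BenderTransitive CfsgLib.LocalEven.SwapInjective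

universe u

variable {G : Type u} [Group G] [Finite G] {H : Subgroup G}

/-- A configuration with a second coset and a swap. -/
structure Setting (a b : G ⧸ H) (u : G) (p : ℕ) (R : Subgroup G) : Prop extends Config a p R where
  hab : a ≠ b
  inv : orderOf u = 2
  swap : u • a = b

/-- An element whose centraliser contains a four-group at `δ`, central in a Sylow subgroup of
`G_{a,b}` for a prime dividing `mult H`. -/
theorem centralizer_cases (h : Min H) {q : ℕ} [Fact q.Prime] (hdvd : q ∣ mult H) {a b : G ⧸ H}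
    (hab : a ≠ b) {P : Subgroup G} (hP : P ≤ stab2 a b)
    (hPc : Nat.card P = q ^ (Nat.card (stab2 a b)).factorization q) {x : G} (hxP : x ∈ P)
    (hxc : ∀ g ∈ P, Commute g x) {δ : G ⧸ H} {v w : G} (hv : orderOf v = 2)
    (hvx : Commute v x) (hvδ : v • δ = δ) (hw : orderOf w = 2) (hwx : Commute w x)
    (hvw : Commute v w) (hne : v ≠ w) :
    (centralizer ({x} : Set G) ≤ stabilizer G δ ∧ (δ = a ∨ δ = b)) ∨
      ∃ s : G, orderOf s = 2 ∧ Commute s x ∧ s • a = a := by
  set X := centralizer ({x} : Set G) with hX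
  have hPX : P ≤ X := fun g hg => mem_centralizer_singleton_iff.2 (hxc g hg).eq
  by_cases hfix : X ≤ stabilizer G δ
  · exact .inl ⟨hfix, fixed_pair' h hdvd hab hP hPc (hPX.trans hfix)⟩
  right
  obtain ⟨g, hgX, hgδ⟩ := SetLike.not_le_iff_exists.1 hfix
  have hxq : IsPGroup q (zpowers x) := (IsPGroup.of_card hPc).to_le (zpowers_le.2 hxP)
  have hxδ : x • δ = δ := SE.commute_fixes h.se hv hvδ hvx.symm
  have hr : q ∣ Nat.card {t : G // orderOf t = 2 ∧ t ∈ X ∧ t • δ = δ} :=
    Nat.modEq_zero_iff_dvd.1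
      ((card_centralized_modEq h.se hxq hxδ).trans (Nat.modEq_zero_iff_dvd.2 hdvd))
  obtain ⟨y, hy, z, hz, hyz, hPy, hPz⟩ := exists_two_fixed h.se h.rigid hv
    (mem_centralizer_singleton_iff.2 hvx.eq) hvδ hw (mem_centralizer_singleton_iff.2 hwx.eq) hvw hne
    hr (dvd_mult_ne_two h hdvd) hgX hgδ (IsPGroup.of_card hPc) hPX
  obtain ⟨e, he, hea⟩ : ∃ e ∈ X, e • δ = a := by
    rcases fixed_pair' h hdvd hab hP hPc hPy with e | e
    · exact ⟨y, hy, e⟩
    · rcases fixed_pair' h hdvd hab hP hPc hPz with e' | e'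
      · exact ⟨z, hz, e'⟩
      · exact absurd (e.trans e'.symm) hyz
  refine ⟨e * v * e⁻¹, (Dihedral.orderOf_conj e v).trans hv, ?_, ?_⟩
  · have hmem : e * v * e⁻¹ ∈ X :=
      mul_mem (mul_mem he (mem_centralizer_singleton_iff.2 hvx.eq)) (inv_mem he)
    exact mem_centralizer_singleton_iff.1 hmem
  · rw [← hea, smul_smul, inv_mul_cancel_right, mul_smul, hvδ]

omit [Finite G] in
theorem mem_normalizer_centralizer {Y : Subgroup G} {g : G} (hg : g ∈ normalizer (Y : Set G)) :
    g ∈ normalizer ((centralizer (Y : Set G) : Subgroup G) : Set G) := by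
  have key : ∀ g ∈ normalizer (Y : Set G), ∀ c ∈ centralizer (Y : Set G),
      g * c * g⁻¹ ∈ centralizer (Y : Set G) := by
    intro g hg c hc
    refine mem_centralizer_iff.2 fun y hy => ?_
    have h1 := mem_centralizer_iff.1 hc _ (BenderTransitive.conj_inv_mem_of_mem_normalizer hg hy)
    calc y * (g * c * g⁻¹) = g * (g⁻¹ * y * g * c) * g⁻¹ := by group
      _ = g * (c * (g⁻¹ * y * g)) * g⁻¹ := by rw [h1]
      _ = g * c * g⁻¹ * y := by group
  refine mem_normalizer_iff.2 fun c => ⟨key g hg c, fun h => ?_⟩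
  have h1 := key _ (inv_mem hg) _ h
  rwa [show g⁻¹ * (g * c * g⁻¹) * g⁻¹⁻¹ = c by group] at h1

namespace Setting

variable {a b : G ⧸ H} {u : G} {p : ℕ} {R : Subgroup G} (s : Setting a b u p R)

include s

theorem swap_D : u ∈ normalizer (stab2 a b : Set G) := swap_mem_normalizer s.inv s.swap

theorem odd_D : Odd (Nat.card (stab2 a b)) := odd_stab2 s.min.se s.hab

theorem odd_mem {g : G} (hg : g ∈ stab2 a b) : Odd (orderOf g) :=
  odd_orderOf_stab2 s.min s.hab hg

theorem u_ne : u • a ≠ a := fun h => s.hab (h.symm.trans s.swap)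

theorem exists_R : ∃ v ∈ R, v ≠ 1 :=
  let ⟨v, hv⟩ := (ne_bot_iff_exists_ne_one.1 s.ne)
  ⟨v, v.2, fun h => hv (Subtype.ext h)⟩

omit s [Finite G] in
theorem centralizer_ne_top (h : Min H) {x : G} {a : G ⧸ H} (hxa : x • a = a) (hx1 : x ≠ 1) :
    centralizer ({x} : Set G) ≠ ⊤ := fun e => hx1
  (smul_eq_of_normalCore_bot h.core fun d => by
    obtain ⟨g, rfl⟩ := MulAction.exists_smul_eq G a d
    have : Commute g x := mem_centralizer_singleton_iff.1 (e ▸ mem_top g)
    rw [smul_smul, ← this.eq, mul_smul, hxa])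

/-- The elements of `D` centralising `R` and its conjugate under the swap. -/
def J (_s : Setting a b u p R) : Subgroup G :=
  stab2 a b ⊓ centralizer (R : Set G) ⊓
    centralizer (R.map (MulAut.conj u).toMonoidHom : Set G)

theorem mem_J {x : G} : x ∈ s.J ↔
    x ∈ stab2 a b ∧ (∀ v ∈ R, Commute x v) ∧ ∀ v ∈ R, Commute x (u * v * u⁻¹) := by
  rw [J, Subgroup.mem_inf, Subgroup.mem_inf, and_assoc, mem_centralizer_iff, mem_centralizer_iff]
  refine and_congr_right fun _ => and_congr ⟨fun h v hv => (h v hv).symm, fun h v hv => (h v hv).symm⟩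
    ⟨fun h v hv => (h _ ⟨v, hv, rfl⟩).symm, ?_⟩
  rintro h _ ⟨v, hv, rfl⟩
  exact (h v hv).symm

theorem swap_J : u ∈ normalizer (s.J : Set G) := by
  refine Coprime.mem_normalizer_of_conj_map_le fun x hx => ?_
  obtain ⟨hxD, h1, h2⟩ := (s.mem_J).1 hx
  refine (s.mem_J).2 ⟨BenderTransitive.conj_mem_of_mem_normalizer s.swap_D hxD,
    fun v hv => ?_, fun v hv => ?_⟩
  · have := (h2 v hv).map (MulAut.conj u).toMonoidHom
    simp only [MulEquiv.coe_toMonoidHom, MulAut.conj_apply] at this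
    have e : u * (u * v * u⁻¹) * u⁻¹ = v := by
      calc u * (u * v * u⁻¹) * u⁻¹ = (u * u) * v * (u * u)⁻¹ := by group
        _ = v := by rw [mul_self s.inv]; group
    rwa [e] at this
  · simpa using (h1 v hv).map (MulAut.conj u).toMonoidHom

theorem D_le_normalizer_J : stab2 a b ≤ normalizer (s.J : Set G) := by
  intro d hd
  refine mem_normalizer_inf' (mem_normalizer_inf' (le_normalizer hd)
    (mem_normalizer_centralizer (s.normal hd.1))) ?_
  refine mem_normalizer_centralizer ?_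
  exact le_normalizer_map (H := R) (MulAut.conj u).toMonoidHom
    ⟨u⁻¹ * d * u, s.normal (BenderTransitive.conj_inv_mem_of_mem_normalizer s.swap_D hd).1,
      by simp [mul_assoc]⟩

theorem commute_swap_J {x : G} (hx : x ∈ s.J) : Commute u x := by
  set y := x⁻¹ * (u * x * u⁻¹) with hy
  have hyJ : y ∈ s.J :=
    mul_mem (inv_mem hx) (BenderTransitive.conj_mem_of_mem_normalizer s.swap_J hx)
  obtain ⟨hyD, h1, -⟩ := (s.mem_J).1 hyJ
  have hinv : u * y * u⁻¹ = y⁻¹ := by
    rw [hy, inv_eq s.inv, mul_inv_rev, mul_inv_rev, mul_inv_rev, inv_eq s.inv, inv_inv]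
    calc u * (x⁻¹ * (u * x * u)) * u = u * x⁻¹ * u * x * (u * u) := by group
      _ = _ := by rw [mul_self s.inv]; simp [mul_assoc]
  have hy1 : y = 1 := by
    by_contra hne
    obtain ⟨v, hv, hv1⟩ := s.exists_R
    exact hv1 (s.toConfig.eq_one_of_commute s.hab s.inv s.swap hyD hinv hne hv (h1 v hv).symm)
  exact (mul_inv_eq_iff_eq_mul.1 (inv_mul_eq_one.1 hy1).symm)

/-- No involution at `a` centralises an element of `J` of prime order, and some other coset is the
fixed point of a four-group centralising it. -/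
theorem odd_and_exists_four {x : G} (hx : x ∈ s.J) (hx1 : x ≠ 1) :
    Odd (Nat.card ↥(centralizer ({x} : Set G) ⊓ stabilizer G a)) ∧
      ∃ v w : G, orderOf v = 2 ∧ Commute v x ∧ orderOf w = 2 ∧ Commute w x ∧ Commute v w ∧
        v ≠ w ∧ v • a ≠ a := by
  obtain ⟨hxD, hxR, -⟩ := (s.mem_J).1 hx
  set X := centralizer ({x} : Set G) with hX
  have hux : Commute u x := s.commute_swap_J hx
  have huX : u ∈ X := mem_centralizer_singleton_iff.2 hux.eq
  have hRX : R ≤ X := fun v hv => mem_centralizer_singleton_iff.2 (hxR v hv).symm.eq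
  have hno : ∀ v w : G, orderOf v = 2 → v ∈ X → v • a = a → orderOf w = 2 → w ∈ X →
      Commute v w → v ≠ w → False := by
    intro v w hv hvX hva hw hwX hvw hne
    haveI := Fact.mk s.prime
    refine s.u_ne (s.min.le_stabilizer_of_meets (centralizer_ne_top s.min
      (mem_stab2.1 hxD).1 hx1) hv hva hw hvw hne hvX hwX s.ne_two s.group s.le s.normal ?_ huX)
    rw [inf_eq_right.2 hRX]
    exact s.ne
  have hoddA : Odd (Nat.card ↥(X ⊓ stabilizer G a)) := by
    rw [← Nat.not_even_iff_odd]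
    intro hev
    obtain ⟨t, ⟨htX, hta⟩, ht⟩ := Basic.exists_involution_of_even _ hev
    by_cases hpair : ∃ v ∈ X, ∃ w ∈ X, orderOf v = 2 ∧ orderOf w = 2 ∧ Commute v w ∧ v ≠ w
    · obtain ⟨v, hv, w, hw, hv2, hw2, hvw, hne⟩ := hpair
      obtain ⟨δ, hδ⟩ := SE.exists_fixed s.min.se hv2
      by_cases hδa : δ = a
      · exact hno v w hv2 hv (hδa ▸ hδ) hw2 hw hvw hne
      by_cases hmove : ∃ g ∈ X, g • δ ≠ δ
      · obtain ⟨g, hg, hgδ⟩ := hmove
        obtain ⟨γ, hγ, hγδ⟩ :=
          fixed_mem_orbit s.min.se hv2 hv hδ hg hgδ ht htX (mem_stabilizer_iff.1 hta)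
        refine hno (γ * v * γ⁻¹) (γ * w * γ⁻¹) ((Dihedral.orderOf_conj γ v).trans hv2)
          (mul_mem (mul_mem hγ hv) (inv_mem hγ)) ?_ ((Dihedral.orderOf_conj γ w).trans hw2)
          (mul_mem (mul_mem hγ hw) (inv_mem hγ)) (hvw.map (MulAut.conj γ).toMonoidHom)
          fun e => hne ((MulAut.conj γ).injective e)
        rw [← hγδ, smul_smul, inv_mul_cancel_right, mul_smul, hδ]
      · push Not at hmove
        exact hδa (SE.fixed_unique s.min.se ht (hmove t htX) (mem_stabilizer_iff.1 hta))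
    · push Not at hpair
      -- `X` has a single class of isolated involutions
      set u' : X := ⟨u, huX⟩
      have hiso : Cfsg.IsIsolatedInvolution u' := ⟨(orderOf_mk u huX).trans s.inv, fun g hg => by
        have h2 := hg.map X.subtype
        simp only [Subgroup.coe_subtype] at h2
        refine Subtype.ext (hpair _ (g * u' * g⁻¹ : X).2 u huX ?_ s.inv ?_)
        · rw [orderOf_coe, Dihedral.orderOf_conj]; exact (orderOf_mk u huX).trans s.inv
        · first
            | exact h2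
            | exact h2.symm⟩
      obtain ⟨q, hq, hqd⟩ := Nat.exists_prime_and_dvd (one_lt_mult s.min).ne'
      haveI := Fact.mk hq
      obtain ⟨P, hP, hPc, hPp, huP⟩ := exists_inv_sylow (p := q) s.inv s.odd_D s.swap_D
      obtain ⟨k, hkP, hko, hkinv⟩ :=
        exists_inverted s.min s.hab s.inv s.swap hqd hP hPc huP
      have hkD := hP hkP
      have hk1 : k ≠ 1 := fun e => hq.ne_one (by rw [← hko, e, orderOf_one])
      have hkx : Commute k x := commute_inverted (s.odd_mem hkD) hkinv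
        (fun j hj => s.commute_swap_J hj) (s.D_le_normalizer_J hkD) hx
      set k' : X := ⟨k, mem_centralizer_singleton_iff.2 hkx.eq⟩
      haveI := ZStar.oddCore_normal (G := X)
      have hk'O : k' ∈ Cfsg.oddCore X := by
        obtain ⟨o, ho, e, he, hke⟩ :=
          ZStar.exists_oddCore_mul_centralizer (ZStar.starCentral X) hiso k'
        have h1 : (QuotientGroup.mk' (Cfsg.oddCore X) (u' * k' * u'⁻¹)) =
            QuotientGroup.mk' (Cfsg.oddCore X) k' := by
          rw [hke, map_mul, map_mul, map_mul,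
            show QuotientGroup.mk' (Cfsg.oddCore X) o = 1 from (QuotientGroup.eq_one_iff o).2 ho,
            one_mul, ← map_mul, ← map_mul]
          congr 1
          rw [← mem_centralizer_singleton_iff.1 he, mul_inv_cancel_right]
        rw [show u' * k' * u'⁻¹ = k'⁻¹ from Subtype.ext hkinv, map_inv, inv_eq_iff_mul_eq_one,
          ← map_mul] at h1
        exact ZStar.mem_of_sq_mem ((orderOf_mk k _).symm ▸ s.odd_mem hkD)
          ((QuotientGroup.eq_one_iff _).1 h1)
      set O := (Cfsg.oddCore X).map X.subtype ⊓ stabilizer G a with hO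
      have hOodd : Odd (Nat.card O) :=
        (Min.odd_oddCore_map X).of_dvd_nat (Subgroup.card_dvd_of_le inf_le_left)
      have htO : t ∈ normalizer (O : Set G) :=
        mem_normalizer_inf' (Min.normalizer_oddCore_map X htX) (le_normalizer hta)
      have hkO : zpowers k ≤ O :=
        zpowers_le.2 ⟨⟨k', hk'O, rfl⟩, mem_stabilizer_iff.2 (mem_stab2.1 hkD).1⟩
      obtain ⟨Q, hQO, hQc, hQp, htQ⟩ := exists_inv_sylow (p := q) ht hOodd htO
      -- `Q` fixes a second coset
      have hQa : Q ≤ stabilizer G a := hQO.trans inf_le_right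
      obtain ⟨T, hT⟩ := (hQp.of_equiv (subgroupOfEquivOfLe hQa).symm).exists_le_sylow
      obtain ⟨S, hS⟩ := Coprime.exists_sylow_map_eq (hP.trans inf_le_left)
        (card_sylow_stabilizer s.min hqd s.hab hP hPc)
      obtain ⟨g, hg⟩ := MulAction.exists_smul_eq (stabilizer G a) T S
      have hQD : Q ≤ stab2 a ((g : G)⁻¹ • b) := le_inf hQa fun x hx => by
        have h1 : (g : G) * x * (g : G)⁻¹ ∈ P := by
          rw [← hS, ← hg, Coprime.map_smul_sylow]
          exact ⟨x, ⟨⟨x, hQa hx⟩, hT (mem_subgroupOf.2 hx), rfl⟩, rfl⟩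
        have h2 := (mem_stab2.1 (hP h1)).2
        rw [mul_smul, mul_smul, ← eq_inv_smul_iff] at h2
        exact mem_stabilizer_iff.2 h2
      have hne : (g : G)⁻¹ • b ≠ a := fun e => s.hab (by
        rw [inv_smul_eq_iff, mem_stabilizer_iff.1 g.2] at e
        exact e.symm)
      obtain ⟨T₁, hT₁⟩ := (IsPGroup.of_card (n := 1) (by rw [Nat.card_zpowers, hko, pow_one] :
        Nat.card (zpowers k) = q ^ 1)).of_equiv (subgroupOfEquivOfLe hkO).symm |>.exists_le_sylow
      obtain ⟨T₂, hT₂⟩ := Coprime.exists_sylow_map_eq hQO hQc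
      obtain ⟨y, hy⟩ := MulAction.exists_smul_eq O T₁ T₂
      have hkQ : (y : G) * k * (y : G)⁻¹ ∈ Q := by
        rw [← hT₂, ← hy, Coprime.map_smul_sylow]
        exact ⟨k, ⟨⟨k, hkO (mem_zpowers k)⟩, hT₁ (mem_subgroupOf.2 (mem_zpowers k)), rfl⟩, rfl⟩
      have hc := (s.min.rigid.commute hne ht (mem_stabilizer_iff.1 hta) hQD htQ hkQ).map
        (MulAut.conj (y : G)⁻¹).toMonoidHom
      simp only [MulEquiv.coe_toMonoidHom, MulAut.conj_apply] at hc
      rw [show (y : G)⁻¹ * ((y : G) * k * (y : G)⁻¹) * (y : G)⁻¹⁻¹ = k by group] at hc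
      refine Nat.not_even_iff_odd.2 (odd_centralizer s.min s.hab s.inv s.swap hkD hkinv hk1)
        (Basic.even_of_involution_mem _ (mem_centralizer_singleton_iff.2 hc.symm.eq)
          ((Dihedral.orderOf_conj _ _).trans ht))
  refine ⟨hoddA, ?_⟩
  by_contra hnone
  push Not at hnone
  have hiso : Cfsg.IsIsolatedInvolution (⟨u, huX⟩ : X) :=
    ⟨(orderOf_mk u huX).trans s.inv, fun g hg => by
      by_contra hne
      have h2 := hg.map X.subtype
      simp only [Subgroup.coe_subtype] at h2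
      refine s.u_ne (hnone u _ s.inv hux ?_ (mem_centralizer_singleton_iff.1 (g * ⟨u, huX⟩ * g⁻¹ : X).2)
        ?_ fun e => hne (Subtype.ext e.symm))
      · rw [orderOf_coe, Dihedral.orderOf_conj]; exact (orderOf_mk u huX).trans s.inv
      · exact h2⟩
  set O := (Cfsg.oddCore X).map X.subtype with hO
  have hXO : X ≤ normalizer (O : Set G) := Min.normalizer_oddCore_map X
  have hOX : O ≤ X := map_subtype_le _
  have hYodd : Odd (Nat.card ↥(O ⊔ R)) := by
    haveI := Fact.mk s.prime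
    haveI : (O.subgroupOf X).Normal := (normal_subgroupOf_iff_le_normalizer hOX).2 hXO
    have h := Solvable.Basic.card_sup_mul (O.subgroupOf X) (R.subgroupOf X)
    rw [← Subgroup.subgroupOf_sup hRX hOX, sup_comm,
      Nat.card_congr (subgroupOfEquivOfLe (sup_le hOX hRX)).toEquiv,
      Nat.card_congr (subgroupOfEquivOfLe hRX).toEquiv,
      Nat.card_congr (subgroupOfEquivOfLe hOX).toEquiv] at h
    exact ((odd_of_pgroup s.ne_two s.group).mul (Min.odd_oddCore_map X)).of_dvd_nat ⟨_, h.symm⟩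
  have huY : u ∈ normalizer ((O ⊔ R : Subgroup G) : Set G) := by
    refine Coprime.mem_normalizer_of_conj_map_le fun y hy => ?_
    have hle : (O ⊔ R).map (MulAut.conj u).toMonoidHom ≤ O ⊔ R := by
      rw [Subgroup.map_sup, show O.map (MulAut.conj u).toMonoidHom = O from
        mem_normalizer_iff_map_conj_eq.1 (hXO huX)]
      refine sup_le le_sup_left ?_
      rintro _ ⟨v, hv, rfl⟩
      obtain ⟨o, ho, e, he, hve⟩ :=
        ZStar.exists_oddCore_mul_centralizer (ZStar.starCentral X) hiso ⟨v, hRX hv⟩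
      have ho' : (o : G) ∈ O := ⟨o, ho, rfl⟩
      have hv' : v = (o : G) * (e : G) := congrArg Subtype.val hve
      have heu : Commute (e : G) u := congrArg Subtype.val (mem_centralizer_singleton_iff.1 he)
      change u * v * u⁻¹ ∈ O ⊔ R
      have hcalc : u * v * u⁻¹ = (u * (o : G) * u⁻¹) * (o : G)⁻¹ * v := by
        rw [hv']
        calc u * ((o : G) * (e : G)) * u⁻¹ = (u * (o : G) * u⁻¹) * (u * (e : G) * u⁻¹) := by group
          _ = (u * (o : G) * u⁻¹) * (e : G) := by rw [heu.symm.eq, mul_inv_cancel_right]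
          _ = _ := by group
      rw [hcalc]
      exact mul_mem (mem_sup_left (mul_mem
        (BenderTransitive.conj_mem_of_mem_normalizer (hXO huX) ho') (inv_mem ho')))
        (mem_sup_right hv)
    exact hle ⟨y, hy, rfl⟩
  obtain ⟨v, hv, hv1⟩ := s.exists_R
  haveI := Fact.mk s.prime
  refine false_of_parity hYodd s.inv huY (a := a) ?_ (mem_sup_right hv)
    (s.group.to_le (zpowers_le.2 hv)) (mem_stabilizer_iff.1 (s.le hv)) fun c hc =>
      by_contra fun hne => hv1 (s.toConfig.eq_one_of_fixes hv hc hne)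
  intro y hy hfix
  have hyX : y ∈ X := sup_le hOX hRX hy
  refine Nat.not_even_iff_odd.2 hoddA (Basic.even_of_involution_mem _ (t := y⁻¹ * u * y⁻¹⁻¹)
    (show y⁻¹ * u * y⁻¹⁻¹ ∈ X ⊓ stabilizer G a from
      Subgroup.mem_inf.2 ⟨mul_mem (mul_mem (inv_mem hyX) huX) (inv_mem (inv_mem hyX)),
        mem_stabilizer_iff.2 ?_⟩)
    ((Dihedral.orderOf_conj _ _).trans s.inv))
  rw [inv_inv, mul_smul, mul_smul, hfix, inv_smul_smul]

/-- `C_D(R)` meets its conjugate under the swap trivially. -/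
theorem J_eq_bot : s.J = ⊥ := by
  by_contra hne
  obtain ⟨x₀, hx₀⟩ := ne_bot_iff_exists_ne_one.1 hne
  set n := orderOf x₀
  have hn1 : n ≠ 1 := fun e => hx₀ (orderOf_eq_one_iff.1 e)
  set q := n.minFac
  haveI : Fact q.Prime := ⟨Nat.minFac_prime hn1⟩
  set x : G := ((x₀ ^ (n / q) : s.J) : G)
  have hxo : orderOf x = q := by
    rw [orderOf_coe, orderOf_pow_orderOf_div (orderOf_pos x₀).ne' (Nat.minFac_dvd n)]
  have hx : x ∈ s.J := (x₀ ^ (n / q)).2
  have hx1 : x ≠ 1 := fun e => (Fact.out : q.Prime).ne_one (by rw [← hxo, e, orderOf_one])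
  have hxD := ((s.mem_J).1 hx).1
  obtain ⟨hodd, -⟩ := s.odd_and_exists_four hx hx1
  have hqd : q ∣ mult H := by
    by_contra hnd
    have hmod := card_centralized_modEq s.min.se
      (IsPGroup.of_card (n := 1) (by rw [Nat.card_zpowers, hxo, pow_one]) : IsPGroup q (zpowers x))
      (mem_stab2.1 hxD).1
    haveI : IsEmpty {t : G // orderOf t = 2 ∧ t ∈ centralizer ({x} : Set G) ∧ t • a = a} :=
      ⟨fun t => Nat.not_even_iff_odd.2 hodd (Basic.even_of_involution_mem _
        ⟨t.2.2.1, mem_stabilizer_iff.2 t.2.2.2⟩ t.2.1)⟩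
    rw [Nat.card_of_isEmpty] at hmod
    exact hnd (Nat.modEq_zero_iff_dvd.1 hmod.symm)
  obtain ⟨P, hP, hPc, hPp, -⟩ := exists_inv_sylow (p := q) s.inv s.odd_D s.swap_D
  -- a central element of a Sylow subgroup in `J`
  have hJD : s.J ≤ stab2 a b := fun y hy => ((s.mem_J).1 hy).1
  obtain ⟨S, hS⟩ := Coprime.exists_sylow_map_eq hP hPc
  haveI : (s.J.subgroupOf (stab2 a b)).Normal :=
    (normal_subgroupOf_iff_le_normalizer hJD).2 s.D_le_normalizer_J
  have hxP : ∃ y ∈ s.J, y ∈ P ∧ y ≠ 1 := by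
    obtain ⟨T, hT⟩ := (IsPGroup.of_card (n := 1) (G := zpowers x)
      (by rw [Nat.card_zpowers, hxo, pow_one])).of_equiv
      (subgroupOfEquivOfLe (zpowers_le.2 hxD)).symm |>.exists_le_sylow
    obtain ⟨d, hd⟩ := MulAction.exists_smul_eq (stab2 a b) T S
    refine ⟨(d : G) * x * (d : G)⁻¹,
      BenderTransitive.conj_mem_of_mem_normalizer (s.D_le_normalizer_J d.2) hx, ?_,
      fun e => hx1 (by simpa using e)⟩
    rw [← hS, ← hd, Coprime.map_smul_sylow]
    exact ⟨x, ⟨⟨x, hxD⟩, hT (mem_subgroupOf.2 (mem_zpowers x)), rfl⟩, rfl⟩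
  haveI : Group.IsNilpotent P := hPp.isNilpotent
  haveI : (s.J.subgroupOf P).Normal :=
    normal_subgroupOf_of_le_normalizer (hP.trans s.D_le_normalizer_J)
  obtain ⟨y, hyJ, hyP, hy1⟩ := hxP
  obtain ⟨⟨⟨z, hzP⟩, hzJ, hzc⟩, hz1⟩ := ne_bot_iff_exists_ne_one.1
    (Solvable.FrattiniFitting.inf_center_ne_bot (s.J.subgroupOf P) fun e => hy1
      (congrArg Subtype.val ((Subgroup.eq_bot_iff_forall _).1 e ⟨y, hyP⟩ (mem_subgroupOf.2 hyJ))))
  have hz1' : z ≠ 1 := fun e => hz1 (Subtype.ext (Subtype.ext e))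
  have hzJ' : z ∈ s.J := mem_subgroupOf.1 hzJ
  obtain ⟨hodd', v, w, hv, hvz, hw, hwz, hvw, hne', hva⟩ := s.odd_and_exists_four hzJ' hz1'
  obtain ⟨δ, hδ⟩ := SE.exists_fixed s.min.se hv
  rcases centralizer_cases s.min hqd s.hab hP hPc hzP
    (fun g hg => congrArg Subtype.val (Subgroup.mem_center_iff.1 hzc ⟨g, hg⟩)) hv hvz hδ hw hwz
    hvw hne' with ⟨hle, h1⟩ | ⟨t, ht, htz, hta⟩
  · rcases h1 with rfl | rfl
    · exact hva hδ
    · have h2 : u • δ = δ := hle (mem_centralizer_singleton_iff.2 (s.commute_swap_J hzJ').eq)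
      exact s.hab ((swap_smul s.inv s.swap).symm.trans h2)
  · exact Nat.not_even_iff_odd.2 hodd' (Basic.even_of_involution_mem _
      ⟨mem_centralizer_singleton_iff.2 htz.eq, mem_stabilizer_iff.2 hta⟩ ht)

/-- An element of `D` centralising the conjugate of `R` under the swap centralises no nontrivial
element of `R`. -/
theorem eq_one_of_centralizes_conj {d : G} (hd : d ∈ stab2 a b)
    (hdR : ∀ v ∈ R, Commute d (u * v * u⁻¹)) {v : G} (hv : v ∈ R) (hdv : Commute d v)
    (hv1 : v ≠ 1) : d = 1 := by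
  set d₀ := u * d * u⁻¹ with hd₀
  have hd₀D : d₀ ∈ stab2 a b := BenderTransitive.conj_mem_of_mem_normalizer s.swap_D hd
  have huu : ∀ x : G, u * (u * x * u⁻¹) * u⁻¹ = x := fun x => by
    calc u * (u * x * u⁻¹) * u⁻¹ = (u * u) * x * (u * u)⁻¹ := by group
      _ = x := by rw [mul_self s.inv]; group
  have hd₀R : ∀ w ∈ R, Commute d₀ w := fun w hw => by
    have := (hdR w hw).map (MulAut.conj u).toMonoidHom
    simp only [MulEquiv.coe_toMonoidHom, MulAut.conj_apply, huu] at this
    exact this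
  have hinv : u * (d₀⁻¹ * d) * u⁻¹ = (d₀⁻¹ * d)⁻¹ := by
    calc u * (d₀⁻¹ * d) * u⁻¹ = (u * d₀ * u⁻¹)⁻¹ * (u * d * u⁻¹) := by group
      _ = _ := by rw [hd₀, huu, mul_inv_rev, inv_inv]
  have hk : d₀⁻¹ * d = 1 := by
    by_contra hne
    exact hv1 (s.toConfig.eq_one_of_commute s.hab s.inv s.swap (mul_mem (inv_mem hd₀D) hd) hinv hne
      hv ((hd₀R v hv).symm.inv_right.mul_right hdv.symm))
  rw [inv_mul_eq_one] at hk
  have hmem : d ∈ s.J := (s.mem_J).2 ⟨hd, fun w hw => hk ▸ hd₀R w hw, hdR⟩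
  rwa [s.J_eq_bot, mem_bot] at hmem

/-- The primes dividing `|C_D(R)|` divide `mult H`. -/
theorem dvd_mult_of_centralizes {d : G} (hd : d ∈ stab2 a b) (hdR : ∀ v ∈ R, Commute d v) {ℓ : ℕ}
    [hℓ : Fact ℓ.Prime] (hdo : orderOf d = ℓ) : ℓ ∣ mult H := by
  by_contra hnd
  obtain ⟨P, hP, hPc, hPp, huP⟩ := exists_inv_sylow (p := ℓ) s.inv s.odd_D s.swap_D
  have hPu : P ≤ centralizer ({u} : Set G) := by
    have h1 := relIndex_sylow_swap s.min.se s.hab s.inv s.swap hP hPc huP
    rw [mpart, Nat.factorization_eq_zero_of_not_dvd hnd, pow_zero] at h1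
    exact relIndex_eq_one.1 h1
  obtain ⟨S, hS⟩ := Coprime.exists_sylow_map_eq hP hPc
  obtain ⟨T, hT⟩ := (IsPGroup.of_card (n := 1) (G := zpowers d)
    (by rw [Nat.card_zpowers, hdo, pow_one])).of_equiv
    (subgroupOfEquivOfLe (zpowers_le.2 hd)).symm |>.exists_le_sylow
  obtain ⟨g, hg⟩ := MulAction.exists_smul_eq (stab2 a b) T S
  set d' := (g : G) * d * (g : G)⁻¹ with hd'
  have hd'P : d' ∈ P := by
    rw [← hS, ← hg, Coprime.map_smul_sylow]
    exact ⟨d, ⟨⟨d, hd⟩, hT (mem_subgroupOf.2 (mem_zpowers d)), rfl⟩, rfl⟩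
  have hd'R : ∀ v ∈ R, Commute d' v := fun v hv => by
    have := (hdR _ (BenderTransitive.conj_inv_mem_of_mem_normalizer (s.normal g.2.1) hv)).map
      (MulAut.conj (g : G)).toMonoidHom
    simp only [MulEquiv.coe_toMonoidHom, MulAut.conj_apply] at this
    rwa [show (g : G) * ((g : G)⁻¹ * v * (g : G)) * (g : G)⁻¹ = v by group] at this
  have hud : Commute d' u := mem_centralizer_singleton_iff.1 (hPu hd'P)
  have hmem : d' ∈ s.J := (s.mem_J).2 ⟨hP hd'P, hd'R, fun v hv => by
    have h2 := (hd'R v hv).map (MulAut.conj u).toMonoidHom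
    simp only [MulEquiv.coe_toMonoidHom, MulAut.conj_apply] at h2
    rwa [← hud.eq, mul_inv_cancel_right] at h2⟩
  rw [s.J_eq_bot, mem_bot] at hmem
  have h1 : d = 1 := by simpa [hd'] using hmem
  exact hℓ.out.ne_one (by rw [← hdo, h1, orderOf_one])

/-- The Sylow subgroups of a subgroup of `C_D(R)` are cyclic. -/
theorem isCyclic_of_centralizes {Q : Subgroup G} (hQ : Q ≤ stab2 a b)
    (hQR : ∀ g ∈ Q, ∀ v ∈ R, Commute g v) {q : ℕ} [Fact q.Prime] (S : Sylow q Q) : IsCyclic S := by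
  set Q' := Q.map (MulAut.conj u).toMonoidHom with hQ'
  have hQ'D : Q' ≤ stab2 a b := by
    rintro _ ⟨g, hg, rfl⟩
    exact BenderTransitive.conj_mem_of_mem_normalizer s.swap_D (hQ hg)
  let e : Q ≃* Q' := Q.equivMapOfInjective _ (MulAut.conj u).injective
  let S' : Sylow q Q' := S.mapSurjective e.surjective (f := e.toMonoidHom)
  have hfpf : ∀ g ∈ Q', g ≠ 1 → R ⊓ centralizer {g} = ⊥ := by
    rintro g hg hg1
    refine (Subgroup.eq_bot_iff_forall _).2 fun v hv => by_contra fun hv1 => hg1 ?_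
    obtain ⟨g₀, hg₀, rfl⟩ := hg
    exact s.eq_one_of_centralizes_conj (hQ'D ⟨g₀, hg₀, rfl⟩)
      (fun w hw => (hQR g₀ hg₀ w hw).map (MulAut.conj u).toMonoidHom) hv.1
      (mem_centralizer_singleton_iff.1 hv.2).symm hv1
  rcases FrobRealize.FPF.sylow_cyclic_or_quaternion s.ne
    (hQ'D.trans (inf_le_left.trans s.normal)) hfpf S' with hc | ⟨h2, -⟩
  · haveI : IsCyclic ((S : Subgroup Q).map e.toMonoidHom) := hc
    exact isCyclic_of_injective ((S : Subgroup Q).equivMapOfInjective e.toMonoidHom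
      e.injective).toMonoidHom (MulEquiv.injective _)
  · subst h2
    have hodd : Odd (Nat.card (S : Subgroup Q)) :=
      (s.odd_D.of_dvd_nat (Subgroup.card_dvd_of_le hQ)).of_dvd_nat
        (S : Subgroup Q).card_subgroup_dvd_card
    obtain ⟨n, hn⟩ := S.isPGroup'.exists_card_eq
    rcases n with _ | n
    · haveI : Subsingleton (S : Subgroup Q) :=
        Finite.card_le_one_iff_subsingleton.1 (by rw [hn, pow_zero])
      exact isCyclic_of_subsingleton
    · exact absurd (hn ▸ hodd) (Nat.not_odd_iff_even.2 (Nat.even_pow.2 ⟨even_two, n.succ_ne_zero⟩))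

end Setting

end CfsgLib.LocalEven.StrongCore
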