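import Cfsg.Agent.Lib.LocalEven.StrongCore.Automiser
import Cfsg.Agent.Lib.LocalEven.StrongCore.JTrivial
import Cfsg.Agent.Lib.OddOrder.FPFTools
import Cfsg.Agent.Lib.Coprime.Sylow

/-!
# The `2`-core of the stabiliser of `a`

The `2`-elements of `C_{G_a}(R)` form a `2`-group `S0`; it contains every `2`-subgroup of `G_a`
normalised by an inverted element of prime order, and the involutions of `G_a` together with `1`
form a central elementary abelian subgroup of it.
-/

set_option autoImplicit false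
set_option linter.style.haveILetI false

namespace CfsgLib.LocalEven.StrongCore

open Subgroup MulAction CfsgLib.Involution.Dihedral CfsgLib.Involution
  CfsgLib.LocalEven.BenderTransitive CfsgLib.LocalEven.SwapInjective

universe u

variable {G : Type u} [Group G] [Finite G]

/-- A Sylow subgroup meets a normalised subgroup in a Sylow subgroup. -/
theorem card_inf_sylow_of_le {q : ℕ} [Fact q.Prime] {L₀ N P : Subgroup G} (hN : N ≤ L₀)
    (hP : P ≤ L₀) (hnorm : L₀ ≤ normalizer (N : Set G))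
    (hPc : Nat.card P = q ^ (Nat.card L₀).factorization q) :
    Nat.card ↥(N ⊓ P) = q ^ (Nat.card N).factorization q := by
  obtain ⟨S, hS⟩ := Coprime.exists_sylow_map_eq hP hPc
  haveI : (N.subgroupOf L₀).Normal := (normal_subgroupOf_iff_le_normalizer hN).2 hnorm
  have h1 := Coprime.card_sylow_inf_normal S (N.subgroupOf L₀)
  have e : ((S : Subgroup L₀) ⊓ N.subgroupOf L₀).map L₀.subtype = P ⊓ N := by
    rw [map_inf _ _ _ L₀.subtype_injective, hS, Subgroup.map_subgroupOf_eq_of_le hN]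
  rw [inf_comm, ← e, Coprime.card_map_subtype, h1, Nat.card_congr (subgroupOfEquivOfLe hN).toEquiv]

/-- Elements of coprime order in a nilpotent subgroup commute. -/
theorem commute_of_isNilpotent {M : Subgroup G} (hM : Group.IsNilpotent M) {x y : G} (hx : x ∈ M)
    (hy : y ∈ M) (h : (orderOf x).Coprime (orderOf y)) : Commute x y := by
  haveI := hM
  exact congrArg Subtype.val ((OddOrder.Basic.commute_of_coprime_orderOf (G := M) (a := ⟨x, hx⟩) (b := ⟨y, hy⟩)
    (by rwa [Subgroup.orderOf_mk, Subgroup.orderOf_mk])).eq)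

/-- A nilpotent subgroup generated by `2`-elements is a `2`-group. -/
theorem isPGroup_of_twoGen {N : Subgroup G} (hN : twoGen N = N) (hnil : Group.IsNilpotent N) :
    IsPGroup 2 N := by
  haveI := hnil
  haveI := Fact.mk Nat.prime_two
  let S : Sylow 2 N := default
  haveI hSn : (S : Subgroup N).Normal :=
    Sylow.normal_of_normalizerCondition Group.normalizerCondition_of_isNilpotent S
  have hle : N ≤ (S : Subgroup N).map N.subtype := by
    conv_lhs => rw [← hN]
    refine twoGen_le_iff.2 fun g hg k hk => ⟨⟨g, hg⟩, ?_, rfl⟩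
    have h1 : IsPGroup 2 (zpowers (⟨g, hg⟩ : N)) := by
      obtain ⟨j, -, hj⟩ := (Nat.dvd_prime_pow Nat.prime_two).1 (orderOf_dvd_of_pow_eq_one hk)
      exact IsPGroup.of_card (n := j) (by rw [Nat.card_zpowers, Subgroup.orderOf_mk, hj])
    obtain ⟨T, hT⟩ := IsPGroup.exists_le_sylow h1
    letI := Sylow.unique_of_normal S hSn
    exact Subsingleton.elim T S ▸ hT (mem_zpowers _)
  exact (S.isPGroup'.map N.subtype).to_le hle

namespace Setting

variable {H : Subgroup G} {a b : G ⧸ H} {u : G} {p : ℕ} {R : Subgroup G} (s : Setting a b u p R)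

/-- The subgroup generated by the `2`-elements of `G_a` centralising `R`. -/
def S0 (_s : Setting a b u p R) : Subgroup G :=
  twoGen (stabilizer G a ⊓ centralizer (R : Set G))

include s

theorem S0_le : s.S0 ≤ stabilizer G a := (twoGen_le _).trans inf_le_left

theorem S0_le_centralizer : s.S0 ≤ centralizer (R : Set G) := (twoGen_le _).trans inf_le_right

theorem normalizer_S0 : stabilizer G a ≤ normalizer (s.S0 : Set G) := fun g hg =>
  normalizer_twoGen _ (mem_normalizer_inf' (le_normalizer hg)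
    (mem_normalizer_centralizer (s.normal hg)))

theorem stabilizer_normalizer_le {P : Subgroup G} (hP : P ≤ stab2 a b)
    (hfix : ∀ c : G ⧸ H, P ≤ stabilizer G c → c = a ∨ c = b) :
    stabilizer G a ⊓ normalizer (P : Set G) ≤ stab2 a b := by
  intro x hx
  obtain ⟨hxa, hxP⟩ := Subgroup.mem_inf.1 hx
  have hxa' : x • a = a := mem_stabilizer_iff.1 hxa
  rcases hfix (x • b) (smul_of_normalizes hxP (hP.trans inf_le_right)) with h | h
  · exact absurd (smul_left_cancel x (h.trans hxa'.symm)).symm s.hab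
  · exact mem_stab2.2 ⟨hxa', h⟩

theorem S0_inf_D : s.S0 ⊓ stab2 a b = ⊥ := by
  classical
  set Q := s.S0 ⊓ stab2 a b with hQ
  by_contra hne
  have hc : Nat.card Q ≠ 1 := fun e => hne (Subgroup.eq_bot_of_card_eq Q e)
  set q := (Nat.card Q).minFac with hq
  haveI := Fact.mk (Nat.minFac_prime hc)
  obtain ⟨d, hd⟩ := exists_prime_orderOf_dvd_card' (G := Q) q (Nat.minFac_dvd _)
  have hQR : ∀ g ∈ Q, ∀ v ∈ R, Commute g v := fun g hg v hv =>
    (mem_centralizer_iff.1 (s.S0_le_centralizer hg.1) v hv).symm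
  have hqd : q ∣ mult H :=
    s.dvd_mult_of_centralizes d.2.2 (hQR _ d.2) (by rw [orderOf_coe]; exact hd)
  obtain ⟨P, hP, hPc, hPp, -⟩ := exists_inv_sylow (p := q) s.inv s.odd_D s.swap_D
  have hPa : P ≤ stabilizer G a := hP.trans inf_le_left
  have hPc' := card_sylow_stabilizer s.min hqd s.hab hP hPc
  set U := s.S0 ⊓ P with hU
  have hUc : Nat.card U = q ^ (Nat.card s.S0).factorization q :=
    card_inf_sylow_of_le s.S0_le hPa s.normalizer_S0 hPc'
  have hUQ : U ≤ Q := le_inf inf_le_left (inf_le_right.trans hP)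
  have hUp : IsPGroup q U := hPp.to_le inf_le_right
  obtain ⟨S, hS⟩ := (hUp.of_equiv (subgroupOfEquivOfLe hUQ).symm).exists_le_sylow
  haveI := s.isCyclic_of_centralizes (Q := Q) inf_le_right hQR S
  haveI : IsCyclic U := by
    refine isCyclic_of_injective (f := ((Subgroup.inclusion hS).comp
      (subgroupOfEquivOfLe hUQ).symm.toMonoidHom)) ?_
    exact (Subgroup.inclusion_injective hS).comp (subgroupOfEquivOfLe hUQ).symm.injective
  have hbot : U = ⊥ := by
    refine eq_bot_of_twoGen (dvd_mult_ne_two s.min hqd) (twoGen_twoGen _) inf_le_left hUc ?_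
    rintro g ⟨hg, hgU⟩
    obtain ⟨n, hnN, hnD, hnU, π, hπ, hact⟩ := automizer_factor (q := q) s.S0_le hPa hP hPc'
      (s.stabilizer_normalizer_le hP fun c hc => fixed_pair' s.min hqd s.hab hP hPc hc)
      (hPa.trans s.normalizer_S0) (U := U)
      (fun x hx => mem_normalizer_inf' (s.normalizer_S0 (hPa hx)) (le_normalizer hx)) hg hgU
    obtain ⟨i, hi⟩ := exists_pow_mem_centralizer hUp hnU fun ℓ hℓ hdvd =>
      Nat.minFac_le_of_dvd hℓ.two_le
        (hdvd.trans (Subgroup.orderOf_dvd_natCard Q (Subgroup.mem_inf.2 ⟨hnN, hnD⟩)))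
    obtain ⟨j, hj⟩ := hPp ⟨π, hπ⟩
    have hj' : π ^ q ^ j ∈ centralizer (U : Set G) := by
      rw [show π ^ q ^ j = 1 from congrArg Subtype.val hj]; exact one_mem _
    obtain ⟨k, hk⟩ := exists_pow_of_factor hgU hnU
      (mem_normalizer_inf' (s.normalizer_S0 (hPa hπ)) (le_normalizer hπ)) hact hi hj'
    exact mem_centralizer_of_pow inf_le_left hUc hg hgU hk
  rw [hbot, Subgroup.card_bot] at hUc
  have h1 : q ∣ Nat.card s.S0 :=
    (Nat.minFac_dvd _).trans (Subgroup.card_dvd_of_le inf_le_left)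
  have h2 := (Fact.out : q.Prime).factorization_pos_of_dvd Nat.card_pos.ne' h1
  exact (Nat.one_lt_pow h2.ne' (Fact.out : q.Prime).one_lt).ne hUc

/-- `S0` is semiregular away from `a`. -/
theorem eq_one_of_S0_fixes {g : G} (hg : g ∈ s.S0) {c : G ⧸ H} (hc : c ≠ a) (hgc : g • c = c) :
    g = 1 := by
  obtain ⟨k, hk, hkb⟩ := pairTransitive s.min.se s.min.comm a b c s.hab.symm hc
  have h1 : k⁻¹ * g * k ∈ s.S0 ⊓ stab2 a b := Subgroup.mem_inf.2
    ⟨BenderTransitive.conj_inv_mem_of_mem_normalizer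
      (s.normalizer_S0 (mem_stabilizer_iff.2 hk)) hg, mem_stab2.2 ⟨?_, ?_⟩⟩
  · rw [s.S0_inf_D, mem_bot] at h1
    calc g = k * (k⁻¹ * g * k) * k⁻¹ := by group
      _ = 1 := by rw [h1]; group
  · rw [mul_smul, mul_smul, hk, mem_stabilizer_iff.1 (s.S0_le hg), inv_smul_eq_iff, hk]
  · rw [mul_smul, mul_smul, hkb, hgc, inv_smul_eq_iff, hkb]

/-- An inverted element of `D` centralises no nontrivial element of `S0`. -/
theorem eq_one_of_S0_commute {k : G} (hk : k ∈ stab2 a b) (hinv : u * k * u⁻¹ = k⁻¹) (hk1 : k ≠ 1)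
    {g : G} (hg : g ∈ s.S0) (hgk : Commute g k) : g = 1 := by
  by_contra hg1
  have ho : orderOf g ≠ 1 := fun e => hg1 (orderOf_eq_one_iff.1 e)
  haveI := Fact.mk (Nat.minFac_prime ho)
  set x := g ^ (orderOf g / (orderOf g).minFac) with hx
  have hxo : orderOf x = (orderOf g).minFac :=
    orderOf_pow_orderOf_div (orderOf_pos g).ne' (Nat.minFac_dvd _)
  have hxS : x ∈ s.S0 := pow_mem hg _
  obtain ⟨c, hc, hxc⟩ := exists_other_fixed s.min s.hab s.inv s.swap hk hinv hk1
    (IsPGroup.of_card (n := 1) (by rw [Nat.card_zpowers, hxo, pow_one]) :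
      IsPGroup (orderOf g).minFac (zpowers x))
    (hgk.pow_left _) (mem_stabilizer_iff.1 (s.S0_le hxS))
  have h1 := s.eq_one_of_S0_fixes hxS hc hxc
  rw [h1, orderOf_one] at hxo
  exact (Fact.out : (orderOf g).minFac.Prime).ne_one hxo.symm

/-- For every prime dividing `mult H` there is an inverted element of that order. -/
theorem exists_inverted_prime {q : ℕ} [Fact q.Prime] (hq : q ∣ mult H) :
    ∃ k ∈ stab2 a b, orderOf k = q ∧ u * k * u⁻¹ = k⁻¹ := by
  obtain ⟨P, hP, hPc, -, huP⟩ := exists_inv_sylow (p := q) s.inv s.odd_D s.swap_D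
  obtain ⟨k, hk, hko, hkinv⟩ := exists_inverted s.min s.hab s.inv s.swap hq hP hPc huP
  exact ⟨k, hP hk, hko, hkinv⟩

theorem exists_inverted_ne :
    ∃ q : ℕ, q.Prime ∧ q ∣ mult H ∧ ∃ k ∈ stab2 a b, orderOf k = q ∧ u * k * u⁻¹ = k⁻¹ := by
  obtain ⟨q, hq, hqd⟩ := Nat.exists_prime_and_dvd (one_lt_mult s.min).ne'
  haveI := Fact.mk hq
  exact ⟨q, hq, hqd, s.exists_inverted_prime hqd⟩

/-- `S0` is a `2`-group. -/
theorem isPGroup_S0 : IsPGroup 2 s.S0 := by
  obtain ⟨q, hq, -, k, hk, hko, hkinv⟩ := s.exists_inverted_ne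
  have hk1 : k ≠ 1 := fun e => hq.ne_one (by rw [← hko, e, orderOf_one])
  refine isPGroup_of_twoGen (twoGen_twoGen _) (OddOrder.FPFTools.isNilpotent_of_fpf hq
    (hko ▸ pow_orderOf_eq_one k) (s.normalizer_S0 hk.1) ((Subgroup.eq_bot_iff_forall _).2 ?_))
  rintro g ⟨hg, hgk⟩
  exact s.eq_one_of_S0_commute hk hkinv hk1 hg (mem_centralizer_singleton_iff.1 hgk)

theorem coprime_two_R : Nat.Coprime (Nat.card R) 2 := by
  haveI := Fact.mk s.prime
  exact Nat.coprime_two_right.2 (odd_of_pgroup s.ne_two s.group)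

/-- The `2`-subgroups of `G_a` normalised by an inverted element lie in `S0`. -/
theorem le_S0 {k : G} {q : ℕ} (hq : q.Prime) (hko : orderOf k = q) (hk : k ∈ stab2 a b)
    (hinv : u * k * u⁻¹ = k⁻¹) {T : Subgroup G} (hT : IsPGroup 2 T) (hTa : T ≤ stabilizer G a)
    (hkT : k ∈ normalizer (T : Set G)) : T ≤ s.S0 := by
  haveI := Fact.mk Nat.prime_two
  have hk1 : k ≠ 1 := fun e => hq.ne_one (by rw [← hko, e, orderOf_one])
  have hTn : T ≤ normalizer (R : Set G) := hTa.trans s.normal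
  have hdisj : R ⊓ T = ⊥ := by
    obtain ⟨n, hn⟩ := hT.exists_card_eq
    exact inf_eq_bot_of_coprime (by rw [hn]; exact s.coprime_two_R.pow_right n)
  have hkn : k ∈ normalizer ((R ⊔ T : Subgroup G) : Set G) := by
    rw [mem_normalizer_iff_map_conj_eq, Subgroup.map_sup,
      mem_normalizer_iff_map_conj_eq.1 (s.normal hk.1), mem_normalizer_iff_map_conj_eq.1 hkT]
  have hfix : (R ⊔ T) ⊓ centralizer ({k} : Set G) = ⊥ := by
    refine (Subgroup.eq_bot_iff_forall _).2 fun g hg => ?_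
    obtain ⟨hgRT, hgk⟩ := Subgroup.mem_inf.1 hg
    have hgm : g ∈ (↑(T ⊔ R) : Set G) := by rw [SetLike.mem_coe, sup_comm]; exact hgRT
    rw [coe_mul_of_left_le_normalizer_right T R hTn] at hgm
    obtain ⟨t, ht, r, hr, rfl⟩ := hgm
    simp only [] at hgk hgRT ⊢
    have hc : k * (t * r) * k⁻¹ = t * r := by
      rw [show k * (t * r) = t * r * k from ((mem_centralizer_singleton_iff.1 hgk).symm),
        mul_inv_cancel_right]
    have ht' : k * t * k⁻¹ ∈ T := BenderTransitive.conj_mem_of_mem_normalizer hkT ht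
    have hr' : k * r * k⁻¹ ∈ R :=
      BenderTransitive.conj_mem_of_mem_normalizer (s.normal hk.1) hr
    have h1 : t⁻¹ * (k * t * k⁻¹) = r * (k * r * k⁻¹)⁻¹ := by
      calc t⁻¹ * (k * t * k⁻¹) = t⁻¹ * (k * (t * r) * k⁻¹) * (k * r * k⁻¹)⁻¹ := by group
        _ = _ := by rw [hc, inv_mul_cancel_left]
    have h2 : t⁻¹ * (k * t * k⁻¹) ∈ R ⊓ T :=
      Subgroup.mem_inf.2 ⟨h1 ▸ mul_mem hr (inv_mem hr'), mul_mem (inv_mem ht) ht'⟩
    rw [hdisj, mem_bot] at h2
    have htk : Commute t k := (mul_inv_eq_iff_eq_mul.1 (inv_mul_eq_one.1 h2).symm).symm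
    have ht1 : t = 1 := by
      by_contra hne
      refine Nat.not_even_iff_odd.2 (odd_centralizer s.min s.hab s.inv s.swap hk hinv hk1) ?_
      obtain ⟨j, hj⟩ := IsPGroup.iff_orderOf.1 hT ⟨t, ht⟩
      rw [Subgroup.orderOf_mk] at hj
      rcases j with _ | j
      · exact absurd (orderOf_eq_one_iff.1 (by rw [hj, pow_zero])) hne
      refine even_iff_two_dvd.2 ((dvd_trans ?_ (dvd_of_eq hj.symm)).trans
        (Subgroup.orderOf_dvd_natCard _ (mem_centralizer_singleton_iff.2 htk.eq)))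
      exact dvd_pow_self 2 j.succ_ne_zero
    subst ht1
    rw [one_mul] at hgk ⊢
    exact s.toConfig.eq_one_of_commute s.hab s.inv s.swap hk hinv hk1 hr
      (mem_centralizer_singleton_iff.1 hgk)
  have hnil := OddOrder.FPFTools.isNilpotent_of_fpf hq (hko ▸ pow_orderOf_eq_one k) hkn hfix
  intro t ht
  obtain ⟨j, hj⟩ := IsPGroup.iff_orderOf.1 hT ⟨t, ht⟩
  rw [Subgroup.orderOf_mk] at hj
  refine mem_twoGen (k := j) (Subgroup.mem_inf.2 ⟨hTa ht, mem_centralizer_iff.2 fun v hv => ?_⟩)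
    (hj ▸ pow_orderOf_eq_one t)
  refine (commute_of_isNilpotent hnil (mem_sup_left hv) (mem_sup_right ht) ?_).eq
  rw [hj]
  exact (s.coprime_two_R.coprime_dvd_left (Subgroup.orderOf_dvd_natCard R hv)).pow_right j

theorem mem_S0_of_involution {t : G} (ht : orderOf t = 2) (hta : t • a = a) : t ∈ s.S0 :=
  mem_twoGen (k := 1) (Subgroup.mem_inf.2 ⟨mem_stabilizer_iff.2 hta,
    mem_centralizer_iff.2 fun _ hv => (s.toConfig.commute_involution ht hta hv).symm.eq⟩)
    (by rw [pow_one, ← ht, pow_orderOf_eq_one])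

/-- The involutions at `a` are central in `S0`. -/
theorem commute_S0 {t : G} (ht : orderOf t = 2) (hta : t • a = a) {g : G} (hg : g ∈ s.S0) :
    Commute t g := by
  haveI := Fact.mk Nat.prime_two
  haveI : Nontrivial s.S0 :=
    ⟨⟨⟨t, s.mem_S0_of_involution ht hta⟩, 1, fun e => ne_one ht (congrArg Subtype.val e)⟩⟩
  haveI := s.isPGroup_S0.center_nontrivial
  obtain ⟨n, hn⟩ := (s.isPGroup_S0.to_subgroup (center s.S0)).exists_card_eq
  have hn0 : n ≠ 0 := fun e => by
    have := Finite.one_lt_card (α := center s.S0)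
    rw [hn, e, pow_zero] at this
    exact lt_irrefl 1 this
  obtain ⟨z, hz⟩ := exists_prime_orderOf_dvd_card' (G := center s.S0) 2
    (hn ▸ dvd_pow_self 2 hn0)
  rw [← orderOf_coe, ← orderOf_coe] at hz
  obtain ⟨d, hd, hdt⟩ := exists_conj_fixing s.min.se s.hab hz
    (mem_stabilizer_iff.1 (s.S0_le (z : s.S0).2)) ht hta
  have hdN := s.normalizer_S0 (mem_stabilizer_iff.2 (mem_stab2.1 hd).1)
  have h1 : Commute ((z : s.S0) : G) (d⁻¹ * g * d) :=
    (congrArg Subtype.val (Subgroup.mem_center_iff.1 z.2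
      ⟨_, BenderTransitive.conj_inv_mem_of_mem_normalizer hdN hg⟩)).symm
  have h2 := h1.map (MulAut.conj d).toMonoidHom
  simp only [MulEquiv.coe_toMonoidHom, MulAut.conj_apply, hdt] at h2
  rwa [show d * (d⁻¹ * g * d) * d⁻¹ = g by group] at h2

/-- The involutions at `a` with `1`. -/
def E (s : Setting a b u p R) : Subgroup G where
  carrier := {x | x • a = a ∧ x * x = 1}
  one_mem' := ⟨one_smul _ _, one_mul _⟩
  mul_mem' := by
    rintro x y ⟨hxa, hx⟩ ⟨hya, hy⟩
    refine ⟨by rw [mul_smul, hya, hxa], ?_⟩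
    by_cases hy1 : y = 1
    · rw [hy1, mul_one, hx]
    by_cases hx1 : x = 1
    · rw [hx1, one_mul, hy]
    have hc := s.commute_S0 (orderOf_eq_two hx hx1) hxa
      (s.mem_S0_of_involution (orderOf_eq_two hy hy1) hya)
    rw [hc.symm.mul_mul_mul_comm, hx, hy, one_mul]
  inv_mem' := by
    rintro x ⟨hxa, hx⟩
    exact ⟨inv_smul_eq_iff.2 hxa.symm, by rw [← mul_inv_rev, hx, inv_one]⟩

theorem mem_E {x : G} : x ∈ s.E ↔ x • a = a ∧ x * x = 1 := Iff.rfl

theorem mem_E_of_involution {t : G} (ht : orderOf t = 2) (hta : t • a = a) : t ∈ s.E :=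
  ⟨hta, mul_self ht⟩

theorem orderOf_of_mem_E {x : G} (hx : x ∈ s.E) (hx1 : x ≠ 1) : orderOf x = 2 :=
  orderOf_eq_two hx.2 hx1

theorem E_le_S0 : s.E ≤ s.S0 := fun x hx => by
  by_cases hx1 : x = 1
  · exact hx1 ▸ one_mem _
  · exact s.mem_S0_of_involution (s.orderOf_of_mem_E hx hx1) hx.1

theorem commute_E {x g : G} (hx : x ∈ s.E) (hg : g ∈ s.S0) : Commute x g := by
  by_cases hx1 : x = 1
  · exact hx1 ▸ Commute.one_left g
  · exact s.commute_S0 (s.orderOf_of_mem_E hx hx1) hx.1 hg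

theorem normalizer_E : stabilizer G a ≤ normalizer (s.E : Set G) := fun g hg =>
  Coprime.mem_normalizer_of_conj_map_le fun x hx => by
    have hga : g • a = a := mem_stabilizer_iff.1 hg
    refine ⟨by rw [mul_smul, mul_smul, inv_smul_eq_iff.2 hga.symm, hx.1, hga], ?_⟩
    calc g * x * g⁻¹ * (g * x * g⁻¹) = g * (x * x) * g⁻¹ := by group
      _ = 1 := by rw [hx.2]; group

theorem card_E : Nat.card s.E = mult H + 1 := by
  classical
  rw [← card_involutions_fixing s.min.se a]
  have e : Nat.card s.E = Nat.card (Option {t : G // orderOf t = 2 ∧ t • a = a}) := by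
    refine Nat.card_congr
      { toFun := fun x => if h : (x : G) = 1 then none else
          some ⟨x, s.orderOf_of_mem_E x.2 h, x.2.1⟩
        invFun := fun o => o.elim 1 fun t => ⟨t.1, s.mem_E_of_involution t.2.1 t.2.2⟩
        left_inv := fun x => by
          by_cases h : (x : G) = 1
          · simp only [h, dite_true, Option.elim_none]
            exact Subtype.ext h.symm
          · simp [h]
        right_inv := fun o => by
          rcases o with _ | t
          · simp
          · simp [ne_one t.2.1] }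
  rw [e, Finite.card_option]

theorem exists_card_E : ∃ m : ℕ, 2 ≤ m ∧ Nat.card s.E = 2 ^ m := by
  haveI := Fact.mk Nat.prime_two
  obtain ⟨m, hm⟩ := (s.isPGroup_S0.to_le s.E_le_S0).exists_card_eq
  refine ⟨m, ?_, hm⟩
  have h1 := one_lt_mult s.min
  have h2 := s.card_E
  by_contra hlt
  interval_cases m <;> omega

end Setting

end CfsgLib.LocalEven.StrongCore
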