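import Cfsg.Agent.Lib.LocalEven.StrongCore.Semilinear

/-!
# Field automorphisms inside transitive groups of odd order

A stabiliser in a group of odd order transitive on the nonzero vectors of a space of order `2^n`
has order at most `n`; if the Fitting subgroup is transitive, every element acts on it as a power
of squaring.
-/

set_option autoImplicit false
set_option linter.style.haveILetI false

namespace CfsgLib.LocalEven.StrongCore

open Subgroup CfsgLib.LocalEvenB.OddTransitive

universe u v

/-- The automorphisms of a field of order `2^n` are powers of squaring. -/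
theorem exists_frobenius_pow {L : Type v} [Field L] [Finite L] {n : ℕ} (hL : Nat.card L = 2 ^ n)
    (φ : L ≃+* L) : ∃ i < n, ∀ x, φ x = x ^ 2 ^ i := by
  classical
  haveI := Fintype.ofFinite L
  haveI := Fact.mk Nat.prime_two
  have hn : n ≠ 0 := fun h => by
    have := Finite.one_lt_card (α := L)
    rw [hL, h, pow_zero] at this
    exact lt_irrefl 1 this
  haveI : CharP L 2 := by
    obtain ⟨c, hc⟩ := CharP.exists L
    haveI := hc
    obtain ⟨k, hc', hk⟩ := FiniteField.card L c
    rw [← Nat.card_eq_fintype_card, hL] at hk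
    have h2 : c ∣ 2 ^ n := hk ▸ dvd_pow_self c k.pos.ne'
    rwa [(Nat.prime_dvd_prime_iff_eq hc' Nat.prime_two).1 (hc'.dvd_of_dvd_pow h2)] at hc
  letI : Algebra (ZMod 2) L := ZMod.algebra L 2
  let φ' : L ≃ₐ[ZMod 2] L := AlgEquiv.ofRingEquiv (f := φ) (fun c => by
    rw [← ZMod.natCast_zmod_val c, map_natCast, map_natCast])
  obtain ⟨i, hi⟩ := (FiniteField.bijective_frobeniusAlgEquivOfAlgebraic_pow (ZMod 2) L).2 φ'
  have hfin : Module.finrank (ZMod 2) L = n := by
    have h := Module.natCard_eq_pow_finrank (K := ZMod 2) (V := L)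
    rw [hL, Nat.card_zmod] at h
    exact (Nat.pow_right_injective le_rfl h).symm
  refine ⟨i, hfin ▸ i.2, fun x => ?_⟩
  have h := DFunLike.congr_fun hi x
  simp only [AlgEquiv.coe_pow] at h
  rw [FiniteField.coe_frobeniusAlgEquivOfAlgebraic_iterate, ZMod.card] at h
  exact h.symm

section Additive

variable {D : Type u} {E : Type v} [Group D] [Finite D] [AddCommGroup E] [Finite E]
  [DistribMulAction D E] [FaithfulSMul D E]

/-- A point stabiliser has order at most the dimension. -/
theorem card_stabilizer_le (hodd : Odd (Nat.card D)) (hsolv : Group.IsSolvable D)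
    (hE : ∀ e : E, 2 • e = 0) (htrans : PMTransitive D E) {n : ℕ} (hn : Nat.card E = 2 ^ n)
    {a : E} (ha : a ≠ 0) : Nat.card (MulAction.stabilizer D a) ≤ n := by
  classical
  obtain ⟨-, R, hR, ψ, hψa, hsemi⟩ := exists_semilinear hodd hsolv Nat.prime_two hE htrans ha
  letI := hR.toField
  haveI : Finite R := Finite.of_equiv E ψ.toEquiv
  have hcard : Nat.card R = 2 ^ n := (Nat.card_congr ψ.toEquiv).symm.trans hn
  choose u σ hσ using hsemi
  choose i hin hi using fun d => exists_frobenius_pow hcard (σ d)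
  have hlin : ∀ d : MulAction.stabilizer D a, ∀ x, ψ ((d : D) • x) = ψ x ^ 2 ^ i d := fun d x => by
    have h1 : ((u (d : D) : R)) = 1 := by
      have h2 := hσ (d : D) a
      rw [MulAction.mem_stabilizer_iff.1 d.2, hψa, map_one, mul_one] at h2
      exact h2.symm
    rw [hσ, h1, one_mul, hi]
  let f : MulAction.stabilizer D a → Fin n := fun d => ⟨i d, hin d⟩
  have hf : Function.Injective f := fun d e h => by
    refine Subtype.ext (eq_of_smul_eq_smul (α := E) fun x => ψ.injective ?_)
    rw [hlin, hlin, show i d = i e from congrArg Fin.val h]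
  simpa using Nat.card_le_card_of_injective f hf

/-- When the Fitting subgroup is transitive, every element acts on it as a power of squaring. -/
theorem exists_conj_eq_pow (hodd : Odd (Nat.card D)) (hsolv : Group.IsSolvable D)
    (hE : ∀ e : E, 2 • e = 0) (htrans : PMTransitive D E) {n : ℕ} (hn : Nat.card E = 2 ^ n)
    {a : E} (ha : a ≠ 0)
    (hreg : ∀ x : E, x ≠ 0 → ∃ f ∈ Cfsg.fittingSubgroup D, f • a = x) (d : D) :
    ∃ i < n, ∀ f ∈ Cfsg.fittingSubgroup D, d * f * d⁻¹ = f ^ 2 ^ i := by
  classical
  obtain ⟨hcyc, -, -⟩ := main hodd hsolv Nat.prime_two hE htrans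
  haveI : Finite (AddMonoid.End E) := Finite.of_injective _ DFunLike.coe_injective
  set R := ring D E
  letI : CommRing R :=
    { (inferInstance : Ring R) with
      mul_comm := fun x y =>
        (Subring.isMulCommutative_closure (ring_comm (E := E) hcyc)).is_comm.comm x y }
  let ev : R → E := fun r => r.1 a
  have hinj : Function.Injective ev := fun r r' h => Subtype.ext (AddMonoidHom.ext fun x => by
    by_cases hx : x = 0
    · subst hx
      exact (map_zero _).trans (map_zero _).symm
    obtain ⟨f, hf, rfl⟩ := hreg x hx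
    have hc : ∀ r : R, r.1 (f • a) = f • r.1 a := fun r =>
      DFunLike.congr_fun (congrArg Subtype.val (mul_comm r ⟨act D E f, act_mem_ring hf⟩)) a
    exact (hc r).trans ((congrArg (f • ·) (show r.1 a = r'.1 a from h)).trans (hc r').symm))
  have hsurj : Function.Surjective ev := fun x => by
    by_cases hx : x = 0
    · exact ⟨0, hx.symm⟩
    obtain ⟨f, hf, rfl⟩ := hreg x hx
    exact ⟨⟨act D E f, act_mem_ring hf⟩, rfl⟩
  have hF : IsField R := by
    refine ⟨⟨0, 1, fun h => ha (congrArg ev h).symm⟩, mul_comm, fun {r} hr => ?_⟩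
    obtain ⟨f, hf, hfa⟩ := hreg (ev r) fun h => hr (hinj h)
    refine ⟨⟨act D E f⁻¹, act_mem_ring (inv_mem hf)⟩, ?_⟩
    rw [show r = ⟨act D E f, act_mem_ring hf⟩ from hinj hfa.symm]
    refine Subtype.ext ?_
    change act D E f * act D E f⁻¹ = 1
    rw [← map_mul, mul_inv_cancel, map_one]
  letI := hF.toField
  haveI : Finite R := Finite.of_equiv E (Equiv.ofBijective ev ⟨hinj, hsurj⟩).symm
  have hcard : Nat.card R = 2 ^ n := (Nat.card_eq_of_bijective ev ⟨hinj, hsurj⟩).trans hn
  let σ : R ≃+* R :=
    { toFun := fun r => ⟨conjEnd d r, conjEnd_mem d r.2⟩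
      invFun := fun r => ⟨conjEnd d⁻¹ r, conjEnd_mem d⁻¹ r.2⟩
      left_inv := fun r => Subtype.ext (AddMonoidHom.ext fun x => by
        change d⁻¹ • d • r.1 (d⁻¹ • d⁻¹⁻¹ • x) = r.1 x
        simp)
      right_inv := fun r => Subtype.ext (AddMonoidHom.ext fun x => by
        change d • d⁻¹ • r.1 (d⁻¹⁻¹ • d⁻¹ • x) = r.1 x
        simp)
      map_mul' := fun r s => Subtype.ext (map_mul (conjEnd d) r.1 s.1)
      map_add' := fun r s => Subtype.ext (map_add (conjEnd d) r.1 s.1) }
  obtain ⟨i, hin, hi⟩ := exists_frobenius_pow hcard σ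
  refine ⟨i, hin, fun f hf => act_injective (E := E) ?_⟩
  have h : (σ ⟨act D E f, act_mem_ring hf⟩ : AddMonoid.End E) =
      ((⟨act D E f, act_mem_ring hf⟩ : R) ^ 2 ^ i : R) := congrArg Subtype.val (hi _)
  rw [SubmonoidClass.coe_pow] at h
  rw [map_mul, map_mul, map_pow]
  exact h

end Additive

namespace OddTrans

variable {M : Type v} [Group M] [Finite M] {A : Subgroup (MulAut M)} (hA : OddTrans A)

include hA

/-- The two field-theoretic facts for groups of automorphisms. -/
theorem field_facts {n : ℕ} (hn : Nat.card M = 2 ^ n) :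
    (∀ (x : M) (B : Subgroup A), x ≠ 1 → (∀ f ∈ B, (f : MulAut M) x = x) → Nat.card B ≤ n) ∧
      ∀ x : M, x ≠ 1 →
        (∀ y : M, y ≠ 1 → ∃ f ∈ Cfsg.fittingSubgroup A, (f : MulAut M) x = y) →
        ∀ d : A, ∃ i < n, ∀ f ∈ Cfsg.fittingSubgroup A, d * f * d⁻¹ = f ^ 2 ^ i := by
  letI : CommGroup M :=
    { (inferInstance : Group M) with
      mul_comm := fun x y => by
        have hinv : ∀ z : M, z⁻¹ = z := fun z => inv_eq_of_mul_eq_one_right (hA.sq z)
        calc x * y = (x * y)⁻¹ := (hinv _).symm
          _ = y * x := by rw [mul_inv_rev, hinv, hinv] }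
  haveI : Finite (Additive M) := inferInstanceAs (Finite M)
  letI : DistribMulAction A (Additive M) :=
    { smul := fun f x => Additive.ofMul ((f : MulAut M) x.toMul)
      one_smul := fun _ => rfl
      mul_smul := fun _ _ _ => rfl
      smul_zero := fun f => congrArg Additive.ofMul (map_one (f : MulAut M))
      smul_add := fun f x y => congrArg Additive.ofMul (map_mul (f : MulAut M) x.toMul y.toMul) }
  haveI : FaithfulSMul A (Additive M) :=
    ⟨fun h => Subtype.ext (MulEquiv.ext fun x => congrArg Additive.toMul (h (Additive.ofMul x)))⟩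
  have hE : ∀ e : Additive M, 2 • e = 0 := fun e => by
    rw [two_nsmul]; exact congrArg Additive.ofMul (hA.sq e.toMul)
  have hsolv : Group.IsSolvable A := CfsgLib.OddOrder.Final.oddSolvable A hA.odd
  have htr : PMTransitive A (Additive M) := PMTransitive.of_transitive fun x y hx hy => by
    obtain ⟨f, hf, e⟩ := hA.trans x.toMul y.toMul
      (fun h => hx (congrArg Additive.ofMul h)) (fun h => hy (congrArg Additive.ofMul h))
    exact ⟨⟨f, hf⟩, congrArg Additive.ofMul e⟩
  have hn' : Nat.card (Additive M) = 2 ^ n := hn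
  have hne : ∀ {x : M}, x ≠ 1 → Additive.ofMul x ≠ 0 := fun hx h => hx (congrArg Additive.toMul h)
  refine ⟨fun x B hx hB => ?_, fun x hx hreg d => ?_⟩
  · refine (Subgroup.card_le_of_le ?_).trans
      (card_stabilizer_le hA.odd hsolv hE htr hn' (hne hx))
    exact fun f hf => MulAction.mem_stabilizer_iff.2 (congrArg Additive.ofMul (hB f hf))
  · exact exists_conj_eq_pow hA.odd hsolv hE htr hn' (hne hx) (fun y hy => by
      obtain ⟨f, hf, e⟩ := hreg y.toMul fun h => hy (congrArg Additive.ofMul h)
      exact ⟨f, hf, congrArg Additive.ofMul e⟩) d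

end OddTrans

end CfsgLib.LocalEven.StrongCore
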