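import Cfsg.Agent.Lib.LocalEven.SwapInjective.Main
import Cfsg.Agent.Lib.Involution.ZStar.Main
import Cfsg.Agent.Lib.Involution.ZStar.Corollaries

/-!
# The odd core of a strongly embedded subgroup: the configuration

A counterexample of least order to `O(H) ≤ O(G)` for a strongly embedded subgroup `H` has trivial
normal core in `H`; proper subgroups with a four-group at a point and an element moving that
point satisfy the theorem.
-/

set_option autoImplicit false
set_option linter.style.haveILetI false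

namespace CfsgLib.LocalEven.StrongCore

open Subgroup MulAction CfsgLib.Involution.Dihedral CfsgLib.Involution
  CfsgLib.LocalEven.BenderTransitive CfsgLib.LocalEven.SwapInjective

universe u

/-- The containment of odd cores for all groups of smaller order. -/
def CoreBelow (n : ℕ) : Prop :=
  ∀ (G : Type u) [Group G] [Finite G] (H : Subgroup G), Nat.card G < n →
    Cfsg.IsStronglyEmbedded H → (Cfsg.oddCore H).map H.subtype ≤ Cfsg.oddCore G

variable {G : Type u} [Group G] {H : Subgroup G}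

/-- An element inverted by an involution fixing `a` and fixing `a` and another coset is trivial. -/
def Rigid (H : Subgroup G) : Prop :=
  ∀ (t g : G) (a b : G ⧸ H), orderOf t = 2 → t • a = a → t * g * t⁻¹ = g⁻¹ → g • a = a →
    g • b = b → b ≠ a → g = 1

variable [Finite G]

theorem rigid_of_core (hH : Cfsg.IsStronglyEmbedded H)
    (hcomm : ∃ x y : G, orderOf x = 2 ∧ orderOf y = 2 ∧ x ≠ y ∧ Commute x y)
    (hcore : H.normalCore = ⊥) : Rigid H := by
  intro t g a b ht hta hinv hga hgb hba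
  have htt : t * g * t = g⁻¹ := by rwa [inv_eq ht] at hinv
  have h2 : orderOf (t * g) = 2 := by
    refine orderOf_eq_two ?_ fun h => hba ?_
    · rw [← mul_assoc, htt, inv_mul_cancel]
    · have e : g = t := by rw [← inv_eq ht]; exact eq_inv_of_mul_eq_one_right h
      exact SE.fixed_unique hH ht (e ▸ hgb) hta
  have h := swapInj hH hcomm t (t * g) ht h2 a b hta (by rw [mul_smul, hga, hta]) hba
    (by rw [mul_smul, hgb])
  rw [hcore, mem_bot, htt, inv_eq_one] at h
  exact h

omit [Finite G] in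
/-- An involution fixing `a` centralises what it normalises inside `G_{a,b}`. -/
theorem Rigid.commute (hR : Rigid H) {t : G} {a b : G ⧸ H} (hba : b ≠ a) (ht : orderOf t = 2)
    (hta : t • a = a) {P : Subgroup G} (hP : P ≤ stab2 a b) (htP : t ∈ normalizer (P : Set G))
    {g : G} (hg : g ∈ P) : Commute g t := by
  have hx : g⁻¹ * (t * g * t⁻¹) ∈ P :=
    mul_mem (inv_mem hg) (BenderTransitive.conj_mem_of_mem_normalizer htP hg)
  have h := hR t (g⁻¹ * (t * g * t⁻¹)) a b ht hta ?_ (mem_stab2.1 (hP hx)).1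
    (mem_stab2.1 (hP hx)).2 hba
  · have h1 : t * g * t⁻¹ = g := (inv_mul_eq_one.1 h).symm
    exact (mul_inv_eq_iff_eq_mul.1 h1).symm
  · rw [inv_eq ht]
    simp only [mul_inv_rev, inv_eq ht, inv_inv]
    calc t * (g⁻¹ * (t * g * t)) * t = t * g⁻¹ * t * g * (t * t) := by group
      _ = t * (g⁻¹ * (t * g)) := by rw [mul_self ht]; group
      _ = _ := by simp [mul_assoc]

/-- A counterexample of least order, reduced modulo the core. -/
structure Min (H : Subgroup G) : Prop where
  se : Cfsg.IsStronglyEmbedded H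
  comm : ∃ x y : G, orderOf x = 2 ∧ orderOf y = 2 ∧ x ≠ y ∧ Commute x y
  core : H.normalCore = ⊥
  below : CoreBelow.{u} (Nat.card G)

omit [Finite G] in
theorem commute_mul {v w : G} (hv : orderOf v = 2) (hw : orderOf w = 2) (hne : v ≠ w)
    (h : Commute v w) : orderOf (v * w) = 2 := by
  refine orderOf_eq_two ?_ fun e => hne ((mul_eq_one_iff_eq_inv.1 e).trans (inv_eq hw))
  rw [h.symm.mul_mul_mul_comm, mul_self hv, mul_self hw, one_mul]

theorem exists_four (hH : Cfsg.IsStronglyEmbedded H)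
    (hcomm : ∃ x y : G, orderOf x = 2 ∧ orderOf y = 2 ∧ x ≠ y ∧ Commute x y) (a : G ⧸ H) :
    ∃ v w : G, orderOf v = 2 ∧ v • a = a ∧ orderOf w = 2 ∧ w • a = a ∧ Commute v w ∧ v ≠ w := by
  obtain ⟨v, hv, hva⟩ := SE.exists_involution_fixing hH a
  obtain ⟨w, hw, hwv, hc⟩ := BenderTransitive.exists_commuting hH hcomm hv
  exact ⟨v, w, hv, hva, hw, SE.commute_fixes hH hv hva hc, hc.symm, hwv.symm⟩

omit [Finite G] in
theorem odd_of_pgroup [Finite G] {p : ℕ} [hp : Fact p.Prime] (hp2 : p ≠ 2) {P : Subgroup G}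
    (hP : IsPGroup p P) : Odd (Nat.card P) := by
  obtain ⟨n, hn⟩ := hP.exists_card_eq
  rw [hn]
  exact (hp.out.odd_of_ne_two hp2).pow

theorem Min.rigid (h : Min H) : Rigid H := rigid_of_core h.se h.comm h.core

namespace Min

variable (h : Min H)

include h

/-- A subgroup normalised by the stabiliser of a coset and fixing a second coset is trivial. -/
theorem eq_bot_of_fixes {N : Subgroup G} {a b : G ⧸ H} (hba : b ≠ a)
    (hN : stabilizer G a ≤ normalizer (N : Set G)) (ha : N ≤ stabilizer G a)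
    (hb : N ≤ stabilizer G b) : N = ⊥ := by
  refine (Subgroup.eq_bot_iff_forall _).2 fun n hn => smul_eq_of_normalCore_bot h.core fun c => ?_
  by_cases hca : c = a
  · exact hca ▸ ha hn
  obtain ⟨k, hk, rfl⟩ := pairTransitive h.se h.comm a b c hba hca
  exact smul_of_normalizes (hN (mem_stabilizer_iff.2 hk)) hb hn

/-- A nontrivial odd normal subgroup does not exist. -/
theorem eq_bot_of_normal {N : Subgroup G} [hn : N.Normal] (hN : Odd (Nat.card N)) : N = ⊥ := by
  refine (Subgroup.eq_bot_iff_forall _).2 fun n hnN => smul_eq_of_normalCore_bot h.core fun c => ?_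
  obtain ⟨v, w, hv, hva, hw, -, hc, hne⟩ := exists_four h.se h.comm c
  exact le_stabilizer_of_four h.se hN hv hva hw hc hne (normalizer_eq_top (H := N) ▸ mem_top _)
    (normalizer_eq_top (H := N) ▸ mem_top _) hnN

omit h in
theorem normalizer_oddCore_map (X : Subgroup G) :
    X ≤ normalizer (((Cfsg.oddCore X).map X.subtype : Subgroup G) : Set G) := fun g hg => by
  haveI : (Cfsg.oddCore X).Characteristic := inferInstanceAs (Cfsg.pPrimeCore 2 X).Characteristic
  exact Coprime.FixedPointFreeOnModule.mem_normalizer_map_of_char _ (le_normalizer hg)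

omit h in
theorem odd_oddCore_map (X : Subgroup G) :
    Odd (Nat.card ↥((Cfsg.oddCore X).map X.subtype)) := by
  rw [Coprime.card_map_subtype]; exact ZStar.odd_card_oddCore

/-- The odd core of a subgroup with a four-group at `a` fixes `a`. -/
theorem oddCore_le_stabilizer {X : Subgroup G} {a : G ⧸ H} {v w : G} (hv : orderOf v = 2)
    (hva : v • a = a) (hw : orderOf w = 2) (hvw : Commute v w) (hne : v ≠ w) (hvX : v ∈ X)
    (hwX : w ∈ X) : (Cfsg.oddCore X).map X.subtype ≤ stabilizer G a :=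
  le_stabilizer_of_four h.se (odd_oddCore_map X) hv hva hw hvw hne (normalizer_oddCore_map X hvX)
    (normalizer_oddCore_map X hwX)

/-- Odd normal subgroups of a point stabiliser in a proper subgroup lie in its odd core. -/
theorem le_oddCore_map {X : Subgroup G} (hX : X ≠ ⊤) {a : G ⧸ H} {v : G} (hv : orderOf v = 2)
    (hva : v • a = a) (hvX : v ∈ X) {g : G} (hg : g ∈ X) (hga : g • a ≠ a) {N : Subgroup G}
    (hN : N ≤ X ⊓ stabilizer G a) (hodd : Odd (Nat.card N))
    (hnorm : X ⊓ stabilizer G a ≤ normalizer (N : Set G)) :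
    N ≤ (Cfsg.oddCore X).map X.subtype := by
  have hse := orbit_se h.se hv hvX hva hg hga
  have hcard : Nat.card X < Nat.card G :=
    lt_of_le_of_ne X.card_le_card_group fun e => hX (Subgroup.eq_top_of_card_eq _ e)
  have hIH := h.below X _ hcard hse
  set K := (stabilizer G a).subgroupOf X with hK
  set N' : Subgroup K := (N.subgroupOf X).subgroupOf K with hN'
  haveI : N'.Normal := ⟨fun m hm k => by
    refine mem_subgroupOf.2 (mem_subgroupOf.2 ?_)
    exact BenderTransitive.conj_mem_of_mem_normalizer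
      (hnorm ⟨(k : X).2, mem_subgroupOf.1 k.2⟩) (mem_subgroupOf.1 (mem_subgroupOf.1 hm))⟩
  have hNX : N.subgroupOf X ≤ K := fun m hm => mem_subgroupOf.2 (hN (mem_subgroupOf.1 hm)).2
  have hN'odd : Odd (Nat.card N') := by
    rw [hN', Nat.card_congr (subgroupOfEquivOfLe hNX).toEquiv,
      Nat.card_congr (subgroupOfEquivOfLe (hN.trans inf_le_left)).toEquiv]
    exact hodd
  have h1 := (Subgroup.map_mono (f := K.subtype) (ZStar.le_oddCore ‹N'.Normal› hN'odd)).trans hIH
  rw [hN', Subgroup.map_subgroupOf_eq_of_le hNX] at h1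
  have h2 := Subgroup.map_mono (f := X.subtype) h1
  rwa [Subgroup.map_subgroupOf_eq_of_le (hN.trans inf_le_left)] at h2

/-- Odd normal subgroups of a point stabiliser in a proper subgroup fix the whole orbit. -/
theorem fixes_orbit {X : Subgroup G} (hX : X ≠ ⊤) {a : G ⧸ H} {v w : G} (hv : orderOf v = 2)
    (hva : v • a = a) (hw : orderOf w = 2) (hvw : Commute v w) (hne : v ≠ w) (hvX : v ∈ X)
    (hwX : w ∈ X) {g : G} (hg : g ∈ X) (hga : g • a ≠ a) {N : Subgroup G}
    (hN : N ≤ X ⊓ stabilizer G a) (hodd : Odd (Nat.card N))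
    (hnorm : X ⊓ stabilizer G a ≤ normalizer (N : Set G)) {k : G} (hk : k ∈ X) :
    N ≤ stabilizer G (k • a) := fun _ hn =>
  smul_of_normalizes (normalizer_oddCore_map X hk) (h.oddCore_le_stabilizer hv hva hw hvw hne hvX hwX)
    (h.le_oddCore_map hX hv hva hvX hg hga hN hodd hnorm hn)

omit h in
/-- The Frattini argument inside a subgroup fixing `a`. -/
theorem exists_normalizer_move {O : Subgroup G} {a : G ⧸ H} (hO : O ≤ stabilizer G a) {g : G}
    (hg : g ∈ normalizer (O : Set G)) (hga : g • a ≠ a) {p : ℕ} [Fact p.Prime] {P : Subgroup G}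
    (hPO : P ≤ O) (hP : Nat.card P = p ^ (Nat.card O).factorization p) :
    ∃ n ∈ normalizer (P : Set G), n • a ≠ a := by
  obtain ⟨S, hS⟩ := Coprime.exists_sylow_map_eq hPO hP
  have hle : P.map (MulAut.conj g).toMonoidHom ≤ O := by
    rintro _ ⟨x, hx, rfl⟩
    exact BenderTransitive.conj_mem_of_mem_normalizer hg (hPO hx)
  obtain ⟨T, hT⟩ := Coprime.exists_sylow_map_eq hle (by rw [Coprime.card_conj_map, hP])
  obtain ⟨k, hk⟩ := MulAction.exists_smul_eq O T S
  refine ⟨(k : G) * g, mem_normalizer_iff_map_conj_eq.2 ?_, fun e => hga ?_⟩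
  · rw [show ((MulAut.conj ((k : G) * g) : MulAut G) : G →* G) =
      (MulAut.conj (k : G)).toMonoidHom.comp (MulAut.conj g).toMonoidHom by
        ext x; simp [mul_assoc], ← Subgroup.map_map, ← hT, ← Coprime.map_smul_sylow, hk, hS]
  · rw [mul_smul, ← eq_inv_smul_iff] at e
    rw [e, inv_smul_eq_iff]
    exact (mem_stabilizer_iff.1 (hO k.2)).symm

/-- A proper subgroup with a four-group at `a` meeting a normal odd `p`-subgroup of `G_a`
nontrivially fixes `a`. -/
theorem le_stabilizer_of_meets {X : Subgroup G} (hX : X ≠ ⊤) {a : G ⧸ H} {v w : G}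
    (hv : orderOf v = 2) (hva : v • a = a) (hw : orderOf w = 2) (hvw : Commute v w) (hne : v ≠ w)
    (hvX : v ∈ X) (hwX : w ∈ X) {p : ℕ} [hp : Fact p.Prime] (hp2 : p ≠ 2) {R : Subgroup G}
    (hR : IsPGroup p R) (hRa : R ≤ stabilizer G a)
    (hRn : stabilizer G a ≤ normalizer (R : Set G)) (hXR : X ⊓ R ≠ ⊥) :
    X ≤ stabilizer G a := by
  classical
  have hwa : w • a = a := SE.commute_fixes h.se hv hva hvw.symm
  intro g hg
  by_contra hga
  set A := CfsgLib.Involution.TwoGroupLifts.fourGroup v w (mul_self hv) (mul_self hw) hvw.eq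
    with hA
  have hAcard : Nat.card A = 4 := by
    haveI : IsKleinFour A := CfsgLib.Involution.TwoGroupLifts.isKleinFour_of_four (ne_one hv)
      (ne_one hw) hne (mul_self hv) (mul_self hw) hvw.eq fun _ => Iff.rfl
    exact IsKleinFour.card_four
  have hAle : ∀ {Y : Subgroup G}, v ∈ Y → w ∈ Y → A ≤ Y := by
    intro Y hvY hwY g hg
    rcases hg with rfl | rfl | rfl | rfl
    exacts [one_mem _, hvY, hwY, mul_mem hvY hwY]
  have hvA : v ∈ A := Or.inr (Or.inl rfl)
  have hwA : w ∈ A := Or.inr (Or.inr (Or.inl rfl))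
  have hAsolv : Group.IsSolvable A := by
    haveI : IsMulCommutative A := by
      haveI : IsKleinFour A := CfsgLib.Involution.TwoGroupLifts.isKleinFour_of_four (ne_one hv)
        (ne_one hw) hne (mul_self hv) (mul_self hw) hvw.eq fun _ => Iff.rfl
      exact ⟨⟨mul_comm_of_exponent_two IsKleinFour.exponent_two⟩⟩
    exact Group.isSolvable_of_comm fun x y => mul_comm' x y
  have hAa : A ≤ stabilizer G a := hAle hva hwa
  -- the family
  let F : Set (Subgroup G) := {W | IsPGroup p W ∧ W ≤ stabilizer G a ∧ W ≠ ⊥ ∧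
    A ≤ normalizer (W : Set G) ∧ ∃ n ∈ normalizer (W : Set G), n • a ≠ a}
  -- an invariant Sylow subgroup of an odd core is in the family
  have hstep : ∀ (Y : Subgroup G), A ≤ Y → ∀ g ∈ Y, g • a ≠ a → ∀ (W : Subgroup G), W ≠ ⊥ →
      IsPGroup p W → W ≤ (Cfsg.oddCore Y).map Y.subtype → A ≤ normalizer (W : Set G) →
      ∃ W' ∈ F, W ≤ W' := by
    intro Y hAY g hgY hgm W hW1 hW hWO hAW
    have hOa := h.oddCore_le_stabilizer hv hva hw hvw hne (hAY hvA) (hAY hwA)
    obtain ⟨P, hWP, hPA⟩ := Coprime.exists_le_invariant_sylow (A := A)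
      (K := (Cfsg.oddCore Y).map Y.subtype) (hAY.trans (normalizer_oddCore_map Y))
      (by rw [hAcard, show (4 : ℕ) = 2 ^ 2 from rfl]
          exact (Nat.coprime_two_left.2 (odd_oddCore_map Y)).pow_left 2) (.inl hAsolv) hWO hW hAW
    refine ⟨_, ⟨P.isPGroup'.map _, (map_subtype_le _).trans hOa, ?_, hPA, ?_⟩, hWP⟩
    · exact fun e => hW1 (le_bot_iff.1 (e ▸ hWP))
    · exact exists_normalizer_move hOa (normalizer_oddCore_map Y hgY) hgm
        (map_subtype_le (P : Subgroup ↥((Cfsg.oddCore Y).map Y.subtype)))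
        (by rw [Coprime.card_map_subtype, P.card_eq_multiplicity])
  have hRnorm : ∀ Y : Subgroup G, Y ⊓ stabilizer G a ≤ normalizer ((Y ⊓ R : Subgroup G) : Set G) :=
    fun Y x hx => mem_normalizer_inf' (le_normalizer hx.1) (hRn hx.2)
  obtain ⟨W₁, hW₁, -⟩ := hstep X (hAle hvX hwX) g hg hga (X ⊓ R) hXR (hR.to_le inf_le_right)
    (h.le_oddCore_map hX hv hva hvX hg hga (le_inf inf_le_left (inf_le_right.trans hRa))
      (odd_of_pgroup hp2 (hR.to_le inf_le_right)) (hRnorm X))
    ((le_inf (hAle hvX hwX) hAa).trans (hRnorm X))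
  obtain ⟨W, ⟨hWF, hWmax⟩⟩ := (Set.toFinite F).exists_maximal ⟨W₁, hW₁⟩
  obtain ⟨hW, hWa, hW1, hAW, n, hnW, hna⟩ := id hWF
  set Y := normalizer (W : Set G) with hY
  have hY' : Y ≠ ⊤ := normalizer_ne_top h.core hW1 hWa
  have hWodd := odd_of_pgroup hp2 hW
  have hRY := h.le_oddCore_map hY' hv hva (hAW hvA) hnW hna
    (N := Y ⊓ R) (le_inf inf_le_left (inf_le_right.trans hRa))
    (odd_of_pgroup hp2 (hR.to_le inf_le_right)) (hRnorm Y)
  have hWY := h.le_oddCore_map hY' hv hva (hAW hvA) hnW hna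
    (N := W) (le_inf le_normalizer hWa) hWodd inf_le_left
  obtain ⟨W', hW'F, hW'⟩ := hstep Y hAW n hnW hna (W ⊔ (Y ⊓ R))
    (fun e => hW1 (le_bot_iff.1 (e ▸ le_sup_left)))
    (hW.to_sup_of_normal_left' (hR.to_le inf_le_right) inf_le_left)
    (sup_le hWY hRY)
    (fun x hx => by
      rw [mem_normalizer_iff_map_conj_eq, Subgroup.map_sup,
        mem_normalizer_iff_map_conj_eq.1 (hAW hx),
        mem_normalizer_iff_map_conj_eq.1 (hRnorm Y ⟨hAW hx, hAa hx⟩)])
  have hle : Y ⊓ R ≤ W := le_sup_right.trans (hW'.trans (hWmax hW'F (le_sup_left.trans hW')))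
  have hRW : R ≤ W := by
    by_contra hnot
    have hWR : W ≤ normalizer (R : Set G) := hWa.trans hRn
    obtain ⟨x, hx, hxN, hxW⟩ := exists_normalizer_not_mem
      (hW.to_sup_of_normal_right' hR hWR) (lt_of_le_of_ne le_sup_left
        fun e => hnot (le_sup_right.trans e.ge) : W < W ⊔ R)
    have hx' : x ∈ (↑(W ⊔ R) : Set G) := hx
    rw [coe_mul_of_left_le_normalizer_right W R hWR] at hx'
    obtain ⟨w', hw', r, hr, rfl⟩ := hx'
    refine hxW (mul_mem hw' (hle ⟨?_, hr⟩))
    have := mul_mem (inv_mem (le_normalizer hw' : w' ∈ normalizer (W : Set G))) hxN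
    rwa [inv_mul_cancel_left] at this
  refine hXR (le_bot_iff.1 (inf_le_right.trans (h.eq_bot_of_fixes hna hRn hRa ?_).le))
  exact fun x hx => smul_of_normalizes hnW hWa (hRW hx)

end Min

end CfsgLib.LocalEven.StrongCore
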