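import Cfsg.Agent.Lib.LocalEven.StrongCore.AutOdd
import Cfsg.Agent.Lib.Coprime.Generation
import Cfsg.Agent.Lib.Coprime.FixedPointFreeOnModule
import Cfsg.Agent.Lib.RankOne.SuzukiTwoOrder

/-!
# The centraliser of the involutions at `a` in `G_a`

For `C = C_{G_a}(E)` and `C1 = C_{G_a}(S0)`: the `2`-elements of `C` lie in `S0`, and
`C = C1 S0 C_C(k)` for the inverted elements `k` of prime order.  The index of `C1 S0` in `C`
times `mult H` divides `|R| - 1`.
-/

set_option autoImplicit false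
set_option linter.style.haveILetI false

namespace CfsgLib.LocalEven.StrongCore

open scoped commutatorElement
open Subgroup MulAction CfsgLib.Involution.Dihedral CfsgLib.Involution
  CfsgLib.LocalEven.BenderTransitive CfsgLib.LocalEven.SwapInjective

universe u

variable {G : Type u} [Group G] [Finite G] {H : Subgroup G}

/-- A subgroup containing a Sylow subgroup of `V` for every prime contains `V`. -/
theorem le_of_sylow_le {V C : Subgroup G}
    (h : ∀ ℓ : ℕ, ℓ.Prime →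
      ∃ S : Subgroup G, S ≤ V ∧ S ≤ C ∧ Nat.card S = ℓ ^ (Nat.card V).factorization ℓ) : V ≤ C := by
  have hdvd : Nat.card V ∣ Nat.card ↥(C ⊓ V) := by
    refine (Nat.factorization_le_iff_dvd Nat.card_pos.ne' Nat.card_pos.ne').1 fun ℓ => ?_
    by_cases hℓ : ℓ.Prime
    · obtain ⟨S, hSV, hSC, hS⟩ := h ℓ hℓ
      have h1 := Subgroup.card_dvd_of_le (le_inf hSC hSV)
      rw [hS] at h1
      exact (hℓ.pow_dvd_iff_le_factorization Nat.card_pos.ne').1 h1
    · rw [Nat.factorization_eq_zero_of_not_prime _ hℓ]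
      exact Nat.zero_le _
  have := Subgroup.eq_of_le_of_card_ge (inf_le_right : C ⊓ V ≤ V)
    (Nat.le_of_dvd Nat.card_pos hdvd)
  exact this ▸ inf_le_left

/-- An element of prime order fixes an element of every coset it stabilises, for a subgroup of
coprime order. -/
theorem exists_fixed_mem_coset {q : ℕ} [hq : Fact q.Prime] {k : G} (hk : orderOf k = q)
    {N : Subgroup G} (hkN : k ∈ normalizer (N : Set G)) (hqN : ¬ q ∣ Nat.card N) {g : G}
    (hg : k * g * k⁻¹ * g⁻¹ ∈ N) : ∃ c ∈ N, Commute k (c * g) := by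
  let S := {x : G // x * g⁻¹ ∈ N}
  have hconj : ∀ z ∈ zpowers k, ∀ x : G, x * g⁻¹ ∈ N → z * x * z⁻¹ * g⁻¹ ∈ N := by
    have hsub : zpowers k ≤
        { carrier := {z : G | z ∈ normalizer (N : Set G) ∧ z * g * z⁻¹ * g⁻¹ ∈ N}
          one_mem' := ⟨one_mem _, by simp⟩
          mul_mem' := fun {z w} hz hw => ⟨mul_mem hz.1 hw.1, by
            rw [show z * w * g * (z * w)⁻¹ * g⁻¹ =
              z * (w * g * w⁻¹ * g⁻¹) * z⁻¹ * (z * g * z⁻¹ * g⁻¹) by group]
            exact mul_mem (BenderTransitive.conj_mem_of_mem_normalizer hz.1 hw.2) hz.2⟩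
          inv_mem' := fun {z} hz => ⟨inv_mem hz.1, by
            rw [show z⁻¹ * g * z⁻¹⁻¹ * g⁻¹ = z⁻¹ * (z * g * z⁻¹ * g⁻¹)⁻¹ * z by group]
            exact BenderTransitive.conj_inv_mem_of_mem_normalizer hz.1 (inv_mem hz.2)⟩ :
          Subgroup G } :=
      zpowers_le.2 ⟨hkN, hg⟩
    intro z hz x hx
    obtain ⟨hzN, hzg⟩ := hsub hz
    rw [show z * x * z⁻¹ * g⁻¹ = z * (x * g⁻¹) * z⁻¹ * (z * g * z⁻¹ * g⁻¹) by group]
    exact mul_mem (BenderTransitive.conj_mem_of_mem_normalizer hzN hx) hzg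
  letI : MulAction (zpowers k) S :=
    { smul := fun z x => ⟨(z : G) * x * (z : G)⁻¹, hconj z z.2 x x.2⟩
      one_smul := fun x => Subtype.ext (by
        show ((1 : zpowers k) : G) * (x : G) * ((1 : zpowers k) : G)⁻¹ = x
        simp)
      mul_smul := fun z w x => Subtype.ext (by
        show ((z * w : zpowers k) : G) * (x : G) * ((z * w : zpowers k) : G)⁻¹ =
          (z : G) * ((w : G) * x * (w : G)⁻¹) * (z : G)⁻¹
        simp [mul_assoc]) }
  have hS : Nat.card S = Nat.card N := Nat.card_congr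
    { toFun := fun x => ⟨(x : G) * g⁻¹, x.2⟩
      invFun := fun n => ⟨(n : G) * g, by rw [mul_inv_cancel_right]; exact n.2⟩
      left_inv := fun x => Subtype.ext (inv_mul_cancel_right _ _)
      right_inv := fun n => Subtype.ext (mul_inv_cancel_right _ _) }
  have hmod := (IsPGroup.of_card (n := 1) (by rw [Nat.card_zpowers, hk, pow_one]) :
    IsPGroup q (zpowers k)).card_modEq_card_fixedPoints S
  obtain ⟨x, hx⟩ : (MulAction.fixedPoints (zpowers k) S).Nonempty := by
    by_contra he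
    rw [Set.not_nonempty_iff_eq_empty] at he
    rw [hS, he, Nat.card_coe_set_eq, Set.ncard_empty, Nat.modEq_zero_iff_dvd] at hmod
    exact hqN hmod
  refine ⟨(x : G) * g⁻¹, x.2, ?_⟩
  rw [inv_mul_cancel_right]
  exact mul_inv_eq_iff_eq_mul.1 (congrArg Subtype.val (hx ⟨k, mem_zpowers k⟩) : k * x * k⁻¹ = x)

/-- A group acting fixed-point-freely has order dividing the number of nontrivial elements. -/
theorem card_dvd_sub_one_of_fpf {M V : Subgroup G} (hMV : M ≤ normalizer (V : Set G))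
    (hfpf : ∀ m ∈ M, m ≠ 1 → ∀ v ∈ V, Commute m v → v = 1) :
    Nat.card M ∣ Nat.card V - 1 := by
  classical
  let S := {v : G // v ∈ V ∧ v ≠ 1}
  letI : MulAction M S :=
    { smul := fun m v => ⟨(m : G) * v * (m : G)⁻¹,
        BenderTransitive.conj_mem_of_mem_normalizer (hMV m.2) v.2.1, fun h => v.2.2 (by
          calc (v : G) = (m : G)⁻¹ * ((m : G) * v * (m : G)⁻¹) * m := by group
            _ = 1 := by rw [h]; group)⟩
      one_smul := fun v => Subtype.ext (by
        show ((1 : M) : G) * (v : G) * ((1 : M) : G)⁻¹ = v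
        simp)
      mul_smul := fun m n v => Subtype.ext (by
        show ((m * n : M) : G) * (v : G) * ((m * n : M) : G)⁻¹ =
          (m : G) * ((n : G) * v * (n : G)⁻¹) * (m : G)⁻¹
        simp [mul_assoc]) }
  have hst : ∀ v : S, MulAction.stabilizer M v = ⊥ := fun v =>
    (Subgroup.eq_bot_iff_forall _).2 fun m hm => by
      by_contra hne
      exact v.2.2 (hfpf m m.2 (fun h => hne (Subtype.ext h)) v v.2.1
        (mul_inv_eq_iff_eq_mul.1 (congrArg Subtype.val (MulAction.mem_stabilizer_iff.1 hm) :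
          (m : G) * v * (m : G)⁻¹ = v)))
  have h := Nat.card_congr (MulAction.selfEquivOrbitsQuotientProd hst)
  rw [Nat.card_prod] at h
  have hS : Nat.card S + 1 = Nat.card V := by
    rw [← Finite.card_option]
    exact Nat.card_congr
      { toFun := fun o => o.elim 1 fun v => ⟨v.1, v.2.1⟩
        invFun := fun v => if hv : (v : G) = 1 then none else some ⟨v, v.2, hv⟩
        left_inv := fun o => by
          rcases o with _ | v
          · simp
          · simp [v.2.2]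
        right_inv := fun v => by
          by_cases hv : (v : G) = 1
          · simp only [hv, dite_true, Option.elim_none]
            exact Subtype.ext hv.symm
          · simp [hv] }
  exact Dvd.intro_left _ (h.symm.trans (by omega))

/-- Subgroups of a cyclic subgroup are determined by their orders. -/
theorem le_of_card_dvd {U K₁ K₂ : Subgroup G} [IsCyclic U] (h₁ : K₁ ≤ U) (h₂ : K₂ ≤ U)
    (hd : Nat.card K₁ ∣ Nat.card K₂) : K₁ ≤ K₂ := by
  classical
  set n := Nat.card K₂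
  haveI := Fintype.ofFinite U
  have hle : Nat.card {y : U // y ^ n = 1} ≤ n := by
    rw [Nat.card_eq_fintype_card, Fintype.card_subtype]
    exact IsCyclic.card_pow_eq_one_le Nat.card_pos
  let f : K₂ → {y : U // y ^ n = 1} := fun y => ⟨⟨y, h₂ y.2⟩,
    Subtype.ext (by rw [SubmonoidClass.coe_pow]; exact congrArg Subtype.val (pow_card_eq_one' (x := y)))⟩
  have hf : Function.Injective f := fun y z h =>
    Subtype.ext (congrArg (fun w => ((w.1 : U) : G)) h :)
  intro x hx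
  obtain ⟨y, hy⟩ := (hf.bijective_of_nat_card_le hle).2 ⟨⟨x, h₁ hx⟩, Subtype.ext (by
    rw [SubmonoidClass.coe_pow]
    obtain ⟨c, hc⟩ := hd
    have h1 : x ^ Nat.card K₁ = 1 := congrArg Subtype.val (pow_card_eq_one' (x := (⟨x, hx⟩ : K₁)))
    show x ^ n = 1
    rw [hc, pow_mul, h1, one_pow])⟩
  have hyx : (y : G) = x := congrArg (fun w => ((w.1 : U) : G)) hy
  exact hyx ▸ y.2

namespace Setting

variable {a b : G ⧸ H} {u : G} {p : ℕ} {R : Subgroup G} (s : Setting a b u p R)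

include s

/-- The kernel of the action of `G_a` on `E`. -/
def C0 (s : Setting a b u p R) : Subgroup G := stabilizer G a ⊓ centralizer (s.E : Set G)

theorem normalizer_C0 : stabilizer G a ≤ normalizer (s.C0 : Set G) := fun _ hg =>
  mem_normalizer_inf' (le_normalizer hg) (mem_normalizer_centralizer (s.normalizer_E hg))

theorem C1_le_C0 : s.C1 ≤ s.C0 := le_inf inf_le_left s.C1_le_centralizer_E

theorem S0_le_C0 : s.S0 ≤ s.C0 := le_inf s.S0_le fun _ hg =>
  mem_centralizer_iff.2 fun _ he => (s.commute_E he hg).eq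

theorem W0_le_C0 : s.W0 ≤ s.C0 := le_inf (s.W0_le_D.trans inf_le_left) inf_le_right

/-- An element acting like a fixed-point-free inverted element centralises no nontrivial element
of `S0`. -/
theorem eq_one_of_commute_image {x : stab2 a b} (hxF : s.conjE.rangeRestrict x ∈
    Cfsg.fittingSubgroup s.conjE.range) (hx1 : s.conjE.rangeRestrict x ≠ 1) {g : G}
    (hg : g ∈ s.S0) (hgx : Commute g x) : g = 1 := by
  by_contra hg1
  obtain ⟨i, hi⟩ := IsPGroup.iff_orderOf.1 s.isPGroup_S0 ⟨g, hg⟩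
  rw [Subgroup.orderOf_mk] at hi
  rcases i with _ | i
  · exact hg1 (orderOf_eq_one_iff.1 (by rw [hi, pow_zero]))
  have ht : orderOf (g ^ 2 ^ i) = 2 := by
    rw [orderOf_pow' _ (pow_ne_zero _ two_ne_zero), hi,
      Nat.gcd_eq_right (pow_dvd_pow 2 i.le_succ), pow_succ,
      Nat.mul_div_cancel_left _ (pow_pos two_pos i)]
  exact s.not_commute_of_fpf hxF hx1 ht
    (mem_stabilizer_iff.1 (s.S0_le (pow_mem hg _))) (hgx.pow_left _)

theorem coprime_S0_of_odd {n : ℕ} (hn : Odd n) : n.Coprime (Nat.card s.S0) := by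
  haveI := Fact.mk Nat.prime_two
  obtain ⟨i, hi⟩ := s.isPGroup_S0.exists_card_eq
  rw [hi]
  exact (Nat.coprime_two_right.2 hn).pow_right i

/-- The part of a Sylow subgroup in the kernel centralises `S0`. -/
theorem sylow_W0_le_C1 {q : ℕ} [hq : Fact q.Prime] (hqd : q ∣ mult H) {P : Subgroup G}
    (hP : P ≤ stab2 a b) (hPp : IsPGroup q P) (huP : u ∈ normalizer (P : Set G)) :
    P ⊓ s.W0 ≤ s.C1 := by
  classical
  set U := P ⊓ s.W0 with hU
  haveI : IsCyclic U := s.isCyclic_centralized hqd (hPp.to_le inf_le_left)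
    (inf_le_left.trans hP) fun x hx => s.commute_swap_W0 hx.2
  obtain ⟨k, hk, hko, hkinv⟩ := s.exists_inverted_prime hqd
  have hk1 : k ≠ 1 := fun e => hq.out.ne_one (by rw [← hko, e, orderOf_one])
  have hUa : U ≤ stabilizer G a := inf_le_left.trans (hP.trans inf_le_left)
  set U₁ := U ⊓ centralizer (s.S0 : Set G) with hU₁
  suffices hle : U ≤ centralizer (s.S0 : Set G) from le_inf hUa hle
  by_contra hnot
  set A := U ⊔ zpowers k with hA
  have hcomm : IsMulCommutative A := by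
    have h1 : U ≤ centralizer ((zpowers k : Subgroup G) : Set G) := fun y hy =>
      mem_centralizer_iff.2 fun z hz => by
        obtain ⟨i, rfl⟩ := mem_zpowers_iff.1 hz
        exact ((s.commute_inverted_W0 hk hkinv hy.2).zpow_left i).eq
    refine ⟨⟨fun x y => ?_⟩⟩
    have hAA : A ≤ centralizer (A : Set G) := by
      letI := IsCyclic.commGroup (α := U)
      refine sup_le (le_centralizer_iff.1 (sup_le ?_ ?_)) (le_centralizer_iff.1 (sup_le h1 ?_))
      · exact fun y hy => mem_centralizer_iff.2 fun z hz =>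
          congrArg Subtype.val (mul_comm (⟨z, hz⟩ : U) ⟨y, hy⟩)
      · exact le_centralizer_iff.1 h1
      · exact zpowers_le.2 (mem_centralizer_iff.2 fun z hz => by
          obtain ⟨i, rfl⟩ := mem_zpowers_iff.1 hz
          exact ((Commute.refl k).zpow_left i).eq)
    exact Subtype.ext (mem_centralizer_iff.1 (hAA y.2) x x.2)
  have hAn : A ≤ normalizer (s.S0 : Set G) :=
    sup_le (hUa.trans s.normalizer_S0) (zpowers_le.2 (s.normalizer_S0 hk.1))
  have hAodd : Odd (Nat.card A) :=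
    s.odd_D.of_dvd_nat (Subgroup.card_dvd_of_le (sup_le (inf_le_left.trans hP) (zpowers_le.2 hk)))
  -- elements of `A` are products
  have hdec : ∀ x ∈ A, ∃ y ∈ U, ∃ i : ℤ, x = y * k ^ i := by
    intro x hx
    have hUn : zpowers k ≤ normalizer (U : Set G) :=
      zpowers_le.2 (Coprime.mem_normalizer_of_conj_map_le fun y hy => by
        rw [(s.commute_inverted_W0 hk hkinv hy.2).eq, mul_inv_cancel_right]
        exact hy)
    have hx' : x ∈ (↑(U ⊔ zpowers k) : Set G) := hx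
    rw [coe_mul_of_right_le_normalizer_left U (zpowers k) hUn] at hx'
    obtain ⟨y, hy, z, hz, rfl⟩ := hx'
    obtain ⟨i, rfl⟩ := mem_zpowers_iff.1 hz
    exact ⟨y, hy, i, rfl⟩
  -- fixed points of the elements outside `U`
  have hfree : ∀ y ∈ U, ∀ i : ℤ, k ^ i ≠ 1 → ∀ g ∈ s.S0, Commute g (y * k ^ i) → g = 1 := by
    intro y hy i hki g hg hgc
    have hki' : k ^ i ∈ stab2 a b := zpow_mem hk i
    have hinv' : u * k ^ i * u⁻¹ = (k ^ i)⁻¹ := by
      rw [Dihedral.conj_zpow hkinv, zpow_neg]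
    have e : s.conjE.rangeRestrict (⟨y, hP hy.1⟩ * ⟨k ^ i, hki'⟩ : stab2 a b) =
        s.conjE.rangeRestrict ⟨k ^ i, hki'⟩ := by
      rw [map_mul, s.rangeRestrict_eq_one.2 hy.2, one_mul]
    refine s.eq_one_of_commute_image (x := ⟨y, hP hy.1⟩ * ⟨k ^ i, hki'⟩)
      (e ▸ s.rangeRestrict_mem_fitting hinv') (fun h => hki ?_) hg hgc
    exact s.inverted_W0_eq_one (s.rangeRestrict_eq_one.1 (e ▸ h)) hinv'
  have hB₀ : A ⊓ centralizer (s.S0 : Set G) ≤ U₁ := by
    intro x hx
    obtain ⟨hxA, hxC⟩ := Subgroup.mem_inf.1 hx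
    obtain ⟨y, hy, i, rfl⟩ := hdec x hxA
    by_cases hki : k ^ i = 1
    · rw [hki, mul_one] at hxC ⊢
      exact ⟨hy, hxC⟩
    · obtain ⟨t, ht, hta⟩ := SE.exists_involution_fixing s.min.se a
      exact absurd (hfree y hy i hki t (s.mem_S0_of_involution ht hta)
        (mem_centralizer_iff.1 hxC t (s.mem_S0_of_involution ht hta))) (ne_one ht)
  -- the least subgroup of `U` above `U₁`
  obtain ⟨n₁, hn₁⟩ := (hPp.to_le (inf_le_left.trans inf_le_left : U₁ ≤ P)).exists_card_eq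
  obtain ⟨n, hn⟩ := (hPp.to_le (inf_le_left : U ≤ P)).exists_card_eq
  have hU₁U : U₁ < U := lt_of_le_of_ne inf_le_left fun e => hnot (e ▸ inf_le_right)
  have hlt : n₁ < n := by
    by_contra hge
    refine hU₁U.ne (Subgroup.eq_of_le_of_card_ge hU₁U.le ?_)
    rw [hn₁, hn]
    exact Nat.pow_le_pow_right hq.out.pos (not_lt.1 hge)
  obtain ⟨g₀, hg₀⟩ := IsCyclic.exists_ofOrder_eq_natCard (α := U)
  set y₀ := g₀ ^ q ^ (n - (n₁ + 1)) with hy₀
  have hy₀o : orderOf (y₀ : G) = q ^ (n₁ + 1) := by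
    rw [orderOf_coe, hy₀, orderOf_pow' _ (pow_ne_zero _ hq.out.ne_zero), hg₀, hn,
      Nat.gcd_eq_right (pow_dvd_pow q (Nat.sub_le _ _)), Nat.pow_div (Nat.sub_le _ _) hq.out.pos]
    congr 1
    omega
  -- all larger subgroups of `A` fix only what `y₀` fixes
  have hgen := Coprime.le_iSup_centralizer (B₀ := U₁) (A := A) (K := s.S0) hAn
    (s.coprime_S0_of_odd hAodd) (inf_le_left.trans le_sup_left) inf_le_right ?_
  · have hy₀S : (y₀ : G) ∈ centralizer (s.S0 : Set G) := by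
      have hS : s.S0 ≤ centralizer ({(y₀ : G)} : Set G) := by
        refine hgen.trans (iSup₂_le fun B hB => ?_)
        obtain ⟨x, hxB, hxU⟩ := SetLike.exists_of_lt hB.1
        obtain ⟨y, hy, i, rfl⟩ := hdec x (hB.2 hxB)
        intro g hg
        have hgx : Commute g (y * k ^ i) :=
          (mem_centralizer_iff.1 hg.2 _ hxB).symm
        by_cases hki : k ^ i = 1
        · rw [hki, mul_one] at hgx hxU
          have hle : zpowers (y₀ : G) ≤ zpowers y := by
            refine le_of_card_dvd (U := U) (zpowers_le.2 y₀.2) (zpowers_le.2 hy) ?_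
            obtain ⟨j, hj⟩ := (hPp.to_le (zpowers_le.2 hy.1)).exists_card_eq
            rw [Nat.card_zpowers, hy₀o, hj]
            refine pow_dvd_pow q ?_
            by_contra hjlt
            refine hxU ((le_of_card_dvd (U := U) (zpowers_le.2 hy) inf_le_left ?_) (mem_zpowers y))
            rw [hj, hn₁]
            exact pow_dvd_pow q (by omega)
          obtain ⟨l, hl⟩ := mem_zpowers_iff.1 (hle (mem_zpowers _))
          refine mem_centralizer_singleton_iff.2 ?_
          rw [← hl]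
          exact (hgx.zpow_right l).eq
        · rw [hfree y hy i hki g hg.1 hgx]
          exact one_mem _
      exact mem_centralizer_iff.2 fun g hg => mem_centralizer_singleton_iff.1 (hS hg)
    have h1 := Subgroup.orderOf_dvd_natCard U₁ (Subgroup.mem_inf.2 ⟨y₀.2, hy₀S⟩)
    rw [hy₀o, hn₁, Nat.pow_dvd_pow_iff_le_right hq.out.one_lt] at h1
    omega
  · rintro ⟨x, hxA, hx⟩
    haveI := hcomm
    obtain ⟨y, hy, i, rfl⟩ := hdec x hxA
    have hyk : Commute y (k ^ i) := (s.commute_inverted_W0 hk hkinv hy.2).symm.zpow_right i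
    have hmem : ∀ z ∈ A, ∃ w ∈ U₁, ∃ j : ℤ, z = w * (y * k ^ i) ^ j := by
      intro z hz
      have hn' : zpowers (y * k ^ i) ≤ normalizer (U₁ : Set G) :=
        zpowers_le.2 (Coprime.mem_normalizer_of_conj_map_le fun w hw => by
          rw [show y * k ^ i * w = w * (y * k ^ i) from congrArg Subtype.val
            (mul_comm' (⟨_, hxA⟩ : A) ⟨w, mem_sup_left hw.1⟩), mul_inv_cancel_right]
          exact hw)
      have hz' : z ∈ (↑(U₁ ⊔ zpowers (y * k ^ i)) : Set G) := hx.symm ▸ hz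
      rw [coe_mul_of_right_le_normalizer_left U₁ _ hn'] at hz'
      obtain ⟨w, hw, v, hv, rfl⟩ := hz'
      obtain ⟨j, rfl⟩ := mem_zpowers_iff.1 hv
      exact ⟨w, hw, j, rfl⟩
    have hUk : ∀ m : ℤ, k ^ m ∈ U → (q : ℤ) ∣ m := fun m hm => by
      rw [← hko]
      refine orderOf_dvd_iff_zpow_eq_one.2 (s.inverted_W0_eq_one hm.2 ?_)
      rw [Dihedral.conj_zpow hkinv, zpow_neg]
    -- the component of `k`
    obtain ⟨w, hw, j, hj⟩ := hmem k (mem_sup_right (mem_zpowers k))
    rw [hyk.mul_zpow, ← zpow_mul, ← mul_assoc] at hj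
    have hkU : k ^ (1 - i * j) = w * y ^ j := by
      rw [zpow_sub, zpow_one]
      exact (eq_mul_inv_iff_mul_eq.2 hj.symm).symm
    have h1 : (q : ℤ) ∣ 1 - i * j := hUk _ (hkU ▸ mul_mem hw.1 (zpow_mem hy j))
    have hk1' : k ^ (1 - i * j) = 1 := by
      rw [← orderOf_dvd_iff_zpow_eq_one, hko]
      exact h1
    have hyj : y ^ j ∈ U₁ := by
      rw [hk1'] at hkU
      rw [show y ^ j = w⁻¹ by rw [eq_inv_iff_mul_eq_one]
                              calc y ^ j * w = w * y ^ j := congrArg Subtype.val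
                                    (mul_comm' (⟨_, zpow_mem (mem_sup_left hy) j⟩ : A)
                                      ⟨w, mem_sup_left hw.1⟩)
                                _ = 1 := hkU.symm]
      exact inv_mem hw
    obtain ⟨e, he⟩ := (hPp.to_le (zpowers_le.2 hy.1)).exists_card_eq
    rw [Nat.card_zpowers] at he
    have hjq : IsCoprime j (q : ℤ) := by
      obtain ⟨c, hc⟩ := h1
      exact ⟨i, c, by linear_combination -hc⟩
    have hjo : IsCoprime j (orderOf y : ℤ) := by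
      rw [he, Nat.cast_pow]; exact hjq.pow_right
    have hyU₁ : y ∈ U₁ := by
      obtain ⟨c, d, hcd⟩ := hjo
      have : y = (y ^ j) ^ c * (y ^ (orderOf y : ℤ)) ^ d := by
        rw [← zpow_mul, ← zpow_mul, ← zpow_add, mul_comm j, mul_comm (orderOf y : ℤ), hcd, zpow_one]
      rw [this, zpow_natCast, pow_orderOf_eq_one, one_zpow, mul_one]
      exact zpow_mem hyj c
    refine hnot fun z hz => ?_
    obtain ⟨w', hw', l, hl⟩ := hmem z (mem_sup_left hz)
    rw [hyk.mul_zpow, ← zpow_mul, ← mul_assoc] at hl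
    have hw'y : w' * y ^ l ∈ U₁ := mul_mem hw' (zpow_mem hyU₁ l)
    have hkl : k ^ (i * l) = 1 := by
      rw [← orderOf_dvd_iff_zpow_eq_one, hko]
      exact hUk _ (by rw [show k ^ (i * l) = (w' * y ^ l)⁻¹ * z by rw [hl, inv_mul_cancel_left]]
                      exact mul_mem (inv_mem hw'y.1) hz)
    rw [hl, hkl, mul_one]
    exact hw'y.2

omit [Finite G] in
omit s in
theorem mem_iff_of_complement {q : ℕ} [Fact q.Prime] {N K : Subgroup G} (hKN : K ≤ N)
    (hqK : ¬ q ∣ Nat.card K) (hK : ∀ g ∈ N, (orderOf g).Coprime q → g ∈ K) {g : G} :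
    g ∈ K ↔ g ∈ N ∧ (orderOf g).Coprime q :=
  ⟨fun h => ⟨hKN h, ((Fact.out : q.Prime).coprime_iff_not_dvd.2
      fun hd => hqK (hd.trans (Subgroup.orderOf_dvd_natCard K h))).symm⟩,
    fun h => hK g h.1 h.2⟩

/-- The structure of `C` relative to an inverted element `k` of prime order: a subgroup `K₀`
normalised by `k` of order prime to it, with the kernel and `C1` generating `C`. -/
theorem exists_C0_factor {q : ℕ} [hq : Fact q.Prime] (hqd : q ∣ mult H) {k : G}
    (hk : k ∈ stab2 a b) (hko : orderOf k = q) (hkinv : u * k * u⁻¹ = k⁻¹) :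
    ∃ K₀ ≤ s.C0, ¬ q ∣ Nat.card K₀ ∧ k ∈ normalizer (K₀ : Set G) ∧
      s.C0 = s.C1 ⊔ K₀ ⊔ s.W0 ∧ (∀ g ∈ s.C0, ∀ i : ℕ, g ^ 2 ^ i = 1 → g ∈ s.S0) ∧
      ¬ q ∣ (s.C1 ⊔ s.S0).relIndex s.C0 := by
  classical
  haveI := Fact.mk Nat.prime_two
  have hkp : IsPGroup q (zpowers k) :=
    IsPGroup.of_card (n := 1) (by rw [Nat.card_zpowers, hko, pow_one])
  have huk : u ∈ normalizer ((zpowers k : Subgroup G) : Set G) :=
    Coprime.mem_normalizer_of_conj_map_le fun y hy => by
      obtain ⟨i, rfl⟩ := mem_zpowers_iff.1 hy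
      rw [Dihedral.conj_zpow hkinv]
      exact zpow_mem (mem_zpowers k) _
  obtain ⟨P, hkP, hP, hPc, hPp, huP⟩ :=
    exists_inv_sylow_ge (p := q) s.inv s.odd_D s.swap_D (zpowers_le.2 hk) hkp huk
  have hPa : P ≤ stabilizer G a := hP.trans inf_le_left
  have hPc' := card_sylow_stabilizer s.min hqd s.hab hP hPc
  set U := P ⊓ s.W0 with hU
  have hUC : s.C0 ⊓ P = U := le_antisymm
    (fun x hx => ⟨hx.2, hP hx.2, hx.1.2⟩) fun x hx => ⟨s.W0_le_C0 hx.2, hx.1⟩
  have hUc : Nat.card U = q ^ (Nat.card s.C0).factorization q := by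
    rw [← hUC]
    exact card_inf_sylow_of_le inf_le_left hPa s.normalizer_C0 hPc'
  haveI : IsCyclic U := s.isCyclic_centralized hqd (hPp.to_le inf_le_left)
    (inf_le_left.trans hP) fun x hx => s.commute_swap_W0 hx.2
  have hU1 : U ≤ s.C1 := s.sylow_W0_le_C1 hqd hP hPp huP
  have hUC0 : U ≤ s.C0 := inf_le_right.trans s.W0_le_C0
  have hPU : P ≤ centralizer (U : Set G) := fun x hx => mem_centralizer_iff.2 fun y hy =>
    (s.commute_sylow_W0 hqd hP hPp huP hx hy.1 hy.2).symm.eq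
  -- `N_C(U) = C_C(U) N_{W0}(U)`
  set N := s.C0 ⊓ centralizer (U : Set G) with hN
  have hNU : N ⊓ normalizer (U : Set G) ≤ centralizer (U : Set G) := fun x hx => hx.1.2
  have hNc : Nat.card U = q ^ (Nat.card N).factorization q := by
    refine le_antisymm ?_ ?_
    · obtain ⟨n, hn⟩ := (hPp.to_le (inf_le_left : U ≤ P)).exists_card_eq
      rw [hn]
      refine Nat.pow_le_pow_right hq.out.pos
        ((hq.out.pow_dvd_iff_le_factorization Nat.card_pos.ne').1 ?_)
      rw [← hn]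
      refine Subgroup.card_dvd_of_le (le_inf hUC0 fun x hx => ?_)
      exact hPU hx.1
    · rw [hUc]
      exact Nat.pow_le_pow_right hq.out.pos
        ((Nat.factorization_le_iff_dvd Nat.card_pos.ne' Nat.card_pos.ne').2
          (Subgroup.card_dvd_of_le inf_le_left) q)
  obtain ⟨K₀, hK₀N, hNK₀, hqK₀, hK₀⟩ := exists_complement (N := N)
    (le_inf hUC0 fun x hx => hPU hx.1) hNc hNU
  have hK₀iff := @mem_iff_of_complement G _ q _ N K₀ hK₀N hqK₀ hK₀
  have hkU : k ∈ normalizer (U : Set G) :=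
    centralizer_le_normalizer _ (hPU (hkP (mem_zpowers k)))
  have hkK₀ : k ∈ normalizer (K₀ : Set G) :=
    Coprime.mem_normalizer_of_conj_map_le fun x hx => by
      obtain ⟨hxN, hxo⟩ := hK₀iff.1 hx
      refine hK₀iff.2 ⟨BenderTransitive.conj_mem_of_mem_normalizer (mem_normalizer_inf'
        (s.normalizer_C0 hk.1) (mem_normalizer_centralizer hkU)) hxN, ?_⟩
      rw [Dihedral.orderOf_conj]
      exact hxo
  -- `N` is generated by `U` and `K₀`
  have hNle : N ≤ s.C1 ⊔ K₀ := by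
    refine le_of_sylow_le fun ℓ hℓ => ?_
    haveI := Fact.mk hℓ
    by_cases hℓq : ℓ = q
    · subst hℓq
      exact ⟨U, le_inf hUC0 fun x hx => hPU hx.1, hU1.trans le_sup_left, hNc⟩
    · let S : Sylow ℓ N := default
      refine ⟨(S : Subgroup N).map N.subtype, map_subtype_le _, ?_,
        by rw [Coprime.card_map_subtype, S.card_eq_multiplicity]⟩
      rintro _ ⟨x, hx, rfl⟩
      refine mem_sup_right (hK₀ _ x.2 ?_)
      obtain ⟨i, hi⟩ := IsPGroup.iff_orderOf.1 S.isPGroup' ⟨x, hx⟩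
      rw [Subgroup.orderOf_mk] at hi
      rw [Subgroup.subtype_apply, orderOf_coe, hi]
      exact ((Nat.coprime_primes hℓ hq.out).2 hℓq).pow_left i
  have hnorm : s.C0 ⊓ normalizer (U : Set G) ≤ s.C1 ⊔ K₀ ⊔ s.W0 := by
    intro g hg
    obtain ⟨hgC, hgU⟩ := Subgroup.mem_inf.1 hg
    obtain ⟨n, hn, hnD, hnU, π, hπ, hact⟩ := automizer_factor (q := q) inf_le_left hPa hP
      hPc' (s.stabilizer_normalizer_le hP fun c hc => fixed_pair' s.min hqd s.hab hP hPc hc)
      (hPa.trans s.normalizer_C0) (U := U)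
      (fun x hx => centralizer_le_normalizer _ (hPU hx)) hgC hgU
    have hnW : n ∈ s.W0 := ⟨hnD, hn.2⟩
    have hc : n⁻¹ * g ∈ N := by
      refine Subgroup.mem_inf.2 ⟨mul_mem (inv_mem hn) hgC, ?_⟩
      have := mul_mem (hPU hπ) hact
      rwa [show π * (π⁻¹ * n⁻¹ * g) = n⁻¹ * g by group] at this
    rw [show g = n * (n⁻¹ * g) by group]
    exact mul_mem (mem_sup_right hnW) (mem_sup_left (hNle hc))
  -- `C = C1 N_C(U)`
  have hC : s.C0 ≤ s.C1 ⊔ (s.C0 ⊓ normalizer (U : Set G)) := by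
    intro g hg
    have hUC1c : Nat.card U = q ^ (Nat.card s.C1).factorization q := by
      refine le_antisymm ?_ ?_
      · obtain ⟨n, hn⟩ := (hPp.to_le (inf_le_left : U ≤ P)).exists_card_eq
        rw [hn]
        refine Nat.pow_le_pow_right hq.out.pos
          ((hq.out.pow_dvd_iff_le_factorization Nat.card_pos.ne').1 ?_)
        rw [← hn]
        exact Subgroup.card_dvd_of_le hU1
      · rw [hUc]
        exact Nat.pow_le_pow_right hq.out.pos
          ((Nat.factorization_le_iff_dvd Nat.card_pos.ne' Nat.card_pos.ne').2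
            (Subgroup.card_dvd_of_le s.C1_le_C0) q)
    have hle : U.map (MulAut.conj g).toMonoidHom ≤ s.C1 := by
      rintro _ ⟨x, hx, rfl⟩
      exact BenderTransitive.conj_mem_of_mem_normalizer (s.normalizer_C1 hg.1) (hU1 hx)
    obtain ⟨S, hS⟩ := Coprime.exists_sylow_map_eq hU1 hUC1c
    obtain ⟨T, hT⟩ := Coprime.exists_sylow_map_eq hle (by rw [Coprime.card_conj_map, hUC1c])
    obtain ⟨c, hc⟩ := MulAction.exists_smul_eq s.C1 T S
    have hcg : (c : G) * g ∈ normalizer (U : Set G) := by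
      refine mem_normalizer_iff_map_conj_eq.2 ?_
      rw [show ((MulAut.conj ((c : G) * g) : MulAut G) : G →* G) =
        (MulAut.conj (c : G)).toMonoidHom.comp (MulAut.conj g).toMonoidHom by
          ext x; simp [mul_assoc], ← Subgroup.map_map, ← hT, ← Coprime.map_smul_sylow, hc, hS]
    rw [show g = (c : G)⁻¹ * ((c : G) * g) by group]
    exact mul_mem (mem_sup_left (inv_mem c.2))
      (mem_sup_right ⟨mul_mem (s.C1_le_C0 c.2) hg, hcg⟩)
  -- the `2`-elements
  have htwoN : ∀ g ∈ s.C0 ⊓ normalizer (U : Set G), ∀ i : ℕ, g ^ 2 ^ i = 1 → g ∈ s.S0 := by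
    intro g hg i hi
    have hgc := s.mem_centralizer_of_two (inf_le_right : U ≤ s.W0) hg.1.1 hg.2 hi
    refine s.mem_S0_of_coprime hko hk hkinv (M := K₀) (fun x hx => (hK₀N hx).1.1) hkK₀ hqK₀
      (hK₀ g ⟨hg.1, hgc⟩ ?_) hi
    exact Nat.Coprime.coprime_dvd_left (orderOf_dvd_of_pow_eq_one hi)
      (((Nat.coprime_primes Nat.prime_two hq.out).2
        (Ne.symm (dvd_mult_ne_two s.min hqd))).pow_left i)
  have hC1two : ∀ g ∈ s.C1, ∀ i : ℕ, g ^ 2 ^ i = 1 → g ∈ s.S0 := fun g hg i hi =>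
    s.mem_S0_of_C1 (Y := ⊥) bot_le hg (mem_centralizer_iff.2 fun y hy => by
      rw [mem_bot.1 hy, one_mul, mul_one]) hi
  set S' := s.S0.subgroupOf s.C0 with hS'
  haveI : S'.Normal :=
    (normal_subgroupOf_iff_le_normalizer s.S0_le_C0).2 (inf_le_left.trans s.normalizer_S0)
  set f := QuotientGroup.mk' S' with hf
  have hoddimg : ∀ A : Subgroup G, (∀ g ∈ A, ∀ i : ℕ, g ^ 2 ^ i = 1 → g ∈ s.S0) →
      Odd (Nat.card ↥((A.subgroupOf s.C0).map f)) := by
    intro A hA
    rw [← Nat.not_even_iff_odd, even_iff_two_dvd]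
    intro hd
    obtain ⟨⟨z, x, hx, rfl⟩, hz⟩ := exists_prime_orderOf_dvd_card' 2 hd
    replace hz : orderOf (f x) = 2 := (Subgroup.orderOf_mk _ _).symm.trans hz
    set β := orderOf x / 2 ^ (orderOf x).factorization 2
    have h1 : x ^ β ∈ S' := mem_subgroupOf.2 (hA _
      (by rw [SubmonoidClass.coe_pow]; exact pow_mem (mem_subgroupOf.1 hx) β)
      ((orderOf x).factorization 2) (by
        rw [← SubmonoidClass.coe_pow, ← pow_mul, Nat.div_mul_cancel (Nat.ordProj_dvd _ 2),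
          pow_orderOf_eq_one, OneMemClass.coe_one]))
    have h2 : f x ^ β = 1 := by
      rw [← map_pow]
      exact (QuotientGroup.eq_one_iff _).2 h1
    have h3 := hz ▸ orderOf_dvd_of_pow_eq_one h2
    exact Nat.not_dvd_ordCompl Nat.prime_two (orderOf_pos x).ne' h3
  have hoddQ : Odd (Nat.card (s.C0 ⧸ S')) := by
    haveI : (s.C1.subgroupOf s.C0).Normal :=
      (normal_subgroupOf_iff_le_normalizer s.C1_le_C0).2 (inf_le_left.trans s.normalizer_C1)
    haveI : ((s.C1.subgroupOf s.C0).map f).Normal :=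
      Subgroup.Normal.map inferInstance f (QuotientGroup.mk'_surjective S')
    have htop : (s.C0 ⊓ normalizer (U : Set G)).subgroupOf s.C0 ⊔ s.C1.subgroupOf s.C0 = ⊤ := by
      rw [← Subgroup.subgroupOf_sup inf_le_left s.C1_le_C0, sup_comm, subgroupOf_eq_top]
      exact hC
    have himg : ((s.C0 ⊓ normalizer (U : Set G)).subgroupOf s.C0).map f ⊔
        (s.C1.subgroupOf s.C0).map f = ⊤ := by
      rw [← Subgroup.map_sup, htop, map_top_of_surjective f (QuotientGroup.mk'_surjective S')]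
    have h := Solvable.Basic.card_sup_mul ((s.C1.subgroupOf s.C0).map f)
      (((s.C0 ⊓ normalizer (U : Set G)).subgroupOf s.C0).map f)
    rw [himg, Subgroup.card_top] at h
    exact ((hoddimg _ htwoN).mul (hoddimg _ hC1two)).of_dvd_nat ⟨_, h.symm⟩
  have hall : ∀ g ∈ s.C0, ∀ i : ℕ, g ^ 2 ^ i = 1 → g ∈ s.S0 := by
    intro g hg i hi
    set x : s.C0 := ⟨g, hg⟩
    refine mem_subgroupOf.1 ((QuotientGroup.eq_one_iff x).1 (orderOf_eq_one_iff.1 ?_) :
      x ∈ S')
    exact Nat.eq_one_of_dvd_coprimes ((Nat.coprime_two_left.2 hoddQ).pow_left i)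
      ((orderOf_map_dvd f x).trans
        ((Subgroup.orderOf_mk g hg).dvd.trans (orderOf_dvd_of_pow_eq_one hi)))
      (orderOf_dvd_natCard _)
  refine ⟨K₀, fun x hx => (hK₀N hx).1, hqK₀, hkK₀, le_antisymm ?_ ?_, hall, ?_⟩
  · exact hC.trans (sup_le (le_sup_left.trans le_sup_left) hnorm)
  · exact sup_le (sup_le s.C1_le_C0 fun x hx => (hK₀N hx).1) s.W0_le_C0
  · intro hd
    have hle : U ≤ s.C1 ⊔ s.S0 := hU1.trans le_sup_left
    have h1 := Subgroup.relIndex_dvd_of_le_left s.C0 hle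
    have h2 := Subgroup.card_mul_index (U.subgroupOf s.C0)
    rw [Nat.card_congr (subgroupOfEquivOfLe hUC0).toEquiv] at h2
    have h3 : q ^ ((Nat.card s.C0).factorization q + 1) ∣ Nat.card s.C0 := by
      refine Dvd.dvd.trans ?_ (dvd_of_eq h2)
      rw [pow_succ, ← hUc]
      exact mul_dvd_mul_left _ (hd.trans h1)
    exact absurd ((hq.out.pow_dvd_iff_le_factorization Nat.card_pos.ne').1 h3) (by omega)

/-- The `2`-elements of `C` lie in `S0`. -/
theorem mem_S0_of_C0 {g : G} (hg : g ∈ s.C0) {i : ℕ} (hi : g ^ 2 ^ i = 1) : g ∈ s.S0 := by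
  obtain ⟨q, hq, hqd, k, hk, hko, hkinv⟩ := s.exists_inverted_ne
  haveI := Fact.mk hq
  obtain ⟨-, -, -, -, -, h, -⟩ := s.exists_C0_factor hqd hk hko hkinv
  exact h g hg i hi

/-- `S0` is abelian, or its squares lie in `E` and it has order at most `|E|³`. -/
theorem S0_cases : (∀ x ∈ s.S0, ∀ y ∈ s.S0, Commute x y) ∨
    ((∀ x ∈ s.S0, x * x ∈ s.E) ∧ Nat.card s.S0 ≤ Nat.card s.E ^ 3) := by
  by_cases hab : ∀ x ∈ s.S0, ∀ y ∈ s.S0, Commute x y
  · exact .inl hab
  refine .inr ?_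
  push Not at hab
  obtain ⟨x₀, hx₀, y₀, hy₀, hne₀⟩ := hab
  haveI := s.isCyclic_K
  letI := IsCyclic.commGroup (α := s.K)
  let φ : s.K →* MulAut s.S0 := s.S0.normalizerMonoidHom.comp
    (Subgroup.inclusion (s.K_le_D.trans (inf_le_left.trans s.normalizer_S0)))
  have hna : ∃ x y : s.S0, x * y ≠ y * x :=
    ⟨⟨x₀, hx₀⟩, ⟨y₀, hy₀⟩, fun h => hne₀ (congrArg Subtype.val h)⟩
  have hA : RankOne.SuzukiTwo.Trans φ := fun x y hx1 hx hy1 hy => by
    have ho : ∀ z : s.S0, z ≠ 1 → z * z = 1 → orderOf (z : G) = 2 := fun z hz1 hz =>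
      orderOf_eq_two (congrArg Subtype.val hz) fun h => hz1 (Subtype.ext h)
    obtain ⟨k, hk, hkx⟩ := s.exists_K_conj (ho x hx1 hx) (mem_stabilizer_iff.1 (s.S0_le x.2))
      (ho y hy1 hy) (mem_stabilizer_iff.1 (s.S0_le y.2))
    exact ⟨⟨k, hk⟩, Subtype.ext hkx⟩
  have htwo : ∃ x y : s.S0, x ≠ y ∧ x ≠ 1 ∧ x * x = 1 ∧ y ≠ 1 ∧ y * y = 1 := by
    obtain ⟨v, w, hv, hva, hw, hwa, -, hne⟩ := exists_four s.min.se s.min.comm a
    exact ⟨⟨v, s.mem_S0_of_involution hv hva⟩, ⟨w, s.mem_S0_of_involution hw hwa⟩,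
      fun e => hne (congrArg Subtype.val e), fun e => ne_one hv (congrArg Subtype.val e),
      Subtype.ext (mul_self hv), fun e => ne_one hw (congrArg Subtype.val e),
      Subtype.ext (mul_self hw)⟩
  have hP := s.isPGroup_S0
  have hZ : (center s.S0).map s.S0.subtype = s.E := by
    ext z
    constructor
    · rintro ⟨x, hx, rfl⟩
      exact s.mem_E.2 ⟨mem_stabilizer_iff.1 (s.S0_le x.2),
        congrArg Subtype.val ((RankOne.SuzukiTwoExp.mem_center_iff' hP hA hna).1 hx)⟩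
    · intro hz
      exact ⟨⟨z, s.E_le_S0 hz⟩, Subgroup.mem_center_iff.2 fun g =>
        Subtype.ext (s.commute_E hz g.2).symm.eq, rfl⟩
  have hZc : Nat.card (center s.S0) = Nat.card s.E := by
    rw [← hZ, Coprime.card_map_subtype]
  refine ⟨fun x hx => hZ ▸ ⟨_, RankOne.SuzukiTwoExp.sq_mem_center hP hA hna htwo ⟨x, hx⟩, rfl⟩, ?_⟩
  rw [← hZc]
  rcases RankOne.SuzukiTwoOrder.card_eq hP hA hna htwo with h | h
  · exact h.le.trans (Nat.pow_le_pow_right Nat.card_pos (by norm_num))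
  · exact h.le

/-- An odd element acting trivially on `S0` modulo `E` centralises `S0`. -/
theorem mem_C1_of_commutator {g : G} (hg : g ∈ s.C0) (hodd : Odd (orderOf g))
    (h : ∀ x ∈ s.S0, g * x * g⁻¹ * x⁻¹ ∈ s.E) : g ∈ s.C1 := by
  refine Subgroup.mem_inf.2 ⟨hg.1, mem_centralizer_iff.2 fun x hx => ?_⟩
  set c := g * x * g⁻¹ * x⁻¹ with hc
  have hcE : c ∈ s.E := h x hx
  have hgc : Commute g c := (mem_centralizer_iff.1 hg.2 c hcE).symm
  have he : g * x * g⁻¹ = x * c := by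
    rw [← (s.commute_E hcE hx).eq, hc, inv_mul_cancel_right]
  have hc1 : c = 1 := by
    refine OddOrder.Stabilize.eq_one_of_conj_eq_mul he hgc ?_
    exact (s.coprime_S0_of_odd hodd).coprime_dvd_right
      (Subgroup.orderOf_dvd_natCard _ (s.E_le_S0 hcE))
  rw [hc1, mul_one] at he
  exact (mul_inv_eq_iff_eq_mul.1 he).symm

/-- When `S0` is abelian, the odd elements of `C` centralise it. -/
theorem mem_C1_of_comm (hab : ∀ x ∈ s.S0, ∀ y ∈ s.S0, Commute x y) {g : G} (hg : g ∈ s.C0)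
    (hodd : Odd (orderOf g)) : g ∈ s.C1 := by
  refine Subgroup.mem_inf.2 ⟨hg.1, mem_centralizer_iff.2 fun x hx => ?_⟩
  suffices h : ∀ n : ℕ, ∀ x ∈ s.S0, x ^ 2 ^ n = 1 → Commute g x by
    obtain ⟨n, hn⟩ := s.isPGroup_S0 ⟨x, hx⟩
    exact (h n x hx (congrArg Subtype.val hn)).symm.eq
  intro n
  induction n with
  | zero =>
    intro x hx h
    rw [pow_zero, pow_one] at h
    exact h ▸ Commute.one_right g
  | succ n ih =>
    intro x hx h
    have h2 : Commute g (x * x) := ih _ (mul_mem hx hx) (by rw [← pow_two, ← pow_mul, ← pow_succ', h])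
    set c := g * x * g⁻¹ * x⁻¹ with hc
    have hgx : g * x * g⁻¹ ∈ s.S0 :=
      BenderTransitive.conj_mem_of_mem_normalizer (s.normalizer_S0 hg.1) hx
    have hcS : c ∈ s.S0 := mul_mem hgx (inv_mem hx)
    have hc2 : c * c = 1 := by
      rw [hc, ((hab _ hgx _ (inv_mem hx)).symm.mul_mul_mul_comm)]
      calc g * x * g⁻¹ * (g * x * g⁻¹) * (x⁻¹ * x⁻¹) = g * (x * x) * g⁻¹ * (x * x)⁻¹ := by group
        _ = 1 := by rw [h2.eq, mul_inv_cancel_right, mul_inv_cancel]
    have hcE : c ∈ s.E := s.mem_E.2 ⟨mem_stabilizer_iff.1 (s.S0_le hcS), hc2⟩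
    have he : g * x * g⁻¹ = x * c := by
      rw [← (hab c hcS x hx).eq, hc, inv_mul_cancel_right]
    have hc1 : c = 1 := OddOrder.Stabilize.eq_one_of_conj_eq_mul he
      (mem_centralizer_iff.1 hg.2 c hcE).symm
      ((s.coprime_S0_of_odd hodd).coprime_dvd_right (Subgroup.orderOf_dvd_natCard _ hcS))
    rw [hc1, mul_one] at he
    exact mul_inv_eq_iff_eq_mul.1 he

theorem normalizer_C1_S0 : stabilizer G a ≤ normalizer ((s.C1 ⊔ s.S0 : Subgroup G) : Set G) :=
  fun g hg => by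
    rw [mem_normalizer_iff_map_conj_eq, Subgroup.map_sup,
      mem_normalizer_iff_map_conj_eq.1 (s.normalizer_C1 hg),
      mem_normalizer_iff_map_conj_eq.1 (s.normalizer_S0 hg)]

/-- If `S0` is abelian then `C = C1 S0`. -/
theorem C0_le_of_comm (hab : ∀ x ∈ s.S0, ∀ y ∈ s.S0, Commute x y) : s.C0 ≤ s.C1 ⊔ s.S0 := by
  refine le_of_primePow_mem fun ℓ hℓ z hz hzp => ?_
  haveI := Fact.mk hℓ
  obtain ⟨i, hi⟩ := hzp.exists_card_eq
  rw [Nat.card_zpowers] at hi
  by_cases h2 : ℓ = 2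
  · subst h2
    exact mem_sup_right (s.mem_S0_of_C0 hz (hi ▸ pow_orderOf_eq_one z))
  · exact mem_sup_left (s.mem_C1_of_comm hab hz (hi ▸ (hℓ.odd_of_ne_two h2).pow))

/-- `C` is generated by `C1`, `S0` and the centraliser of an inverted element of prime order. -/
theorem C0_le_sup_centralizer {q : ℕ} [hq : Fact q.Prime] (hqd : q ∣ mult H) {k : G}
    (hk : k ∈ stab2 a b) (hko : orderOf k = q) (hkinv : u * k * u⁻¹ = k⁻¹) :
    s.C0 ≤ s.C1 ⊔ s.S0 ⊔ (s.C0 ⊓ centralizer ({k} : Set G)) := by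
  classical
  rcases s.S0_cases with hab | ⟨hsq, -⟩
  · exact (s.C0_le_of_comm hab).trans le_sup_left
  obtain ⟨K₀, hK₀C, hqK₀, hkK₀, hC, htwo, -⟩ := s.exists_C0_factor hqd hk hko hkinv
  rw [hC]
  refine sup_le (sup_le (le_sup_left.trans le_sup_left) ?_) fun x hx => mem_sup_right
    ⟨hC ▸ s.W0_le_C0 hx, mem_centralizer_singleton_iff.2
      (s.commute_inverted_W0 hk hkinv hx).symm.eq⟩
  rw [← hC]
  have hcop : (Nat.card (zpowers k)).Coprime (Nat.card K₀) := by
    rw [Nat.card_zpowers, hko]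
    exact hq.out.coprime_iff_not_dvd.2 hqK₀
  refine le_of_sylow_le fun ℓ hℓ => ?_
  haveI := Fact.mk hℓ
  obtain ⟨T, hT⟩ := Coprime.exists_invariant_sylow (A := zpowers k) (K := K₀) (zpowers_le.2 hkK₀)
    hcop (.inl (Coprime.isSolvable_zpowers k)) ℓ
  set Q := (T : Subgroup K₀).map K₀.subtype with hQ
  refine ⟨Q, map_subtype_le _, ?_, by rw [hQ, Coprime.card_map_subtype, T.card_eq_multiplicity]⟩
  have hQp : IsPGroup ℓ Q := T.isPGroup'.map _
  intro g hg
  have hgC : g ∈ s.C0 := hK₀C (map_subtype_le _ hg)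
  by_cases h2 : ℓ = 2
  · subst h2
    obtain ⟨i, hi⟩ := hQp ⟨g, hg⟩
    exact mem_sup_left (mem_sup_right (htwo g hgC i (congrArg Subtype.val hi)))
  have hQodd : Odd (Nat.card Q) := odd_of_pgroup h2 hQp
  by_cases hℓq : ℓ = q
  · subst hℓq
    obtain ⟨n, hn⟩ := hQp.exists_card_eq
    rcases n with _ | n
    · rw [pow_zero] at hn
      rw [Subgroup.eq_bot_of_card_eq Q hn, mem_bot] at hg
      exact hg ▸ one_mem _
    · exact absurd ((dvd_pow_self _ n.succ_ne_zero).trans
        (hn ▸ Subgroup.card_dvd_of_le (map_subtype_le _))) hqK₀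
  have hkQ : k ∈ normalizer (Q : Set G) := hT (mem_zpowers k)
  -- the commutators with `k` act trivially on `S0 / E`
  set Ha := stabilizer G a with hHa
  haveI : (s.E.subgroupOf Ha).Normal :=
    (normal_subgroupOf_iff_le_normalizer (s.E_le_S0.trans s.S0_le)).2 s.normalizer_E
  set π := QuotientGroup.mk' (s.E.subgroupOf Ha) with hπ
  set V := (s.S0.subgroupOf Ha).map π with hV
  set Q' := (Q.subgroupOf Ha).map π with hQ'
  have hπs : Function.Surjective π := QuotientGroup.mk'_surjective _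
  haveI : (s.S0.subgroupOf Ha).Normal :=
    (normal_subgroupOf_iff_le_normalizer s.S0_le).2 s.normalizer_S0
  haveI : V.Normal := Subgroup.Normal.map inferInstance π hπs
  have hVel : Cfsg.IsElementaryAbelian 2 V := by
    have hsq' : ∀ v ∈ V, v * v = 1 := by
      rintro _ ⟨x, hx, rfl⟩
      rw [← map_mul]
      exact (QuotientGroup.eq_one_iff _).2 (mem_subgroupOf.2 (hsq _ (mem_subgroupOf.1 hx)))
    refine ⟨⟨⟨fun v w => Subtype.ext ?_⟩⟩, fun v hv => by rw [pow_two]; exact hsq' v hv⟩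
    have hi : ∀ z ∈ V, z⁻¹ = z := fun z hz => inv_eq_of_mul_eq_one_right (hsq' z hz)
    calc (v : Ha ⧸ s.E.subgroupOf Ha) * w = ((v : Ha ⧸ s.E.subgroupOf Ha) * w)⁻¹ :=
          (hi _ (mul_mem v.2 w.2)).symm
      _ = (w : Ha ⧸ s.E.subgroupOf Ha) * v := by rw [mul_inv_rev, hi _ v.2, hi _ w.2]
  set x := π ⟨k, hk.1⟩ with hx
  have hxQ : x ∈ normalizer (Q' : Set (Ha ⧸ s.E.subgroupOf Ha)) := by
    refine le_normalizer_map π ⟨⟨k, hk.1⟩, ?_, rfl⟩
    refine Coprime.mem_normalizer_of_conj_map_le fun y hy => mem_subgroupOf.2 ?_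
    exact BenderTransitive.conj_mem_of_mem_normalizer hkQ (mem_subgroupOf.1 hy)
  have hVx : V ⊓ centralizer ({x} : Set (Ha ⧸ s.E.subgroupOf Ha)) = ⊥ := by
    refine (Subgroup.eq_bot_iff_forall _).2 ?_
    rintro _ ⟨⟨h, hh, rfl⟩, hc⟩
    have h1 : k * (h : G) * k⁻¹ * (h : G)⁻¹ ∈ s.E := by
      have e : π (⟨k, hk.1⟩ * h * (⟨k, hk.1⟩)⁻¹ * h⁻¹) = 1 := by
        rw [map_mul, map_mul, map_mul, map_inv, map_inv, ← hx,
          show x * π h = π h * x from (mem_centralizer_singleton_iff.1 hc).symm,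
          mul_inv_cancel_right, mul_inv_cancel]
      exact mem_subgroupOf.1 ((QuotientGroup.eq_one_iff _).1 e)
    obtain ⟨e, he, hc'⟩ := exists_fixed_mem_coset hko (s.normalizer_E hk.1) (fun hd => by
      haveI := Fact.mk Nat.prime_two
      obtain ⟨m, -, hm⟩ := s.exists_card_E
      rw [hm] at hd
      exact dvd_mult_ne_two s.min hqd
        ((Nat.prime_dvd_prime_iff_eq hq.out Nat.prime_two).1 (hq.out.dvd_of_dvd_pow hd))) h1
    have h2 := s.eq_one_of_S0_commute hk hkinv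
      (fun e => hq.out.ne_one (by rw [← hko, e, orderOf_one]))
      (mul_mem (s.E_le_S0 he) (mem_subgroupOf.1 hh)) hc'.symm
    refine (QuotientGroup.eq_one_iff _).2 (mem_subgroupOf.2 ?_)
    rw [show (h : G) = e⁻¹ by rw [eq_inv_iff_mul_eq_one, ← (s.commute_E he (mem_subgroupOf.1 hh)).eq, h2]]
    exact inv_mem he
  have hmain := Coprime.FixedPointFreeOnModule.main _ (Ha ⧸ s.E.subgroupOf Ha) ℓ q 2 V Q' x rfl
    h2 (dvd_mult_ne_two s.min hqd) (Ne.symm h2) (Ne.symm (dvd_mult_ne_two s.min hqd)) hℓq hVel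
    ((hQp.of_equiv (subgroupOfEquivOfLe ((map_subtype_le _).trans
      (hK₀C.trans inf_le_left))).symm).map π)
    (normalizer_eq_top (H := V) ▸ le_top) (normalizer_eq_top (H := V) ▸ mem_top x) hxQ
    (by rw [hx, ← map_pow, show (⟨k, hk.1⟩ : Ha) ^ q = 1 from
      Subtype.ext (hko ▸ pow_orderOf_eq_one k), map_one]) hVx
  set g' : Ha := ⟨g, hgC.1⟩
  have hcomm : k * g * k⁻¹ * g⁻¹ ∈ s.C1 ⊓ Q := by
    have hmem : k * g * k⁻¹ * g⁻¹ ∈ Q :=
      mul_mem (BenderTransitive.conj_mem_of_mem_normalizer hkQ hg) (inv_mem hg)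
    refine Subgroup.mem_inf.2 ⟨s.mem_C1_of_commutator (hK₀C (map_subtype_le _ hmem))
      (hQodd.of_dvd_nat (Subgroup.orderOf_dvd_natCard _ hmem)) fun y hy => ?_, hmem⟩
    set z : Ha := ⟨k, hk.1⟩ * g' * (⟨k, hk.1⟩)⁻¹ * g'⁻¹ with hz
    have hc : π z ∈ centralizer (V : Set (Ha ⧸ s.E.subgroupOf Ha)) := by
      have h1 := hmain (Subgroup.commutator_mem_commutator
        (⟨g', mem_subgroupOf.2 hg, rfl⟩ : π g' ∈ Q') (mem_zpowers x))
      have h2 : π z = ⁅π g', x⁆⁻¹ := by
        rw [commutatorElement_inv, commutatorElement_def, hz, map_mul, map_mul, map_mul, map_inv,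
          map_inv, hx]
      rw [h2]
      exact inv_mem h1
    have hyV : π ⟨y, s.S0_le hy⟩ ∈ V := ⟨_, mem_subgroupOf.2 hy, rfl⟩
    have e : π (z * ⟨y, s.S0_le hy⟩ * z⁻¹ * (⟨y, s.S0_le hy⟩)⁻¹) = 1 := by
      rw [map_mul, map_mul, map_mul, map_inv, map_inv, ← mem_centralizer_iff.1 hc _ hyV,
        mul_inv_cancel_right, mul_inv_cancel]
    exact mem_subgroupOf.1 ((QuotientGroup.eq_one_iff _).1 e)
  obtain ⟨c, hc, hck⟩ := exists_fixed_mem_coset hko (N := s.C1 ⊓ Q)
    (mem_normalizer_inf' (s.normalizer_C1 hk.1) hkQ) (fun hd => by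
      obtain ⟨n, hn⟩ := (hQp.to_le (inf_le_right : s.C1 ⊓ Q ≤ Q)).exists_card_eq
      rw [hn] at hd
      exact hℓq ((Nat.prime_dvd_prime_iff_eq hq.out hℓ).1 (hq.out.dvd_of_dvd_pow hd)).symm) hcomm
  rw [show g = c⁻¹ * (c * g) by group]
  exact mul_mem (mem_sup_left (mem_sup_left (inv_mem hc.1)))
    (mem_sup_right ⟨mul_mem (s.C1_le_C0 hc.1) hgC, mem_centralizer_singleton_iff.2 hck.symm.eq⟩)

/-- The index of `C1 S0` in `C`. -/
noncomputable def jIndex (s : Setting a b u p R) : ℕ := (s.C1 ⊔ s.S0).relIndex s.C0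

theorem jIndex_coprime : s.jIndex.Coprime (mult H) := by
  refine Nat.coprime_of_dvd fun q hq hqj hqd => ?_
  haveI := Fact.mk hq
  obtain ⟨k, hk, hko, hkinv⟩ := s.exists_inverted_prime hqd
  obtain ⟨-, -, -, -, -, -, h⟩ := s.exists_C0_factor hqd hk hko hkinv
  exact h hqj

/-- The centraliser in `C` of an inverted element of prime order acts fixed-point-freely on `R`. -/
theorem fpf_centralizer_C0 {k : G} (hk : k ∈ stab2 a b) (hkinv : u * k * u⁻¹ = k⁻¹) (hk1 : k ≠ 1)
    {m : G} (hm : m ∈ s.C0 ⊓ centralizer ({k} : Set G)) (hm1 : m ≠ 1) {v : G} (hv : v ∈ R)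
    (hmv : Commute m v) : v = 1 := by
  have ho : orderOf m ≠ 1 := fun e => hm1 (orderOf_eq_one_iff.1 e)
  haveI := Fact.mk (Nat.minFac_prime ho)
  set x := m ^ (orderOf m / (orderOf m).minFac)
  have hxo : orderOf x = (orderOf m).minFac :=
    orderOf_pow_orderOf_div (orderOf_pos m).ne' (Nat.minFac_dvd _)
  have hxm := pow_mem hm (orderOf m / (orderOf m).minFac)
  have hxa : x • a = a := mem_stabilizer_iff.1 hxm.1.1
  obtain ⟨c, hc, hxc⟩ := exists_other_fixed s.min s.hab s.inv s.swap hk hkinv hk1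
    (IsPGroup.of_card (n := 1) (by rw [Nat.card_zpowers, hxo, pow_one]) :
      IsPGroup (orderOf m).minFac (zpowers x))
    (mem_centralizer_singleton_iff.1 hxm.2) hxa
  obtain ⟨g, hga, hgb⟩ := pairTransitive s.min.se s.min.comm a b c s.hab.symm hc
  have hgH : g ∈ stabilizer G a := mem_stabilizer_iff.2 hga
  set y := g⁻¹ * x * g with hy
  have hyW : y ∈ s.W0 := by
    refine Subgroup.mem_inf.2 ⟨mem_stab2.2 ⟨?_, ?_⟩, mem_centralizer_iff.2 fun e he => ?_⟩
    · rw [hy, mul_smul, mul_smul, hga, hxa, inv_smul_eq_iff, hga]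
    · rw [hy, mul_smul, mul_smul, hgb, hxc, inv_smul_eq_iff, hgb]
    · have h1 := mem_centralizer_iff.1 hxm.1.2 _
        (BenderTransitive.conj_mem_of_mem_normalizer (s.normalizer_E hgH) he)
      calc e * y = g⁻¹ * (g * e * g⁻¹ * x) * g := by rw [hy]; group
        _ = g⁻¹ * (x * (g * e * g⁻¹)) * g := by rw [h1]
        _ = y * e := by rw [hy]; group
  have hy1 : y ≠ 1 := fun e => (Fact.out : (orderOf m).minFac.Prime).ne_one (by
    have hx1 : x = 1 := by
      calc x = g * y * g⁻¹ := by rw [hy]; group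
        _ = 1 := by rw [e]; group
    rw [← hxo, hx1, orderOf_one])
  have hw : g⁻¹ * v * g = 1 := s.eq_one_of_W0_commute hyW hy1
    (BenderTransitive.conj_inv_mem_of_mem_normalizer (s.normal hgH) hv) (by
      have := (hmv.pow_left (orderOf m / (orderOf m).minFac)).map (MulAut.conj g⁻¹).toMonoidHom
      simpa [hy, mul_assoc] using this)
  calc v = g * (g⁻¹ * v * g) * g⁻¹ := by group
    _ = 1 := by rw [hw]; group

theorem odd_jIndex_dvd :
    Odd s.jIndex ∧ s.jIndex * mult H ∣ Nat.card R - 1 := by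
  obtain ⟨q, hq, hqd, k, hk, hko, hkinv⟩ := s.exists_inverted_ne
  haveI := Fact.mk hq
  have hk1 : k ≠ 1 := fun e => hq.ne_one (by rw [← hko, e, orderOf_one])
  set M := s.C0 ⊓ centralizer ({k} : Set G) with hM
  have hModd : Odd (Nat.card M) := (odd_centralizer s.min s.hab s.inv s.swap hk hkinv hk1).of_dvd_nat
    (Subgroup.card_dvd_of_le inf_le_right)
  have hj : s.jIndex ∣ Nat.card M := by
    have hMn : M ≤ normalizer ((s.C1 ⊔ s.S0 : Subgroup G) : Set G) :=
      inf_le_left.trans (inf_le_left.trans s.normalizer_C1_S0)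
    have heq : s.C0 = (s.C1 ⊔ s.S0) ⊔ M :=
      le_antisymm (s.C0_le_sup_centralizer hqd hk hko hkinv)
        (sup_le (sup_le s.C1_le_C0 s.S0_le_C0) inf_le_left)
    rw [jIndex, heq]
    set N := s.C1 ⊔ s.S0
    rw [sup_comm N M]
    haveI : (N.subgroupOf (M ⊔ N)).Normal :=
      (normal_subgroupOf_iff_le_normalizer le_sup_right).2 (sup_le hMn le_normalizer)
    set f := (QuotientGroup.mk' (N.subgroupOf (M ⊔ N))).comp
      (Subgroup.inclusion (le_sup_left : M ≤ M ⊔ N)) with hf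
    have hfs : Function.Surjective f := by
      intro z
      obtain ⟨⟨g, hg⟩, rfl⟩ := QuotientGroup.mk'_surjective _ z
      have hg' : g ∈ (↑(M ⊔ N) : Set G) := hg
      rw [coe_mul_of_left_le_normalizer_right M N hMn] at hg'
      obtain ⟨m, hm, n, hn, rfl⟩ := hg'
      refine ⟨⟨m, hm⟩, QuotientGroup.eq.2 (mem_subgroupOf.2 ?_)⟩
      change m⁻¹ * (m * n) ∈ N
      rwa [inv_mul_cancel_left]
    exact Subgroup.card_dvd_of_surjective f hfs
  refine ⟨hModd.of_dvd_nat hj, s.jIndex_coprime.mul_dvd_of_dvd_of_dvd (hj.trans ?_) ?_⟩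
  · exact card_dvd_sub_one_of_fpf (inf_le_left.trans (inf_le_left.trans s.normal))
      fun m hm hm1 v hv hmv => s.fpf_centralizer_C0 hk hkinv hk1 hm hm1 hv hmv
  · rw [← s.card_K]
    exact card_dvd_sub_one_of_fpf (s.K_le_D.trans (inf_le_left.trans s.normal))
      fun x hx hx1 v hv hxv => s.toConfig.eq_one_of_commute s.hab s.inv s.swap
        (s.mem_K.1 hx).1 (s.mem_K.1 hx).2 hx1 hv hxv.symm

end Setting

end CfsgLib.LocalEven.StrongCore
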