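import Cfsg.Agent.Lib.LocalEven.StrongCore.Effective
import Cfsg.Agent.Lib.LocalEvenB.WeaklyClosedCentral
import Mathlib.GroupTheory.SemidirectProduct

/-!
# An inverted element of prime order central in `D`

Its image in the group induced on `E` is central; hence that group has odd order and a stabiliser
has order at most the rank of `E`.
-/

set_option autoImplicit false
set_option linter.style.haveILetI false

namespace CfsgLib.LocalEven.StrongCore

open scoped commutatorElement
open Subgroup MulAction CfsgLib.Involution.Dihedral CfsgLib.Involution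
  CfsgLib.LocalEven.BenderTransitive CfsgLib.LocalEven.SwapInjective

universe u v

/-- An automorphism of prime order without fixed points on a group of exponent two centralises
the odd groups of automorphisms of coprime order it normalises. -/
theorem commute_of_fpf {M : Type v} [Group M] [Finite M] (hM : ∀ m : M, m * m = 1) {q ℓ : ℕ}
    [Fact q.Prime] [Fact ℓ.Prime] (hq2 : q ≠ 2) (hℓ2 : ℓ ≠ 2) (hℓq : ℓ ≠ q) {x : MulAut M}
    (hx : x ^ q = 1) (hfpf : ∀ m : M, x m = m → m = 1) {Q : Subgroup (MulAut M)}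
    (hQ : IsPGroup ℓ Q) (hxQ : x ∈ normalizer (Q : Set (MulAut M))) {y : MulAut M} (hy : y ∈ Q) :
    Commute x y := by
  classical
  haveI := Fact.mk Nat.prime_two
  let X := M ⋊[MonoidHom.id (MulAut M)] MulAut M
  haveI : Finite (MulAut M) := Finite.of_injective (fun f => (f : M → M)) DFunLike.coe_injective
  haveI : Finite X := Finite.of_equiv _ SemidirectProduct.equivProd.symm
  let inl : M →* X := SemidirectProduct.inl
  let inr : MulAut M →* X := SemidirectProduct.inr
  set V := inl.range with hV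
  have hconj : ∀ (f : MulAut M) (m : M), inr f * inl m * (inr f)⁻¹ = inl (f m) := fun f m => by
    rw [← map_inv]
    exact (SemidirectProduct.inl_aut (φ := MonoidHom.id (MulAut M)) f m).symm
  have hnV : ∀ f : MulAut M, inr f ∈ normalizer (V : Set X) := fun f =>
    Coprime.mem_normalizer_of_conj_map_le fun z hz => by
      obtain ⟨m, rfl⟩ := hz
      exact ⟨f m, (hconj f m).symm⟩
  have hinv : ∀ m : M, m⁻¹ = m := fun m => inv_eq_of_mul_eq_one_right (hM m)
  have hVel : Cfsg.IsElementaryAbelian 2 V := by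
    refine ⟨⟨⟨fun v w => Subtype.ext ?_⟩⟩, fun v hv => ?_⟩
    · obtain ⟨m, hm⟩ := v.2
      obtain ⟨n, hn⟩ := w.2
      simp only [Subgroup.coe_mul, ← hm, ← hn, ← map_mul]
      congr 1
      calc m * n = (m * n)⁻¹ := (hinv _).symm
        _ = n * m := by rw [mul_inv_rev, hinv, hinv]
    · obtain ⟨m, rfl⟩ := hv
      rw [pow_two, ← map_mul, hM, map_one]
  have hVx : V ⊓ centralizer ({inr x} : Set X) = ⊥ := by
    refine (Subgroup.eq_bot_iff_forall _).2 ?_
    rintro _ ⟨⟨m, rfl⟩, hc⟩
    have h1 : inl (x m) = inl m := by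
      rw [← hconj, ← mem_centralizer_singleton_iff.1 hc, mul_inv_cancel_right]
    rw [hfpf m (SemidirectProduct.inl_injective h1), map_one]
  have hQn : inr x ∈ normalizer ((Q.map inr : Subgroup X) : Set X) :=
    le_normalizer_map inr ⟨x, hxQ, rfl⟩
  have h := Coprime.FixedPointFreeOnModule.main _ X ℓ q 2 V (Q.map inr) (inr x) rfl hℓ2 hq2
    hℓ2.symm hq2.symm hℓq hVel (hQ.map inr) (by rintro _ ⟨f, -, rfl⟩; exact hnV f) (hnV x) hQn
    (by rw [← map_pow, hx, map_one]) hVx
  have hc := h (commutator_mem_commutator (Subgroup.mem_map_of_mem inr hy) (mem_zpowers (inr x)))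
  rw [commutatorElement_def, ← map_inv, ← map_inv, ← map_mul, ← map_mul, ← map_mul] at hc
  have h1 : y * x * y⁻¹ * x⁻¹ = 1 := MulEquiv.ext fun m => by
    refine SemidirectProduct.inl_injective (φ := MonoidHom.id (MulAut M)) ?_
    change inl ((y * x * y⁻¹ * x⁻¹) m) = inl m
    rw [← hconj, ← mem_centralizer_iff.1 hc (inl m) ⟨m, rfl⟩, mul_inv_cancel_right]
  rw [mul_inv_eq_one, mul_inv_eq_iff_eq_mul] at h1
  exact h1.symm

variable {G : Type u} [Group G] [Finite G] {H : Subgroup G}

namespace Setting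

variable {a b : G ⧸ H} {u : G} {p : ℕ} {R : Subgroup G} (s : Setting a b u p R)

include s

/-- The group induced on `E` has no `2`-subgroup normalised by an inverted element of prime
order. -/
theorem eq_bot_of_invariant_two {k : G} {q : ℕ} [hq : Fact q.Prime] (hqd : q ∣ mult H)
    (hk : k ∈ stab2 a b) (hko : orderOf k = q) (hkinv : u * k * u⁻¹ = k⁻¹)
    {L : Subgroup s.conjH.range} (hL : IsPGroup 2 L)
    (hkL : s.conjH.rangeRestrict ⟨k, hk.1⟩ ∈ normalizer (L : Set s.conjH.range)) : L = ⊥ := by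
  classical
  haveI := Fact.mk Nat.prime_two
  set f := s.conjH.rangeRestrict with hf
  set L' := L.comap f with hL'
  set Lg := L'.map (stabilizer G a).subtype with hLg
  have hLga : Lg ≤ stabilizer G a := map_subtype_le _
  have hmem : ∀ {x : G} (hx : x ∈ stabilizer G a), x ∈ Lg ↔ f ⟨x, hx⟩ ∈ L := fun {x} hx =>
    ⟨by rintro ⟨y, hy, rfl⟩; exact hy, fun h => ⟨⟨x, hx⟩, h, rfl⟩⟩
  have hker : ∀ {x : stabilizer G a}, f x = 1 ↔ (x : G) ∈ s.C0 := fun {x} => by
    rw [← s.conjH_eq_one]
    exact ⟨fun h => congrArg Subtype.val h, fun h => Subtype.ext h⟩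
  have hC0 : s.C0 ≤ Lg := fun x hx => (hmem hx.1).2 (by
    rw [show f ⟨x, hx.1⟩ = 1 from hker.2 hx]
    exact one_mem _)
  have hcard : Nat.card Lg = Nat.card L * Nat.card s.C0 := by
    rw [hLg, Coprime.card_map_subtype]
    let ψ := f.subgroupComap L
    have hψ : Function.Surjective ψ :=
      f.subgroupComap_surjective_of_surjective L s.conjH.rangeRestrict_surjective
    rw [← Subgroup.index_mul_card ψ.ker, Subgroup.index_ker,
      MonoidHom.range_eq_top.2 hψ, Subgroup.card_top]
    refine congrArg (Nat.card L * ·) (Nat.card_congr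
      { toFun := fun y => ⟨((y.1 : stabilizer G a) : G), hker.1
          (congrArg Subtype.val (MonoidHom.mem_ker.1 y.2))⟩
        invFun := fun x => ⟨⟨⟨x, x.2.1⟩, by
            show f ⟨x, x.2.1⟩ ∈ L
            rw [show f ⟨x, x.2.1⟩ = 1 from hker.2 x.2]
            exact one_mem _⟩, Subtype.ext (hker.2 x.2)⟩
        left_inv := fun _ => rfl
        right_inv := fun _ => rfl })
  have hkp : IsPGroup q (zpowers k) :=
    IsPGroup.of_card (n := 1) (by rw [Nat.card_zpowers, hko, pow_one])
  have huk : u ∈ normalizer ((zpowers k : Subgroup G) : Set G) :=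
    Coprime.mem_normalizer_of_conj_map_le fun y hy => by
      obtain ⟨i, rfl⟩ := mem_zpowers_iff.1 hy
      rw [Dihedral.conj_zpow hkinv]
      exact zpow_mem (mem_zpowers k) _
  obtain ⟨P, -, hP, hPc, hPp, huP⟩ :=
    exists_inv_sylow_ge (p := q) s.inv s.odd_D s.swap_D (zpowers_le.2 hk) hkp huk
  have hPa : P ≤ stabilizer G a := hP.trans inf_le_left
  set U := P ⊓ s.W0 with hU
  have hUC : s.C0 ⊓ P = U := le_antisymm
    (fun x hx => ⟨hx.2, hP hx.2, hx.1.2⟩) fun x hx => ⟨s.W0_le_C0 hx.2, hx.1⟩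
  have hUc : Nat.card U = q ^ (Nat.card s.C0).factorization q := by
    rw [← hUC]
    exact card_inf_sylow_of_le inf_le_left hPa s.normalizer_C0
      (card_sylow_stabilizer s.min hqd s.hab hP hPc)
  haveI : IsCyclic U := s.isCyclic_centralized hqd (hPp.to_le inf_le_left)
    (inf_le_left.trans hP) fun x hx => s.commute_swap_W0 hx.2
  have hUC0 : U ≤ s.C0 := inf_le_right.trans s.W0_le_C0
  set N := Lg ⊓ centralizer (U : Set G) with hN
  have hUN : U ≤ N := le_inf (hUC0.trans hC0) fun x hx => mem_centralizer_iff.2 fun y hy => by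
    letI := IsCyclic.commGroup (α := U)
    exact congrArg Subtype.val (mul_comm (⟨y, hy⟩ : U) ⟨x, hx⟩)
  have hq2 : q ≠ 2 := dvd_mult_ne_two s.min hqd
  have hqL : ¬ q ∣ Nat.card L := fun h => by
    obtain ⟨n, hn⟩ := hL.exists_card_eq
    rw [hn] at h
    exact hq2 ((Nat.prime_dvd_prime_iff_eq hq.out Nat.prime_two).1 (hq.out.dvd_of_dvd_pow h))
  have hNc : Nat.card U = q ^ (Nat.card N).factorization q := by
    refine le_antisymm ?_ ?_
    · obtain ⟨n, hn⟩ := (hPp.to_le (inf_le_left : U ≤ P)).exists_card_eq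
      rw [hn]
      refine Nat.pow_le_pow_right hq.out.pos
        ((hq.out.pow_dvd_iff_le_factorization Nat.card_pos.ne').1 ?_)
      rw [← hn]
      exact Subgroup.card_dvd_of_le hUN
    · rw [hUc]
      refine Nat.pow_le_pow_right hq.out.pos ?_
      have h1 := (Nat.factorization_le_iff_dvd Nat.card_pos.ne' Nat.card_pos.ne').2
        (Subgroup.card_dvd_of_le (inf_le_left : N ≤ Lg)) q
      rwa [hcard, Nat.factorization_mul Nat.card_pos.ne' Nat.card_pos.ne', Finsupp.add_apply,
        Nat.factorization_eq_zero_of_not_dvd hqL, zero_add] at h1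
  obtain ⟨K₀, hK₀N, -, hqK₀, hK₀⟩ := exists_complement hUN hNc fun x hx => hx.1.2
  have hK₀iff := @mem_iff_of_complement G _ q _ N K₀ hK₀N hqK₀ hK₀
  have hkU : k ∈ normalizer (U : Set G) :=
    Coprime.mem_normalizer_of_conj_map_le fun y hy => by
      rw [(s.commute_inverted_W0 hk hkinv hy.2).eq, mul_inv_cancel_right]
      exact hy
  have hkLg : k ∈ normalizer (Lg : Set G) :=
    Coprime.mem_normalizer_of_conj_map_le fun x hx => by
      refine (hmem (mul_mem (mul_mem hk.1 (hLga hx)) (inv_mem hk.1))).2 ?_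
      have h := BenderTransitive.conj_mem_of_mem_normalizer hkL ((hmem (hLga hx)).1 hx)
      rwa [hf, ← map_inv, ← map_mul, ← map_mul] at h
  have hkK₀ : k ∈ normalizer (K₀ : Set G) :=
    Coprime.mem_normalizer_of_conj_map_le fun x hx => by
      obtain ⟨hxN, hxo⟩ := hK₀iff.1 hx
      refine hK₀iff.2 ⟨BenderTransitive.conj_mem_of_mem_normalizer (mem_normalizer_inf' hkLg
        (mem_normalizer_centralizer hkU)) hxN, ?_⟩
      rw [Dihedral.orderOf_conj]
      exact hxo
  refine (Subgroup.eq_bot_iff_forall _).2 fun z hz => ?_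
  obtain ⟨⟨x, hxa⟩, hfx⟩ := s.conjH.rangeRestrict_surjective z
  rw [← hf] at hfx
  -- a lift normalising `U`
  obtain ⟨c, hc, hcx⟩ : ∃ c ∈ s.C0, c * x ∈ normalizer (U : Set G) := by
    have hle : U.map (MulAut.conj x).toMonoidHom ≤ s.C0 := by
      rintro _ ⟨y, hy, rfl⟩
      exact BenderTransitive.conj_mem_of_mem_normalizer (s.normalizer_C0 hxa) (hUC0 hy)
    obtain ⟨S, hS⟩ := Coprime.exists_sylow_map_eq hUC0 hUc
    obtain ⟨T, hT⟩ := Coprime.exists_sylow_map_eq hle (by rw [Coprime.card_conj_map, hUc])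
    obtain ⟨c, hc⟩ := MulAction.exists_smul_eq s.C0 T S
    refine ⟨c, c.2, mem_normalizer_iff_map_conj_eq.2 ?_⟩
    rw [show ((MulAut.conj ((c : G) * x) : MulAut G) : G →* G) =
      (MulAut.conj (c : G)).toMonoidHom.comp (MulAut.conj x).toMonoidHom by
        ext y; simp [mul_assoc], ← Subgroup.map_map, ← hT, ← Coprime.map_smul_sylow, hc, hS]
  set y := c * x with hy
  have hya : y ∈ stabilizer G a := mul_mem hc.1 hxa
  have hfy : f ⟨y, hya⟩ = z := by
    rw [show (⟨y, hya⟩ : stabilizer G a) = ⟨c, hc.1⟩ * ⟨x, hxa⟩ from rfl, map_mul,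
      show f ⟨c, hc.1⟩ = 1 from hker.2 hc, one_mul, hfx]
  have hyL : y ∈ Lg := (hmem hya).2 (hfy ▸ hz)
  set β := orderOf y / 2 ^ (orderOf y).factorization 2 with hβ
  have hyβ : (y ^ β) ^ 2 ^ (orderOf y).factorization 2 = 1 := by
    rw [← pow_mul, hβ, Nat.div_mul_cancel (Nat.ordProj_dvd _ 2), pow_orderOf_eq_one]
  have hS0 : y ^ β ∈ s.S0 := by
    refine s.mem_S0_of_coprime hko hk hkinv (M := K₀) (fun v hv => hLga (hK₀N hv).1) hkK₀ hqK₀
      (hK₀ _ ⟨pow_mem hyL β, s.mem_centralizer_of_two (inf_le_right : U ≤ s.W0)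
        (pow_mem hya β) (pow_mem hcx β) hyβ⟩ ?_) hyβ
    exact Nat.Coprime.coprime_dvd_left (orderOf_dvd_of_pow_eq_one hyβ)
      (((Nat.coprime_primes Nat.prime_two hq.out).2 hq2.symm).pow_left _)
  have h1 : z ^ β = 1 := by
    rw [← hfy, ← map_pow]
    exact hker.2 (s.S0_le_C0 hS0)
  obtain ⟨i, hi⟩ := IsPGroup.iff_orderOf.1 hL ⟨z, hz⟩
  rw [Subgroup.orderOf_mk] at hi
  refine orderOf_eq_one_iff.1 (Nat.eq_one_of_dvd_coprimes
    (Nat.Coprime.pow_left i ((Nat.prime_two.coprime_iff_not_dvd).2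
      (Nat.not_dvd_ordCompl Nat.prime_two (orderOf_pos y).ne'))) hi.dvd
    (orderOf_dvd_of_pow_eq_one h1))

/-- When an inverted element of prime order is central in `D`, the group induced on `E` has odd
order. -/
theorem odd_conjH_range {k : G} {q : ℕ} [hq : Fact q.Prime] (hkK : k ∈ s.K) (hko : orderOf k = q)
    (hkD : ∀ d ∈ stab2 a b, Commute d k) : Odd (Nat.card s.conjH.range) := by
  classical
  haveI := Fact.mk Nat.prime_two
  obtain ⟨hk, hkinv⟩ := s.mem_K.1 hkK
  have hqd : q ∣ mult H := s.card_K ▸ hko ▸ Subgroup.orderOf_dvd_natCard s.K hkK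
  have hq2 : q ≠ 2 := dvd_mult_ne_two s.min hqd
  set f := s.conjH.rangeRestrict with hf
  have hfs : Function.Surjective f := s.conjH.rangeRestrict_surjective
  set x := f ⟨k, hk.1⟩ with hx
  set π := s.conjE.rangeRestrict with hπ
  set k' : stab2 a b := ⟨k, hk⟩
  have hπk : π k' ∈ Cfsg.fittingSubgroup s.conjE.range := s.rangeRestrict_mem_fitting hkinv
  have hπk1 : π k' ≠ 1 := fun e => by
    have := s.inverted_W0_eq_one (s.rangeRestrict_eq_one.1 e) hkinv
    exact hq.out.ne_one (by rw [← hko, show k = 1 from this, orderOf_one])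
  have hπko : orderOf (π k') = q := orderOf_eq_prime (by
    rw [← map_pow, show k' ^ q = 1 from Subtype.ext (hko ▸ pow_orderOf_eq_one k), map_one]) hπk1
  have hfpf : ∀ e : s.E, (x : MulAut s.E) e = e → e = 1 := fun e he =>
    s.oddTrans.eq_one_of_fix hπk hπk1 (x := e) he
  have hxo : orderOf x = q := by
    rw [← orderOf_coe x, show ((x : s.conjH.range) : MulAut s.E) = s.conjE k' from rfl,
      ← hπko, ← orderOf_coe (π k')]
    rfl
  set Db := ((stab2 a b).subgroupOf (stabilizer G a)).map f with hDb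
  set Cx := centralizer ((zpowers x : Subgroup s.conjH.range) : Set s.conjH.range) with hCx
  have hDC : Db ≤ Cx := by
    rintro _ ⟨d, hd, rfl⟩
    refine mem_centralizer_iff.2 fun z hz => ?_
    obtain ⟨i, rfl⟩ := mem_zpowers_iff.1 hz
    exact (((hkD d (mem_subgroupOf.1 hd)).symm.zpow_left i).map (MonoidHom.id G) |> fun h => by
      rw [hx, ← map_zpow, ← map_mul, ← map_mul]
      exact congrArg f (Subtype.ext h.eq))
  -- the image of a Sylow subgroup
  obtain ⟨P, hP, hPc, -, -⟩ := exists_inv_sylow (p := q) s.inv s.odd_D s.swap_D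
  have hPa : P ≤ stabilizer G a := hP.trans inf_le_left
  have hPc' := card_sylow_stabilizer s.min hqd s.hab hP hPc
  obtain ⟨S₀, hS₀⟩ := Coprime.exists_sylow_map_eq hPa hPc'
  let T₀ : Sylow q s.conjH.range := S₀.mapSurjective hfs
  have hT₀ : (T₀ : Subgroup s.conjH.range) = (S₀ : Subgroup (stabilizer G a)).map f := rfl
  have hmemP : ∀ {y : stabilizer G a}, y ∈ (S₀ : Subgroup (stabilizer G a)) ↔ (y : G) ∈ P :=
    fun {y} => by
      rw [← hS₀]
      exact ⟨fun h => ⟨y, h, rfl⟩, fun ⟨z, hz, e⟩ => Subtype.ext e ▸ hz⟩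
  have hTD : (T₀ : Subgroup s.conjH.range) ≤ Db := by
    rw [hT₀]
    exact map_mono fun y hy => mem_subgroupOf.2 (hP (hmemP.1 hy))
  -- elements of the Sylow image conjugate to `x`
  have honly : ∀ g : s.conjH.range, g * x * g⁻¹ ∈ (T₀ : Subgroup s.conjH.range) →
      g * x * g⁻¹ ∈ zpowers x := by
    intro g hg
    obtain ⟨d, hd, hde⟩ := hTD hg
    set d' : stab2 a b := ⟨d, mem_subgroupOf.1 hd⟩
    have hval : ((π d' : s.conjE.range) : MulAut s.E) = ((g * x * g⁻¹ : s.conjH.range) : MulAut s.E) :=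
      congrArg Subtype.val hde
    have hdo : orderOf (π d') = q := by
      rw [← orderOf_coe, hval, orderOf_coe, Dihedral.orderOf_conj, hxo]
    have hdF := s.oddTrans.mem_fitting hq.out hdo fun e he => by
      rw [hval] at he
      have h2 : (x : MulAut s.E) ((g⁻¹ : s.conjH.range).1 e) = (g⁻¹ : s.conjH.range).1 e := by
        have h3 := congrArg (g⁻¹ : s.conjH.range).1 he
        simpa using h3
      have h4 := hfpf _ h2
      simpa using congrArg (g : MulAut s.E) h4
    haveI := s.oddTrans.isCyclic_fitting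
    have hle := le_of_card_dvd (U := Cfsg.fittingSubgroup s.conjE.range) (zpowers_le.2 hdF)
      (zpowers_le.2 hπk) (by rw [Nat.card_zpowers, Nat.card_zpowers, hdo, hπko])
    obtain ⟨i, hi⟩ := mem_zpowers_iff.1 (hle (mem_zpowers _))
    refine mem_zpowers_iff.2 ⟨i, Subtype.ext ?_⟩
    rw [← hval, ← hi]
    rfl
  -- `N(⟨x⟩) = C(x)`
  have hgen : ∀ g : s.conjH.range, g * x * g⁻¹ ∈ zpowers x →
      g ∈ normalizer ((zpowers x : Subgroup s.conjH.range) : Set s.conjH.range) := fun g hg =>
    Coprime.mem_normalizer_of_conj_map_le fun z hz => by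
      obtain ⟨i, rfl⟩ := mem_zpowers_iff.1 hz
      rw [← _root_.conj_zpow]
      exact zpow_mem hg i
  have hNT : normalizer ((T₀ : Subgroup s.conjH.range) : Set s.conjH.range) ≤ Db := by
    intro z hz
    obtain ⟨⟨g, hga⟩, rfl⟩ := hfs z
    set PC := ((T₀ : Subgroup s.conjH.range).comap f).map (stabilizer G a).subtype with hPC
    have hPCa : PC ≤ stabilizer G a := map_subtype_le _
    have hPPC : P ≤ PC := fun v hv =>
      ⟨⟨v, hPa hv⟩, mem_comap.2 (hT₀ ▸ mem_map_of_mem f (hmemP.2 hv)), rfl⟩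
    have hPCc : Nat.card P = q ^ (Nat.card PC).factorization q := by
      obtain ⟨n, hn⟩ := (IsPGroup.of_card hPc).exists_card_eq
      refine le_antisymm ?_ ?_
      · rw [hn]
        refine Nat.pow_le_pow_right hq.out.pos
          ((hq.out.pow_dvd_iff_le_factorization Nat.card_pos.ne').1 ?_)
        rw [← hn]
        exact Subgroup.card_dvd_of_le hPPC
      · rw [hPc']
        exact Nat.pow_le_pow_right hq.out.pos
          ((Nat.factorization_le_iff_dvd Nat.card_pos.ne' Nat.card_pos.ne').2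
            (Subgroup.card_dvd_of_le hPCa) q)
    have hle : P.map (MulAut.conj g).toMonoidHom ≤ PC := by
      rintro _ ⟨v, hv, rfl⟩
      refine ⟨⟨g, hga⟩ * ⟨v, hPa hv⟩ * ⟨g, hga⟩⁻¹, mem_comap.2 ?_, rfl⟩
      rw [map_mul, map_mul, map_inv]
      exact BenderTransitive.conj_mem_of_mem_normalizer hz (hT₀ ▸ mem_map_of_mem f (hmemP.2 hv))
    obtain ⟨S, hS⟩ := Coprime.exists_sylow_map_eq hPPC hPCc
    obtain ⟨T, hT⟩ := Coprime.exists_sylow_map_eq hle (by rw [Coprime.card_conj_map, hPCc])
    obtain ⟨c, hc⟩ := MulAction.exists_smul_eq PC T S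
    have hcg : (c : G) * g ∈ normalizer (P : Set G) := by
      refine mem_normalizer_iff_map_conj_eq.2 ?_
      rw [show ((MulAut.conj ((c : G) * g) : MulAut G) : G →* G) =
        (MulAut.conj (c : G)).toMonoidHom.comp (MulAut.conj g).toMonoidHom by
          ext v; simp [mul_assoc], ← Subgroup.map_map, ← hT, ← Coprime.map_smul_sylow, hc, hS]
    have hcgD : (c : G) * g ∈ stab2 a b := s.stabilizer_normalizer_le hP
      (fun e he => fixed_pair' s.min hqd s.hab hP hPc he) ⟨mul_mem (hPCa c.2) hga, hcg⟩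
    obtain ⟨c', hc', hcc⟩ := c.2
    have hsplit : (⟨g, hga⟩ : stabilizer G a) = c'⁻¹ * ⟨(c : G) * g, hcgD.1⟩ := Subtype.ext (by
      show g = (c' : G)⁻¹ * ((c : G) * g)
      rw [show (c' : G) = (c : G) from hcc, inv_mul_cancel_left])
    rw [hsplit, map_mul, map_inv]
    exact mul_mem (inv_mem (hTD (mem_comap.1 hc')))
      ⟨_, mem_subgroupOf.2 hcgD, rfl⟩
  have hNC : normalizer ((zpowers x : Subgroup s.conjH.range) : Set s.conjH.range) ≤ Cx := by
    intro g hg
    have hTC : (T₀ : Subgroup s.conjH.range) ≤ Cx := hTD.trans hDC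
    have hTc : Nat.card (T₀ : Subgroup s.conjH.range) = q ^ (Nat.card Cx).factorization q := by
      refine le_antisymm ?_ ?_
      · rw [T₀.card_eq_multiplicity]
        refine Nat.pow_le_pow_right hq.out.pos
          ((hq.out.pow_dvd_iff_le_factorization Nat.card_pos.ne').1 ?_)
        rw [← T₀.card_eq_multiplicity]
        exact Subgroup.card_dvd_of_le hTC
      · rw [T₀.card_eq_multiplicity]
        exact Nat.pow_le_pow_right hq.out.pos
          ((Nat.factorization_le_iff_dvd Nat.card_pos.ne' Nat.card_pos.ne').2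
            (Subgroup.card_subgroup_dvd_card Cx) q)
    have hgC := mem_normalizer_centralizer hg
    have hle : (T₀ : Subgroup s.conjH.range).map (MulAut.conj g).toMonoidHom ≤ Cx := by
      rintro _ ⟨v, hv, rfl⟩
      exact BenderTransitive.conj_mem_of_mem_normalizer hgC (hTC hv)
    obtain ⟨S, hS⟩ := Coprime.exists_sylow_map_eq hTC hTc
    obtain ⟨T, hT⟩ := Coprime.exists_sylow_map_eq hle (by rw [Coprime.card_conj_map, hTc])
    obtain ⟨c, hc⟩ := MulAction.exists_smul_eq Cx T S
    have hcg : (c : s.conjH.range) * g ∈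
        normalizer ((T₀ : Subgroup s.conjH.range) : Set s.conjH.range) := by
      refine mem_normalizer_iff_map_conj_eq.2 ?_
      rw [show ((MulAut.conj ((c : s.conjH.range) * g) : MulAut s.conjH.range) :
          s.conjH.range →* s.conjH.range) =
        (MulAut.conj (c : s.conjH.range)).toMonoidHom.comp (MulAut.conj g).toMonoidHom by
          ext v; simp [mul_assoc], ← Subgroup.map_map, ← hT, ← Coprime.map_smul_sylow, hc, hS]
    rw [← inv_mul_cancel_left (c : s.conjH.range) g]
    exact mul_mem (inv_mem c.2) (hDC (hNT hcg))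
  have hfix : ∀ g : s.conjH.range, g * x * g⁻¹ ∈ zpowers x → g * x * g⁻¹ = x := fun g hg => by
    rw [← mem_centralizer_iff.1 (hNC (hgen g hg)) x (mem_zpowers x), mul_inv_cancel_right]
  have hhyp : LocalEvenB.WeaklyClosedCentral.Hyp q x := by
    refine ⟨IsPGroup.of_card (n := 1) (by rw [Nat.card_zpowers, hxo, pow_one]), ?_, ?_⟩
    · intro Q hQ hxQ g hgQ
      obtain ⟨T, hT⟩ := hQ.exists_le_sylow
      obtain ⟨h, hh⟩ := MulAction.exists_smul_eq s.conjH.range T T₀
      have hin : ∀ {y}, y ∈ Q → h * y * h⁻¹ ∈ (T₀ : Subgroup s.conjH.range) := fun {y} hy => by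
        rw [← hh, Sylow.coe_subgroup_smul, Solvable.Basic.mem_conj_smul]
        have : h⁻¹ * (h * y * h⁻¹) * h = y := by group
        rw [this]
        exact hT hy
      have h1 := hfix h (honly h (hin hxQ))
      have h2 : (h * g) * x * (h * g)⁻¹ = x := hfix _ (honly _ (by
        rw [show h * g * x * (h * g)⁻¹ = h * (g * x * g⁻¹) * h⁻¹ by group]
        exact hin hgQ))
      calc g * x * g⁻¹ = h⁻¹ * (h * g * x * (h * g)⁻¹) * h := by group
        _ = h⁻¹ * (h * x * h⁻¹) * h := by rw [h1, h2]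
        _ = x := by group
    · intro L hL hinvL y hy
      have hxL : x ∈ normalizer (L : Set s.conjH.range) :=
        Coprime.mem_normalizer_of_conj_map_le hinvL
      suffices hle : L ≤ centralizer ({x} : Set s.conjH.range) from
        (mem_centralizer_singleton_iff.1 (hle hy)).symm
      have hcop : (Nat.card (zpowers x)).Coprime (Nat.card L) := by
        rw [Nat.card_zpowers, hxo]
        exact hL.symm
      refine le_of_sylow_le fun ℓ hℓ => ?_
      haveI := Fact.mk hℓ
      obtain ⟨T, hT⟩ := Coprime.exists_invariant_sylow (A := zpowers x) (K := L)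
        (zpowers_le.2 hxL) hcop (.inl (Coprime.isSolvable_zpowers x)) ℓ
      set Q := (T : Subgroup L).map L.subtype with hQdef
      refine ⟨Q, map_subtype_le _, ?_,
        by rw [hQdef, Coprime.card_map_subtype, T.card_eq_multiplicity]⟩
      have hQp : IsPGroup ℓ Q := T.isPGroup'.map _
      by_cases hℓ2 : ℓ = 2
      · subst hℓ2
        rw [s.eq_bot_of_invariant_two hqd hk hko hkinv hQp (hT (mem_zpowers x))]
        exact bot_le
      by_cases hℓq : ℓ = q
      · subst hℓq
        obtain ⟨n, hn⟩ := hQp.exists_card_eq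
        rcases n with _ | n
        · rw [Subgroup.eq_bot_of_card_eq Q (by rw [hn, pow_zero])]
          exact bot_le
        · exact absurd ((dvd_pow_self _ n.succ_ne_zero).trans
            (hn ▸ Subgroup.card_dvd_of_le (map_subtype_le _)))
            (hℓ.coprime_iff_not_dvd.1 hL.symm)
      intro z hz
      have hxQ : (x : MulAut s.E) ∈ normalizer ((Q.map s.conjH.range.subtype :
          Subgroup (MulAut s.E)) : Set (MulAut s.E)) :=
        le_normalizer_map s.conjH.range.subtype ⟨x, hT (mem_zpowers x), rfl⟩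
      have hcxz := commute_of_fpf (fun e : s.E => Subtype.ext e.2.2) hq2 hℓ2 hℓq
        (x := (x : MulAut s.E))
        (by rw [← SubmonoidClass.coe_pow, ← hxo, pow_orderOf_eq_one]; rfl) hfpf
        (hQp.map s.conjH.range.subtype) hxQ (Subgroup.mem_map_of_mem _ hz)
      exact mem_centralizer_singleton_iff.2 (Subtype.ext hcxz.symm.eq)
  have hcen := LocalEvenB.WeaklyClosedCentral.central_aux q _ s.conjH.range le_rfl x hhyp
  rw [← Nat.not_even_iff_odd, even_iff_two_dvd]
  intro hd
  obtain ⟨z, hz⟩ := exists_prime_orderOf_dvd_card' 2 hd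
  have hbot := s.eq_bot_of_invariant_two hqd hk hko hkinv (L := zpowers z)
    (IsPGroup.of_card (n := 1) (by rw [Nat.card_zpowers, hz, pow_one]))
    (Coprime.mem_normalizer_of_conj_map_le fun y hy => by
      rw [← Subgroup.mem_center_iff.1 hcen y, mul_inv_cancel_right]
      exact hy)
  rw [zpowers_eq_bot] at hbot
  rw [hbot, orderOf_one] at hz
  exact absurd hz (by norm_num)

/-- In that case a stabiliser has odd order at most the rank of `E`. -/
theorem hIndex_le_rank {k : G} {q : ℕ} [Fact q.Prime] (hkK : k ∈ s.K) (hko : orderOf k = q)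
    (hkD : ∀ d ∈ stab2 a b, Commute d k) {t : G} (ht : orderOf t = 2) (hta : t • a = a) {n : ℕ}
    (hn : Nat.card s.E = 2 ^ n) : Odd (s.hIndex t) ∧ s.hIndex t ≤ n := by
  have hodd := s.odd_conjH_range hkK hko hkD
  have hA : OddTrans s.conjH.range :=
    ⟨hodd, fun e => Subtype.ext e.2.2, fun _ _ => s.exists_conjH_eq, s.oddTrans.nontriv⟩
  obtain ⟨B, hB, hBc, hBt⟩ := s.exists_fixing ht hta
  refine ⟨hBc ▸ hodd.of_dvd_nat (Subgroup.card_dvd_of_le hB), ?_⟩
  rw [← hBc, ← Nat.card_congr (subgroupOfEquivOfLe hB).toEquiv]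
  exact (hA.field_facts hn).1 ⟨t, s.mem_E_of_involution ht hta⟩ (B.subgroupOf s.conjH.range)
    (fun e => ne_one ht (congrArg Subtype.val e)) fun f hf => hBt _ (mem_subgroupOf.1 hf)

end Setting

end CfsgLib.LocalEven.StrongCore
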