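import Cfsg.Agent.Lib.LocalEven.StrongCore.Orbit

/-!
# The involutions at a coset centralise the odd core; parity; inverted elements

`R` is a nontrivial normal `p`-subgroup of the stabiliser of `a`.
-/

set_option autoImplicit false
set_option linter.style.haveILetI false

namespace CfsgLib.LocalEven.StrongCore

open Subgroup MulAction CfsgLib.Involution.Dihedral CfsgLib.Involution
  CfsgLib.LocalEven.BenderTransitive CfsgLib.LocalEven.SwapInjective

universe u

variable {G : Type u} [Group G] {H : Subgroup G}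

/-- The configuration: a counterexample and a minimal normal odd `p`-subgroup of `G_a`. -/
structure Config [Finite G] (a : G ⧸ H) (p : ℕ) (R : Subgroup G) : Prop where
  min : Min H
  prime : p.Prime
  ne_two : p ≠ 2
  group : IsPGroup p R
  ne : R ≠ ⊥
  le : R ≤ stabilizer G a
  normal : stabilizer G a ≤ normalizer (R : Set G)

theorem exists_ne_coset (hH : Cfsg.IsStronglyEmbedded H) (a : G ⧸ H) : ∃ b : G ⧸ H, b ≠ a := by
  by_contra h
  push Not at h
  refine hH.1 (eq_top_iff.2 fun g _ => ?_)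
  have h1 : ((g : G) : G ⧸ H) = ((1 : G) : G ⧸ H) := (h _).trans (h _).symm
  simpa using QuotientGroup.eq.1 h1.symm

/-- An element of odd order commuting in square with `j` commutes with it. -/
theorem commute_of_sq {k j : G} (hk : Odd (orderOf k)) (h : Commute (k * k) j) : Commute k j := by
  obtain ⟨m, hm⟩ := hk
  have e : k = (k * k) ^ (m + 1) := by
    rw [← pow_two, ← pow_mul, show 2 * (m + 1) = orderOf k + 1 by omega, pow_succ,
      pow_orderOf_eq_one, one_mul]
  rw [e]
  exact h.pow_left _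

variable [Finite G]

/-- Two orbits of a subgroup of odd order interchanged by an involution and an element of prime
power order fixing a single coset. -/
theorem false_of_parity {Y : Subgroup G} (hY : Odd (Nat.card Y)) {u : G} (hu : orderOf u = 2)
    (huY : u ∈ normalizer (Y : Set G)) {a : G ⧸ H} (hua : ∀ y ∈ Y, u • y • a ≠ y • a) {x : G}
    (hxY : x ∈ Y) {ℓ : ℕ} [hℓ : Fact ℓ.Prime] (hx : IsPGroup ℓ (zpowers x)) (hxa : x • a = a)
    (honly : ∀ c : G ⧸ H, x • c = c → c = a) : False := by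
  classical
  have hxle : zpowers x ≤ Y := zpowers_le.2 hxY
  have hP := hx.of_equiv (subgroupOfEquivOfLe hxle).symm
  have hcount : ∀ c : G ⧸ H, Nat.card (MulAction.orbit Y c) ≡
      Nat.card {f : MulAction.orbit Y c // x • (f : G ⧸ H) = f} [MOD ℓ] := by
    intro c
    refine (hP.card_modEq_card_fixedPoints _).trans
      (congrArg (· % ℓ) (Nat.card_congr (Equiv.subtypeEquivRight fun f => ?_)))
    constructor
    · exact fun h => congrArg Subtype.val (h ⟨⟨x, hxY⟩, mem_subgroupOf.2 (mem_zpowers x)⟩)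
    · intro h y
      apply Subtype.ext
      exact mem_stabilizer_iff.1 (zpowers_le.2 (mem_stabilizer_iff.2 h) (mem_subgroupOf.1 y.2))
  -- the orbits of `a` and `u • a` are distinct
  have hdisj : u • a ∉ MulAction.orbit Y a := by
    rintro ⟨y₀, hy₀⟩
    haveI := Fintype.ofFinite (MulAction.orbit Y a)
    have hodd : Odd (Nat.card (MulAction.orbit Y a)) := by
      rw [Nat.card_congr (MulAction.orbitEquivQuotientStabilizer Y a)]
      exact hY.of_dvd_nat (Subgroup.index_dvd_card _)
    have hmove : ∀ f ∈ MulAction.orbit Y a, u • f ∈ MulAction.orbit Y a := by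
      rintro _ ⟨y, rfl⟩
      refine ⟨⟨u * y * u⁻¹ * y₀, mul_mem (BenderTransitive.conj_mem_of_mem_normalizer huY y.2)
        y₀.2⟩, ?_⟩
      change (u * y * u⁻¹ * y₀) • a = u • (y : G) • a
      have e : (y₀ : G) • a = u • a := hy₀
      rw [mul_smul, e, mul_smul, inv_smul_smul, mul_smul]
    let σ : Equiv.Perm (MulAction.orbit Y a) :=
      (MulAction.toPerm u).subtypePerm (p := fun f => f ∈ MulAction.orbit Y a) fun f =>
        ⟨fun h => by simpa [smul_smul, mul_self hu] using hmove _ h, hmove f⟩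
    have hσ : σ ^ 2 ^ 1 = 1 := by
      refine Equiv.ext fun f => Subtype.ext ?_
      rw [pow_one, pow_two]
      change u • u • (f : G ⧸ H) = f
      rw [smul_smul, mul_self hu, one_smul]
    haveI : Fact (Nat.Prime 2) := ⟨Nat.prime_two⟩
    obtain ⟨⟨_, ⟨y, rfl⟩⟩, hf⟩ := Equiv.Perm.exists_fixed_point_of_prime (p := 2) (n := 1) (by
      rw [Nat.card_eq_fintype_card, Nat.odd_iff] at hodd
      omega) hσ
    exact hua y y.2 (congrArg Subtype.val hf)
  have h1 : Nat.card {f : MulAction.orbit Y a // x • (f : G ⧸ H) = f} = 1 :=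
    Nat.card_eq_one_iff_unique.2 ⟨⟨fun f g => Subtype.ext (Subtype.ext
      ((honly _ f.2).trans (honly _ g.2).symm))⟩, ⟨⟨⟨a, MulAction.mem_orbit_self a⟩, hxa⟩⟩⟩
  have h2 : Nat.card {f : MulAction.orbit Y (u • a) // x • (f : G ⧸ H) = f} = 0 := by
    rw [Nat.card_eq_zero]
    refine Or.inl ⟨fun f => hdisj ?_⟩
    obtain ⟨⟨_, ⟨y, rfl⟩⟩, hf⟩ := f
    exact ⟨y⁻¹, inv_smul_eq_iff.2 (honly _ hf).symm⟩
  have h3 : Nat.card (MulAction.orbit Y a) = Nat.card (MulAction.orbit Y (u • a)) := by
    refine Nat.card_congr (Equiv.subtypeEquiv (MulAction.toPerm u) fun f => ⟨?_, ?_⟩)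
    · rintro ⟨y, rfl⟩
      refine ⟨⟨u * y * u⁻¹, BenderTransitive.conj_mem_of_mem_normalizer huY y.2⟩, ?_⟩
      change (u * y * u⁻¹) • u • a = u • (y : G) • a
      rw [mul_smul, inv_smul_smul, mul_smul]
    · rintro ⟨y, hy⟩
      refine ⟨⟨u⁻¹ * y * u, BenderTransitive.conj_inv_mem_of_mem_normalizer huY y.2⟩, ?_⟩
      change (u⁻¹ * y * u) • a = f
      have e : (y : G) • u • a = u • f := hy
      rw [mul_smul, mul_smul, e, inv_smul_smul]
  have h4 := hcount a
  have h5 := hcount (u • a)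
  rw [h1] at h4
  rw [h2, ← h3] at h5
  have h6 := h4.symm.trans h5
  rw [Nat.modEq_zero_iff_dvd, Nat.dvd_one] at h6
  exact hℓ.out.ne_one h6

section Facts

variable (h : Min H)

include h

theorem odd_orderOf_stab2 {a b : G ⧸ H} (hab : a ≠ b) {g : G} (hg : g ∈ stab2 a b) :
    Odd (orderOf g) :=
  (odd_stab2 h.se hab).of_dvd_nat (Subgroup.orderOf_dvd_natCard _ hg)

theorem one_lt_mult : 1 < mult H := by
  obtain ⟨a, -⟩ := exists_ne_coset h.se ((1 : G) : G ⧸ H)
  obtain ⟨v, w, hv, hva, hw, hwa, -, hne⟩ := exists_four h.se h.comm a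
  rw [← card_involutions_fixing h.se a, Finite.one_lt_card_iff_nontrivial]
  exact ⟨⟨⟨v, hv, hva⟩, ⟨w, hw, hwa⟩, fun e => hne (congrArg Subtype.val e)⟩⟩

theorem dvd_mult_ne_two {q : ℕ} (hq : q ∣ mult H) : q ≠ 2 := by
  rintro rfl
  obtain ⟨b, hb⟩ := exists_ne_coset h.se ((1 : G) : G ⧸ H)
  obtain ⟨u, hu, hua⟩ := exists_swap h.se hb
  have h1 := relIndex_swap h.se hb hu hua
  refine Nat.not_even_iff_odd.2 (odd_stab2 h.se hb) (even_iff_two_dvd.2 (hq.trans ?_))
  rw [← h1]
  exact Subgroup.index_dvd_card _ |>.trans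
    (by rw [Nat.card_congr (MulEquiv.refl (stab2 b ((1 : G) : G ⧸ H))).toEquiv])

theorem fixed_pair' {q : ℕ} [Fact q.Prime] (hq : q ∣ mult H) {a b c : G ⧸ H} (hab : a ≠ b)
    {P : Subgroup G} (hP : P ≤ stab2 a b)
    (hPc : Nat.card P = q ^ (Nat.card (stab2 a b)).factorization q) (hc : P ≤ stabilizer G c) :
    c = a ∨ c = b :=
  fixed_pair h.se h.comm h.rigid hq hab hP hPc hc

/-- For `q` dividing `mult H` a Sylow subgroup of `G_{a,b}` is one of `G_a`. -/
theorem card_sylow_stabilizer {q : ℕ} [Fact q.Prime] (hq : q ∣ mult H) {a b : G ⧸ H}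
    (hab : a ≠ b) {P : Subgroup G} (hP : P ≤ stab2 a b)
    (hPc : Nat.card P = q ^ (Nat.card (stab2 a b)).factorization q) :
    Nat.card P = q ^ (Nat.card (stabilizer G a)).factorization q := by
  have e := card_sylow_of_fixed_pair (X := (⊤ : Subgroup G)) (δ := a) (ε := b) (P := P) (q := q)
    (le_inf le_top hP) (by rw [top_inf_eq]; exact hPc)
    (by obtain ⟨g, hg⟩ := MulAction.exists_smul_eq G a b; exact ⟨⟨g, mem_top g⟩, hg⟩)
    (fun x _ hx => fixed_pair' h hq hab hP hPc hx) hab
  rwa [top_inf_eq] at e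

/-- An element inverted by a swap has centraliser of odd order. -/
theorem odd_centralizer {a b : G ⧸ H} (hab : a ≠ b) {u k : G} (hu : orderOf u = 2)
    (hua : u • a = b) (hk : k ∈ stab2 a b) (hinv : u * k * u⁻¹ = k⁻¹) (hk1 : k ≠ 1) :
    Odd (Nat.card (centralizer ({k} : Set G))) := by
  rw [← Nat.not_even_iff_odd]
  intro he
  obtain ⟨t, htC, ht⟩ := Basic.exists_involution_of_even _ he
  have htk : Commute t k := mem_centralizer_singleton_iff.1 htC
  obtain ⟨x, htx⟩ := SE.exists_fixed h.se ht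
  have hkx : k • x = x := SE.commute_fixes h.se ht htx htk.symm
  suffices hux : u • x = x by
    refine hk1 (h.rigid u k x a hu hux hinv hkx (mem_stab2.1 hk).1 fun e => hab ?_)
    exact (e.trans hux.symm).trans ((congrArg (u • ·) e.symm).trans hua)
  by_cases hc : Commute t u
  · exact SE.commute_fixes h.se ht htx hc.symm
  rcases Nat.even_or_odd (orderOf (t * u)) with hev | hodd
  · have hw := half_orderOf hev
    exact SE.commute_fixes h.se hw
      (SE.commute_fixes h.se ht htx (half_commute_left ht hu hev))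
      (half_commute_right ht hu hev).symm
  · exfalso
    obtain ⟨d, hd, e⟩ := exists_conj_of_odd ht hu hodd
    have hN : zpowers (t * u) ≤ normalizer ((zpowers k : Subgroup G) : Set G) := by
      refine zpowers_le.2 (mul_mem ?_ ?_)
      · exact conj_normalizer_of_commute htk
      · refine Coprime.mem_normalizer_of_conj_map_le fun y hy => ?_
        obtain ⟨i, rfl⟩ := mem_zpowers_iff.1 hy
        rw [Dihedral.conj_zpow hinv]
        exact zpow_mem (mem_zpowers k) _
    obtain ⟨i, hi⟩ := mem_zpowers_iff.1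
      (BenderTransitive.conj_inv_mem_of_mem_normalizer (hN hd) (mem_zpowers k))
    have h4 : Commute t (d⁻¹ * k * d) := hi ▸ htk.zpow_right i
    have h5 : Commute u k := by
      have h6 := h4.map (MulAut.conj d).toMonoidHom
      simp only [MulEquiv.coe_toMonoidHom, MulAut.conj_apply, e] at h6
      rwa [show d * (d⁻¹ * k * d) * d⁻¹ = k by group] at h6
    rw [h5.eq, mul_inv_cancel_right] at hinv
    have hkk : orderOf k = 2 := orderOf_eq_two
      (by conv_lhs => arg 2; rw [hinv]
          exact mul_inv_cancel k) hk1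
    exact absurd (hkk ▸ odd_orderOf_stab2 h hab hk) (by decide)

/-- An element of prime power order commuting with an inverted element and fixing `a` fixes
another coset. -/
theorem exists_other_fixed {a b : G ⧸ H} (hab : a ≠ b) {u k : G} (hu : orderOf u = 2)
    (hua : u • a = b) (hk : k ∈ stab2 a b) (hinv : u * k * u⁻¹ = k⁻¹) (hk1 : k ≠ 1) {x : G}
    {ℓ : ℕ} [Fact ℓ.Prime] (hx : IsPGroup ℓ (zpowers x)) (hxk : Commute x k) (hxa : x • a = a) :
    ∃ c : G ⧸ H, c ≠ a ∧ x • c = c := by
  by_contra hno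
  push Not at hno
  refine false_of_parity (Y := centralizer ({k} : Set G)) (a := a)
    (odd_centralizer h hab hu hua hk hinv hk1) hu ?_ ?_
    (x := x) (mem_centralizer_singleton_iff.2 hxk.eq) hx hxa
    (fun c hc => by_contra fun hne => hno c hne hc)
  · refine Coprime.mem_normalizer_of_conj_map_le fun y hy => mem_centralizer_singleton_iff.2 ?_
    have h1 : Commute y k := mem_centralizer_singleton_iff.1 hy
    have h2 := h1.inv_right.map (MulAut.conj u).toMonoidHom
    simp only [MulEquiv.coe_toMonoidHom, MulAut.conj_apply] at h2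
    have e : u * k⁻¹ * u⁻¹ = k := by
      calc u * k⁻¹ * u⁻¹ = (u * k * u⁻¹)⁻¹ := by group
        _ = k := by rw [hinv, inv_inv]
    rw [e] at h2
    exact h2.eq
  · intro y hy hfix
    have hky : Commute y k := mem_centralizer_singleton_iff.1 hy
    refine hk1 (h.rigid u k (y • a) a hu hfix hinv ?_ (mem_stab2.1 hk).1 fun e => hab ?_)
    · rw [smul_smul, ← hky.eq, mul_smul, (mem_stab2.1 hk).1]
    · rw [← hua]
      conv_rhs => rw [e, hfix, ← e]

omit h [Finite G] in
/-- A subgroup centralised by the swap and normalised by an inverted element is centralised by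
it. -/
theorem commute_inverted {J : Subgroup G} {u k : G} (hk : Odd (orderOf k))
    (hinv : u * k * u⁻¹ = k⁻¹) (huJ : ∀ j ∈ J, Commute u j) (hkJ : k ∈ normalizer (J : Set G))
    {j : G} (hj : j ∈ J) : Commute k j := by
  refine commute_of_sq hk ?_
  have h1 : u * (k * j * k⁻¹) * u⁻¹ = k * j * k⁻¹ := by
    rw [(huJ _ (BenderTransitive.conj_mem_of_mem_normalizer hkJ hj)).eq, mul_inv_cancel_right]
  have h2 : u * (k * j * k⁻¹) * u⁻¹ = k⁻¹ * j * k := by
    calc u * (k * j * k⁻¹) * u⁻¹ = (u * k * u⁻¹) * (u * j * u⁻¹) * (u * k * u⁻¹)⁻¹ := by group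
      _ = k⁻¹ * j * k := by rw [hinv, (huJ j hj).eq, mul_inv_cancel_right, inv_inv]
  have h3 : k * j * k⁻¹ = k⁻¹ * j * k := h1.symm.trans h2
  show k * k * j = j * (k * k)
  calc k * k * j = k * (k * j * k⁻¹) * k := by group
    _ = k * (k⁻¹ * j * k) * k := by rw [h3]
    _ = j * (k * k) := by group

/-- An inverted element of order `q` in an invariant Sylow subgroup, for `q` dividing `mult H`. -/
theorem exists_inverted {a b : G ⧸ H} (hab : a ≠ b) {u : G} (hu : orderOf u = 2)
    (hua : u • a = b) {q : ℕ} [hq : Fact q.Prime] (hdvd : q ∣ mult H) {P : Subgroup G}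
    (hP : P ≤ stab2 a b) (hPc : Nat.card P = q ^ (Nat.card (stab2 a b)).factorization q)
    (huP : u ∈ normalizer (P : Set G)) :
    ∃ k ∈ P, orderOf k = q ∧ u * k * u⁻¹ = k⁻¹ := by
  obtain ⟨g, hg, hgu⟩ : ∃ g ∈ P, ¬ Commute g u := by
    by_contra hall
    push Not at hall
    have h1 := relIndex_sylow_swap h.se hab hu hua hP hPc huP
    rw [relIndex_eq_one.2 fun x hx => mem_centralizer_singleton_iff.2 (hall x hx).eq, mpart] at h1
    have h2 := hq.out.factorization_pos_of_dvd (mult_pos h.se).ne' hdvd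
    exact (Nat.one_lt_pow h2.ne' hq.out.one_lt).ne h1
  set x := g⁻¹ * (u * g * u⁻¹) with hxdef
  have hx : x ∈ P := mul_mem (inv_mem hg) (BenderTransitive.conj_mem_of_mem_normalizer huP hg)
  have hx1 : x ≠ 1 := fun e => hgu (by
    have h1 := (inv_mul_eq_one.1 e).symm
    exact (mul_inv_eq_iff_eq_mul.1 h1).symm)
  have hxinv : u * x * u⁻¹ = x⁻¹ := by
    rw [hxdef, inv_eq hu, mul_inv_rev, mul_inv_rev, mul_inv_rev, inv_eq hu, inv_inv]
    calc u * (g⁻¹ * (u * g * u)) * u = u * g⁻¹ * u * g * (u * u) := by group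
      _ = _ := by rw [mul_self hu]; simp [mul_assoc]
  obtain ⟨j, hj⟩ := IsPGroup.iff_orderOf.1 (IsPGroup.of_card hPc) ⟨x, hx⟩
  rw [Subgroup.orderOf_mk] at hj
  rcases j with _ | j
  · exact absurd (orderOf_eq_one_iff.1 (by rw [hj, pow_zero])) hx1
  refine ⟨x ^ (q ^ j), pow_mem hx _, ?_, Dihedral.conj_pow hxinv _⟩
  rw [orderOf_pow' _ (pow_ne_zero _ hq.out.ne_zero), hj,
    Nat.gcd_eq_right (pow_dvd_pow q j.le_succ), pow_succ,
    Nat.mul_div_cancel_left _ (pow_pos hq.out.pos j)]

end Facts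

namespace Config

variable {a : G ⧸ H} {p : ℕ} {R : Subgroup G} (c : Config a p R)

include c

/-- `p` does not divide the number of involutions at a coset. -/
theorem not_dvd : ¬ p ∣ mult H := by
  haveI := Fact.mk c.prime
  intro hdvd
  obtain ⟨b, hb⟩ := exists_ne_coset c.min.se a
  obtain ⟨P, hP, hPc⟩ : ∃ P : Subgroup G, P ≤ stab2 a b ∧
      Nat.card P = p ^ (Nat.card (stab2 a b)).factorization p :=
    ⟨(default : Sylow p (stab2 a b)).1.map (stab2 a b).subtype, map_subtype_le _,
      by rw [Coprime.card_map_subtype, Sylow.card_eq_multiplicity]⟩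
  have hPa : P ≤ stabilizer G a := hP.trans inf_le_left
  obtain ⟨S, hS⟩ := Coprime.exists_sylow_map_eq hPa
    (card_sylow_stabilizer c.min hdvd hb.symm hP hPc)
  haveI : (R.subgroupOf (stabilizer G a)).Normal :=
    (normal_subgroupOf_iff_le_normalizer c.le).2 c.normal
  have hRS := (c.group.of_equiv (subgroupOfEquivOfLe c.le).symm).le_sylow_of_normal S
  refine c.ne (c.min.eq_bot_of_fixes hb c.normal c.le fun x hx => ?_)
  exact (hP (hS ▸ ⟨⟨x, c.le hx⟩, hRS (mem_subgroupOf.2 hx), rfl⟩ : x ∈ P)).2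

/-- The involutions at `a` centralise `R`. -/
theorem commute_involution {t : G} (ht : orderOf t = 2) (hta : t • a = a) {v : G} (hv : v ∈ R) :
    Commute t v := by
  haveI := Fact.mk c.prime
  let S := {t : G // orderOf t = 2 ∧ t • a = a}
  letI : MulAction R S :=
    { smul := fun g t => ⟨(g : G) * t * (g : G)⁻¹, (Dihedral.orderOf_conj _ _).trans t.2.1, by
        have hg := mem_stabilizer_iff.1 (c.le g.2)
        rw [mul_smul, mul_smul, inv_smul_eq_iff.2 hg.symm, t.2.2, hg]⟩
      one_smul := fun t => Subtype.ext (by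
        show ((1 : R) : G) * (t : G) * ((1 : R) : G)⁻¹ = t
        simp)
      mul_smul := fun g h t => Subtype.ext (by
        show ((g * h : R) : G) * (t : G) * ((g * h : R) : G)⁻¹ =
          (g : G) * ((h : G) * t * (h : G)⁻¹) * (g : G)⁻¹
        simp [mul_assoc]) }
  have hmod := c.group.card_modEq_card_fixedPoints S
  rw [card_involutions_fixing c.min.se a] at hmod
  obtain ⟨s, hs⟩ : (MulAction.fixedPoints R S).Nonempty := by
    by_contra he
    rw [Set.not_nonempty_iff_eq_empty] at he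
    rw [he, Nat.card_of_isEmpty, Nat.modEq_zero_iff_dvd] at hmod
    exact c.not_dvd hmod
  obtain ⟨b, hb⟩ := exists_ne_coset c.min.se a
  obtain ⟨d, hd, hdt⟩ := exists_conj_fixing c.min.se hb.symm s.2.1 s.2.2 ht hta
  have h1 : Commute (s : G) (d⁻¹ * v * d) := by
    have hm := BenderTransitive.conj_inv_mem_of_mem_normalizer
      (c.normal (mem_stabilizer_iff.2 (mem_stab2.1 hd).1)) hv
    have := congrArg Subtype.val (hs ⟨_, hm⟩)
    exact (mul_inv_eq_iff_eq_mul.1 this).symm
  have h2 := h1.map (MulAut.conj d).toMonoidHom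
  simp only [MulEquiv.coe_toMonoidHom, MulAut.conj_apply, hdt] at h2
  rwa [show d * (d⁻¹ * v * d) * d⁻¹ = v by group] at h2

theorem eq_one_of_fixes {v : G} (hv : v ∈ R) {b : G ⧸ H} (hvb : v • b = b) (hb : b ≠ a) :
    v = 1 := by
  haveI := Fact.mk c.prime
  by_contra hv1
  obtain ⟨u, hu, hua⟩ := exists_swap c.min.se hb.symm
  have huD := swap_mem_normalizer hu hua
  obtain ⟨P, hP, hPc, hPp, huP⟩ := exists_inv_sylow (p := p) hu (odd_stab2 c.min.se hb.symm) huD
  have hPu : P ≤ centralizer ({u} : Set G) := by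
    have h1 := relIndex_sylow_swap c.min.se hb.symm hu hua hP hPc huP
    rw [mpart, Nat.factorization_eq_zero_of_not_dvd c.not_dvd, pow_zero] at h1
    exact relIndex_eq_one.1 h1
  have hvD : v ∈ stab2 a b := mem_stab2.2 ⟨mem_stabilizer_iff.1 (c.le hv), hvb⟩
  have hvP : v ∈ P := by
    obtain ⟨S, hS⟩ := Coprime.exists_sylow_map_eq hP hPc
    have hle : R ⊓ stab2 a b ≤ stab2 a b := inf_le_right
    haveI : ((R ⊓ stab2 a b).subgroupOf (stab2 a b)).Normal :=
      (normal_subgroupOf_iff_le_normalizer hle).2 fun d hd =>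
        mem_normalizer_inf' (c.normal hd.1) (le_normalizer hd)
    have h1 := ((c.group.to_le (inf_le_left : R ⊓ stab2 a b ≤ R)).of_equiv
      (subgroupOfEquivOfLe hle).symm).le_sylow_of_normal S
    exact hS ▸ ⟨⟨v, hvD⟩, h1 (mem_subgroupOf.2 ⟨hv, hvD⟩), rfl⟩
  have huv : Commute v u := mem_centralizer_singleton_iff.1 (hPu hvP)
  obtain ⟨x, y, hx, hxa, hy, hya, hxy, hne⟩ := exists_four c.min.se c.min.comm a
  have hX : centralizer ({v} : Set G) ≠ ⊤ := fun e => hv1
    (smul_eq_of_normalCore_bot c.min.core fun d => by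
      obtain ⟨g, rfl⟩ := MulAction.exists_smul_eq G a d
      have : Commute g v := mem_centralizer_singleton_iff.1 (e ▸ mem_top g)
      rw [smul_smul, ← this.eq, mul_smul, mem_stabilizer_iff.1 (c.le hv)])
  have h1 := c.min.le_stabilizer_of_meets hX hx hxa hy hxy hne
    (mem_centralizer_singleton_iff.2 (c.commute_involution hx hxa hv).eq)
    (mem_centralizer_singleton_iff.2 (c.commute_involution hy hya hv).eq) c.ne_two c.group c.le
    c.normal (fun e => hv1 ((Subgroup.eq_bot_iff_forall _).1 e v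
      ⟨mem_centralizer_singleton_iff.2 rfl, hv⟩))
    (mem_centralizer_singleton_iff.2 huv.symm.eq : u ∈ centralizer ({v} : Set G))
  exact hb (hua.symm.trans h1)

/-- The centraliser of a nontrivial element of `R` fixes `a`. -/
theorem centralizer_le {v : G} (hv : v ∈ R) (hv1 : v ≠ 1) :
    centralizer ({v} : Set G) ≤ stabilizer G a := by
  intro g hg
  by_contra hga
  refine hv1 (c.eq_one_of_fixes hv (b := g • a) ?_ hga)
  rw [smul_smul, ← mem_centralizer_singleton_iff.1 hg, mul_smul, mem_stabilizer_iff.1 (c.le hv)]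

/-- An inverted element centralises no nontrivial element of `R`. -/
theorem eq_one_of_commute {b : G ⧸ H} (hb : a ≠ b) {u k : G} (hu : orderOf u = 2)
    (hua : u • a = b) (hk : k ∈ stab2 a b) (hinv : u * k * u⁻¹ = k⁻¹) (hk1 : k ≠ 1) {v : G}
    (hv : v ∈ R) (hkv : Commute v k) : v = 1 := by
  haveI := Fact.mk c.prime
  obtain ⟨e, he, hve⟩ := exists_other_fixed c.min hb hu hua hk hinv hk1
    (c.group.to_le (zpowers_le.2 hv)) hkv (mem_stabilizer_iff.1 (c.le hv))
  exact c.eq_one_of_fixes hv hve he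

end Config

end CfsgLib.LocalEven.StrongCore
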