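import Cfsg.Agent.Lib.LocalEven.StrongCore.CKernel
import Cfsg.Agent.Lib.LocalEven.StrongCore.Frobenius

/-!
# The group induced on the involutions at `a`

`G_a` acts on `E` with kernel `C`; the odd part of `C1` is a direct factor of `C1 S0`.  The order
of the centraliser of an involution follows.
-/

set_option autoImplicit false
set_option linter.style.haveILetI false

namespace CfsgLib.LocalEven.StrongCore

open Subgroup MulAction CfsgLib.Involution.Dihedral CfsgLib.Involution
  CfsgLib.LocalEven.BenderTransitive CfsgLib.LocalEven.SwapInjective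

universe u

variable {G : Type u} [Group G] [Finite G] {H : Subgroup G}

namespace Setting

variable {a b : G ⧸ H} {u : G} {p : ℕ} {R : Subgroup G} (s : Setting a b u p R)

include s

/-- The action of `G_a` on `E`. -/
def conjH (s : Setting a b u p R) : stabilizer G a →* MulAut s.E :=
  s.E.normalizerMonoidHom.comp (Subgroup.inclusion s.normalizer_E)

theorem conjH_apply (g : stabilizer G a) (e : s.E) :
    ((s.conjH g e : s.E) : G) = (g : G) * e * (g : G)⁻¹ := rfl

theorem conjH_eq_one {g : stabilizer G a} : s.conjH g = 1 ↔ (g : G) ∈ s.C0 := by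
  refine ⟨fun h => Subgroup.mem_inf.2 ⟨g.2, mem_centralizer_iff.2 fun e he => ?_⟩,
    fun h => MulEquiv.ext fun e => Subtype.ext ?_⟩
  · have h1 : (g : G) * e * (g : G)⁻¹ = e := by
      rw [← s.conjH_apply g ⟨e, he⟩, h]; rfl
    exact (mul_inv_eq_iff_eq_mul.1 h1).symm
  · rw [conjH_apply, ← mem_centralizer_iff.1 h.2 e e.2, mul_inv_cancel_right]
    rfl

/-- `G_a` is transitive on the involutions at `a`. -/
theorem exists_conjH_eq {x y : s.E} (hx : x ≠ 1) (hy : y ≠ 1) :
    ∃ f ∈ s.conjH.range, f x = y := by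
  have hne : ∀ z : s.E, z ≠ 1 → (z : G) ≠ 1 := fun z hz e => hz (Subtype.ext e)
  obtain ⟨k, hk, hkx⟩ := s.exists_K_conj (s.orderOf_of_mem_E x.2 (hne x hx)) x.2.1
    (s.orderOf_of_mem_E y.2 (hne y hy)) y.2.1
  exact ⟨_, ⟨⟨k, (s.K_le_D hk).1⟩, rfl⟩, Subtype.ext ((s.conjH_apply _ _).trans hkx)⟩

theorem centralizer_le_stabilizer {t : G} (ht : orderOf t = 2) (hta : t • a = a) :
    centralizer ({t} : Set G) ≤ stabilizer G a := fun _ hg =>
  mem_stabilizer_iff.2 (SE.commute_fixes s.min.se ht hta (mem_centralizer_singleton_iff.1 hg))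

theorem C0_le_centralizer {t : G} (ht : orderOf t = 2) (hta : t • a = a) :
    s.C0 ≤ centralizer ({t} : Set G) := fun _ hg => mem_centralizer_singleton_iff.2
  (mem_centralizer_iff.1 hg.2 t (s.mem_E_of_involution ht hta)).symm

/-- The index of `C` in the centraliser of an involution at `a`. -/
noncomputable def hIndex (s : Setting a b u p R) (t : G) : ℕ :=
  s.C0.relIndex (centralizer ({t} : Set G))

theorem hIndex_pos (t : G) : 0 < s.hIndex t := Nat.pos_of_ne_zero Subgroup.index_ne_zero_of_finite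

theorem card_centralizer {t : G} (ht : orderOf t = 2) (hta : t • a = a) :
    Nat.card (centralizer ({t} : Set G)) = s.hIndex t * Nat.card s.C0 := by
  rw [← Subgroup.index_mul_card (s.C0.subgroupOf (centralizer ({t} : Set G))),
    Nat.card_congr (subgroupOfEquivOfLe (s.C0_le_centralizer ht hta)).toEquiv]
  rfl

/-- `|G_a| = mult H · |C(t)|`. -/
theorem card_stabilizer {t : G} (ht : orderOf t = 2) (hta : t • a = a) :
    Nat.card (stabilizer G a) = mult H * Nat.card (centralizer ({t} : Set G)) := by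
  let S := {x : G // orderOf x = 2 ∧ x • a = a}
  letI : MulAction (stabilizer G a) S :=
    { smul := fun g x => ⟨(g : G) * x * (g : G)⁻¹, (Dihedral.orderOf_conj _ _).trans x.2.1, by
        have hg := mem_stabilizer_iff.1 g.2
        rw [mul_smul, mul_smul, inv_smul_eq_iff.2 hg.symm, x.2.2, hg]⟩
      one_smul := fun x => Subtype.ext (by
        show ((1 : stabilizer G a) : G) * (x : G) * ((1 : stabilizer G a) : G)⁻¹ = x
        simp)
      mul_smul := fun g k x => Subtype.ext (by
        show ((g * k : stabilizer G a) : G) * (x : G) * ((g * k : stabilizer G a) : G)⁻¹ =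
          (g : G) * ((k : G) * x * (k : G)⁻¹) * (g : G)⁻¹
        simp [mul_assoc]) }
  let t' : S := ⟨t, ht, hta⟩
  have horb : MulAction.orbit (stabilizer G a) t' = Set.univ := by
    refine Set.eq_univ_of_forall fun x => ?_
    obtain ⟨k, hk, hkx⟩ := s.exists_K_conj ht hta x.2.1 x.2.2
    exact ⟨⟨k, (s.K_le_D hk).1⟩, Subtype.ext hkx⟩
  have h := Subgroup.index_mul_card (MulAction.stabilizer (stabilizer G a) t')
  rw [MulAction.index_stabilizer, horb, Set.ncard_univ,
    card_involutions_fixing s.min.se a] at h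
  rw [← h]
  refine congrArg (mult H * ·) (Nat.card_congr
    { toFun := fun g => ⟨(g.1 : G), mem_centralizer_singleton_iff.2
        (mul_inv_eq_iff_eq_mul.1 (congrArg Subtype.val (MulAction.mem_stabilizer_iff.1 g.2) :
          (g.1 : G) * t * (g.1 : G)⁻¹ = t))⟩
      invFun := fun g => ⟨⟨g, s.centralizer_le_stabilizer ht hta g.2⟩, Subtype.ext (by
        show (g : G) * t * (g : G)⁻¹ = t
        rw [mem_centralizer_singleton_iff.1 g.2, mul_inv_cancel_right])⟩
      left_inv := fun _ => rfl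
      right_inv := fun _ => rfl })

/-- The image of the centraliser of `t` in the automorphisms of `E`. -/
theorem exists_fixing {t : G} (ht : orderOf t = 2) (hta : t • a = a) :
    ∃ B ≤ s.conjH.range, Nat.card B = s.hIndex t ∧
      ∀ f ∈ B, f ⟨t, s.mem_E_of_involution ht hta⟩ = ⟨t, s.mem_E_of_involution ht hta⟩ := by
  set φ := s.conjH.comp (Subgroup.inclusion (s.centralizer_le_stabilizer ht hta)) with hφ
  refine ⟨φ.range, ?_, ?_, ?_⟩
  · rintro _ ⟨g, rfl⟩
    exact ⟨_, rfl⟩
  · rw [← Subgroup.index_ker]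
    congr 1
    ext g
    rw [MonoidHom.mem_ker, mem_subgroupOf]
    exact s.conjH_eq_one
  · rintro _ ⟨g, rfl⟩
    refine Subtype.ext ?_
    change (g : G) * t * (g : G)⁻¹ = t
    rw [mem_centralizer_singleton_iff.1 g.2, mul_inv_cancel_right]

/-- The odd part of `C1`. -/
theorem exists_oddPart : ∃ O1 : Subgroup G, O1 ≤ s.C0 ∧ Odd (Nat.card O1) ∧
    stabilizer G a ≤ normalizer (O1 : Set G) ∧
    Nat.card s.C0 = s.jIndex * (Nat.card s.S0 * Nat.card O1) := by
  haveI := Fact.mk Nat.prime_two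
  set U := s.C1 ⊓ s.S0 with hU
  have hUc : Nat.card U = 2 ^ (Nat.card s.C1).factorization 2 := by
    let T : Sylow 2 s.C1 := default
    have hle : (T : Subgroup s.C1).map s.C1.subtype ≤ U := by
      rintro _ ⟨x, hx, rfl⟩
      obtain ⟨i, hi⟩ := T.isPGroup' ⟨x, hx⟩
      exact ⟨x.2, s.mem_S0_of_C0 (s.C1_le_C0 x.2)
        (congrArg (fun y : (T : Subgroup s.C1) => ((y : s.C1) : G)) hi :)⟩
    obtain ⟨n, hn⟩ := (s.isPGroup_S0.to_le (inf_le_right : U ≤ s.S0)).exists_card_eq
    refine le_antisymm ?_ ?_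
    · rw [hn]
      refine Nat.pow_le_pow_right two_pos
        ((Nat.prime_two.pow_dvd_iff_le_factorization Nat.card_pos.ne').1 ?_)
      rw [← hn]
      exact Subgroup.card_dvd_of_le inf_le_left
    · rw [← T.card_eq_multiplicity, ← Coprime.card_map_subtype (T : Subgroup s.C1)]
      exact Subgroup.card_le_of_le hle
  obtain ⟨O1, hO1, -, hodd, hmem⟩ := exists_complement (inf_le_left : U ≤ s.C1) hUc fun x hx =>
    centralizer_le (inf_le_right : U ≤ s.S0) (hx.1 : x ∈ s.C1).2
  have hiff := @mem_iff_of_complement G _ 2 _ s.C1 O1 hO1 hodd hmem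
  have hOodd : Odd (Nat.card O1) := Nat.not_even_iff_odd.1 fun h => hodd h.two_dvd
  have hnorm : stabilizer G a ≤ normalizer (O1 : Set G) := fun g hg =>
    Coprime.mem_normalizer_of_conj_map_le fun x hx => by
      obtain ⟨hxC, hxo⟩ := hiff.1 hx
      exact hiff.2 ⟨BenderTransitive.conj_mem_of_mem_normalizer (s.normalizer_C1 hg) hxC, by
        rwa [Dihedral.orderOf_conj]⟩
  refine ⟨O1, hO1.trans s.C1_le_C0, hOodd, hnorm, ?_⟩
  have hsup : s.C1 ⊔ s.S0 = s.S0 ⊔ O1 := by
    refine le_antisymm (sup_le ?_ le_sup_left) (sup_le le_sup_right (hO1.trans le_sup_left))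
    refine le_of_primePow_mem fun ℓ hℓ z hz hzp => ?_
    haveI := Fact.mk hℓ
    obtain ⟨i, hi⟩ := hzp.exists_card_eq
    rw [Nat.card_zpowers] at hi
    by_cases h2 : ℓ = 2
    · subst h2
      exact mem_sup_left (s.mem_S0_of_C0 (s.C1_le_C0 hz) (hi ▸ pow_orderOf_eq_one z))
    · exact mem_sup_right (hmem z hz
        (hi ▸ ((Nat.coprime_primes hℓ Nat.prime_two).2 h2).pow_left i))
  have hcop : (Nat.card O1).Coprime (Nat.card s.S0) := s.coprime_S0_of_odd hOodd
  have hdisj : s.S0 ⊓ O1 = ⊥ := inf_eq_bot_of_coprime hcop.symm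
  have hcard : Nat.card (s.C1 ⊔ s.S0 : Subgroup G) = Nat.card s.S0 * Nat.card O1 := by
    rw [hsup]
    have hn : O1 ≤ normalizer (s.S0 : Set G) :=
      hO1.trans (inf_le_left.trans s.normalizer_S0)
    haveI : (s.S0.subgroupOf (s.S0 ⊔ O1)).Normal :=
      (normal_subgroupOf_iff_le_normalizer le_sup_left).2 (sup_le le_normalizer hn)
    have h := Solvable.Basic.card_sup_mul (s.S0.subgroupOf (s.S0 ⊔ O1))
      (O1.subgroupOf (s.S0 ⊔ O1))
    rw [← Subgroup.subgroupOf_sup le_sup_right le_sup_left, sup_comm O1, subgroupOf_self,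
      Subgroup.card_top,
      show (s.S0.subgroupOf (s.S0 ⊔ O1)) ⊓ (O1.subgroupOf (s.S0 ⊔ O1)) =
        (s.S0 ⊓ O1).subgroupOf (s.S0 ⊔ O1) from (Subgroup.comap_inf _ _ _).symm,
      Nat.card_congr (subgroupOfEquivOfLe le_sup_left).toEquiv,
      Nat.card_congr (subgroupOfEquivOfLe le_sup_right).toEquiv] at h
    rw [hdisj, bot_subgroupOf, Subgroup.card_bot, mul_one] at h
    rw [h, mul_comm]
  rw [← hcard, jIndex, ← Subgroup.index_mul_card ((s.C1 ⊔ s.S0).subgroupOf s.C0),
    Nat.card_congr (subgroupOfEquivOfLe (sup_le s.C1_le_C0 s.S0_le_C0)).toEquiv]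
  rfl

end Setting

end CfsgLib.LocalEven.StrongCore
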