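import Cfsg.Agent.Lib.LocalEvenB.OddTransitive.Semilinear
import Cfsg.Agent.Lib.OddOrder.Final.Main

/-!
# Groups of automorphisms of odd order transitive on an elementary abelian `2`-group

Elements of prime order without fixed points lie in the Fitting subgroup, which is cyclic and
fixed-point-free; stabilisers are cyclic.
-/

set_option autoImplicit false
set_option linter.style.haveILetI false

namespace CfsgLib.LocalEven.StrongCore

open Subgroup CfsgLib.LocalEvenB.OddTransitive

universe u v

section Semilinear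

variable {D : Type u} {E : Type v} [Group D] [Finite D] [AddCommGroup E] [Finite E]
  [DistribMulAction D E] [FaithfulSMul D E] {q : ℕ}

/-- An element of prime order without fixed vectors lies in the Fitting subgroup. -/
theorem mem_fitting_of_fpf (hodd : Odd (Nat.card D)) (hsolv : Group.IsSolvable D) (hq : q.Prime)
    (hE : ∀ e : E, q • e = 0) (htrans : PMTransitive D E) {a : E} (ha : a ≠ 0) {g : D} {ℓ : ℕ}
    (hℓ : ℓ.Prime) (hg : orderOf g = ℓ) (hfpf : ∀ x : E, g • x = x → x = 0) :
    g ∈ Cfsg.fittingSubgroup D := by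
  classical
  obtain ⟨-, R, hR, ψ, hψa, hsemi⟩ := exists_semilinear hodd hsolv hq hE htrans ha
  letI := hR.toField
  let Lin : Subgroup D :=
    { carrier := {d | ∃ u : Rˣ, ∀ x, ψ (d • x) = (u : R) * ψ x}
      one_mem' := ⟨1, fun x => by rw [one_smul, Units.val_one, one_mul]⟩
      mul_mem' := by
        rintro d e ⟨u, hu⟩ ⟨w, hw⟩
        exact ⟨u * w, fun x => by rw [mul_smul, hu, hw, Units.val_mul, mul_assoc]⟩
      inv_mem' := by
        rintro d ⟨u, hu⟩
        refine ⟨u⁻¹, fun x => ?_⟩
        have h := hu (d⁻¹ • x)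
        rw [smul_inv_smul] at h
        rw [h, ← mul_assoc, Units.inv_mul, one_mul] }
  have hLn : Lin.Normal := ⟨fun l ⟨w, hw⟩ d => by
    obtain ⟨u, σ, hσ⟩ := hsemi d
    refine ⟨Units.map (σ : R →* R) w, fun x => ?_⟩
    have h1 : ψ x = u * σ (ψ (d⁻¹ • x)) := by rw [← hσ, smul_inv_smul]
    rw [mul_smul, mul_smul, hσ, hw, map_mul, h1]
    change (u : R) * (σ (w : R) * σ (ψ (d⁻¹ • x))) = σ (w : R) * (u * σ (ψ (d⁻¹ • x)))
    exact mul_left_comm _ _ _⟩
  haveI : IsMulCommutative Lin := ⟨⟨fun l m => by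
    obtain ⟨u, hu⟩ := l.2
    obtain ⟨w, hw⟩ := m.2
    refine Subtype.ext (eq_of_smul_eq_smul (α := E) fun x => ψ.injective ?_)
    rw [Subgroup.coe_mul, Subgroup.coe_mul, mul_smul, mul_smul, hu, hw, hw, hu]
    exact mul_left_comm _ _ _⟩⟩
  haveI : Group.IsNilpotent Lin := by
    letI : CommGroup Lin := { (inferInstance : Group Lin) with mul_comm := fun x y => mul_comm' x y }
    exact CommGroup.isNilpotent
  haveI := hLn
  refine CfsgLib.Solvable.Cores.le_fittingSubgroup (N := Lin) inferInstance ?_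
  obtain ⟨u, σ, hσ⟩ := hsemi g
  by_cases hσ1 : σ = 1
  · exact ⟨u, fun x => by rw [hσ, hσ1]; rfl⟩
  exfalso
  have hiter : ∀ i : ℕ, ∃ c : Rˣ, ∀ x, ψ (g ^ i • x) = (c : R) * (σ ^ i) (ψ x) := by
    intro i
    induction i with
    | zero => exact ⟨1, fun x => by rw [pow_zero, one_smul, Units.val_one, one_mul, pow_zero]; rfl⟩
    | succ i ih =>
      obtain ⟨c, hc⟩ := ih
      refine ⟨u * Units.map (σ : R →* R) c, fun x => ?_⟩
      rw [pow_succ', mul_smul, hσ, hc, map_mul, pow_succ', Units.val_mul, ← mul_assoc]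
      rfl
  choose c hc using hiter
  have hσℓ : σ ^ ℓ = 1 := by
    have h0 : ∀ x, ψ x = (c ℓ : R) * (σ ^ ℓ) (ψ x) := fun x => by
      rw [← hc, ← hg, pow_orderOf_eq_one, one_smul]
    have h1 : (c ℓ : R) = 1 := by
      have := h0 (ψ.symm 1)
      rwa [ψ.apply_symm_apply, map_one, mul_one, eq_comm] at this
    ext r
    have := h0 (ψ.symm r)
    rw [ψ.apply_symm_apply, h1, one_mul] at this
    rw [← this]; rfl
  have hord : orderOf σ = ℓ := by
    haveI := Fact.mk hℓ
    exact orderOf_eq_prime hσℓ hσ1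
  -- the orbit sums vanish
  have hsum : ∀ r : R, ∑ i ∈ Finset.range ℓ, (c i : R) * (σ ^ i) r = 0 := by
    intro r
    set y := ∑ i ∈ Finset.range ℓ, g ^ i • ψ.symm r with hy
    have hgy : g • y = y := by
      rw [hy, Finset.smul_sum]
      simp only [smul_smul, ← pow_succ']
      have h1 := Finset.sum_range_succ' (fun i => g ^ i • ψ.symm r) ℓ
      rw [Finset.sum_range_succ, ← hg, pow_orderOf_eq_one, pow_zero, hg] at h1
      exact add_right_cancel h1.symm
    have h2 := congrArg ψ (hfpf y hgy)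
    rw [hy, map_sum, map_zero] at h2
    simpa only [hc, ψ.apply_symm_apply] using h2
  have hli := (linearIndependent_monoidHom R R).comp
    (fun i : Fin ℓ => ((σ ^ (i : ℕ) : R ≃+* R) : R →* R)) ?_
  · rw [Fintype.linearIndependent_iff] at hli
    have := hli (fun i => (c i : R)) ?_ ⟨0, hℓ.pos⟩
    · exact (c 0).ne_zero this
    · funext r
      rw [Finset.sum_apply, Pi.zero_apply]
      exact (Fin.sum_univ_eq_sum_range (fun i => (c i : R) * (σ ^ i) r) ℓ).trans (hsum r)
  · intro i j hij
    have h : σ ^ (i : ℕ) = σ ^ (j : ℕ) := RingEquiv.ext fun r => DFunLike.congr_fun hij r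
    have h' := pow_inj_mod.1 h
    rw [hord, Nat.mod_eq_of_lt i.2, Nat.mod_eq_of_lt j.2] at h'
    exact Fin.ext h'

end Semilinear

section Automorphisms

variable {M : Type v} [Group M] [Finite M]

/-- A group of automorphisms of odd order, transitive on the nontrivial elements of a group of
exponent two. -/
structure OddTrans (A : Subgroup (MulAut M)) : Prop where
  odd : Odd (Nat.card A)
  sq : ∀ x : M, x * x = 1
  trans : ∀ x y : M, x ≠ 1 → y ≠ 1 → ∃ f ∈ A, f x = y
  nontriv : Nontrivial M

namespace OddTrans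

variable {A : Subgroup (MulAut M)} (hA : OddTrans A)

include hA

/-- The Fitting subgroup is cyclic and fixed-point-free and contains the elements of prime order
without fixed points and the commutators; stabilisers are cyclic. -/
theorem facts :
    IsCyclic (Cfsg.fittingSubgroup A) ∧
      (∀ f ∈ Cfsg.fittingSubgroup A, f ≠ 1 → ∀ x : M, (f : MulAut M) x = x → x = 1) ∧
      commutator A ≤ Cfsg.fittingSubgroup A ∧
      Subgroup.centralizer (Cfsg.fittingSubgroup A : Set A) ≤ Cfsg.fittingSubgroup A ∧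
      (∀ (f : A) (ℓ : ℕ), ℓ.Prime → orderOf f = ℓ → (∀ x : M, (f : MulAut M) x = x → x = 1) →
        f ∈ Cfsg.fittingSubgroup A) ∧
      ∀ (x : M) (B : Subgroup A), x ≠ 1 → (∀ f ∈ B, (f : MulAut M) x = x) → IsCyclic B := by
  letI : CommGroup M :=
    { (inferInstance : Group M) with
      mul_comm := fun x y => by
        have hinv : ∀ z : M, z⁻¹ = z := fun z => inv_eq_of_mul_eq_one_right (hA.sq z)
        calc x * y = (x * y)⁻¹ := (hinv _).symm
          _ = y * x := by rw [mul_inv_rev, hinv, hinv] }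
  haveI := hA.nontriv
  haveI : Finite (Additive M) := inferInstanceAs (Finite M)
  letI : DistribMulAction A (Additive M) :=
    { smul := fun f x => Additive.ofMul ((f : MulAut M) x.toMul)
      one_smul := fun _ => rfl
      mul_smul := fun _ _ _ => rfl
      smul_zero := fun f => congrArg Additive.ofMul (map_one (f : MulAut M))
      smul_add := fun f x y => congrArg Additive.ofMul (map_mul (f : MulAut M) x.toMul y.toMul) }
  haveI : FaithfulSMul A (Additive M) :=
    ⟨fun h => Subtype.ext (MulEquiv.ext fun x => congrArg Additive.toMul (h (Additive.ofMul x)))⟩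
  have hE : ∀ e : Additive M, 2 • e = 0 := fun e => by
    rw [two_nsmul]; exact congrArg Additive.ofMul (hA.sq e.toMul)
  have hsolv : Group.IsSolvable A := CfsgLib.OddOrder.Final.oddSolvable A hA.odd
  have htr : PMTransitive A (Additive M) := PMTransitive.of_transitive fun x y hx hy => by
    obtain ⟨f, hf, e⟩ := hA.trans x.toMul y.toMul
      (fun h => hx (congrArg Additive.ofMul h)) (fun h => hy (congrArg Additive.ofMul h))
    exact ⟨⟨f, hf⟩, congrArg Additive.ofMul e⟩
  obtain ⟨hcyc, hfpf, hcom⟩ := main hA.odd hsolv Nat.prime_two hE htr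
  obtain ⟨m, hm⟩ := exists_ne (1 : M)
  have ha : Additive.ofMul m ≠ 0 := fun h => hm (congrArg Additive.toMul h)
  haveI := hsolv
  refine ⟨hcyc, fun f hf hf1 x hx => congrArg Additive.toMul
    (hfpf f hf hf1 (Additive.ofMul x) (congrArg Additive.ofMul hx)), hcom,
    CfsgLib.Solvable.Cores.centralizer_fittingSubgroup_le, fun f ℓ hℓ hfo hfix =>
    mem_fitting_of_fpf hA.odd hsolv Nat.prime_two hE htr ha hℓ hfo fun x hx =>
      congrArg Additive.ofMul (hfix x.toMul (congrArg Additive.toMul hx)), fun x B hx hB => ?_⟩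
  haveI := (exists_semilinear hA.odd hsolv Nat.prime_two hE htr (a := Additive.ofMul x)
    fun h => hx (congrArg Additive.toMul h)).1
  have hle : B ≤ MulAction.stabilizer A (Additive.ofMul x) := fun f hf =>
    MulAction.mem_stabilizer_iff.2 (congrArg Additive.ofMul (hB f hf))
  exact isCyclic_of_injective (f := Subgroup.inclusion hle) (Subgroup.inclusion_injective _)

theorem isCyclic_fitting : IsCyclic (Cfsg.fittingSubgroup A) := hA.facts.1

theorem eq_one_of_fix {f : A} (hf : f ∈ Cfsg.fittingSubgroup A) (hf1 : f ≠ 1) {x : M}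
    (hx : (f : MulAut M) x = x) : x = 1 := hA.facts.2.1 f hf hf1 x hx

theorem commutator_le : commutator A ≤ Cfsg.fittingSubgroup A := hA.facts.2.2.1

theorem centralizer_le : Subgroup.centralizer (Cfsg.fittingSubgroup A : Set A) ≤
    Cfsg.fittingSubgroup A := hA.facts.2.2.2.1

theorem mem_fitting {f : A} {ℓ : ℕ} (hℓ : ℓ.Prime) (hfo : orderOf f = ℓ)
    (hfix : ∀ x : M, (f : MulAut M) x = x → x = 1) : f ∈ Cfsg.fittingSubgroup A :=
  hA.facts.2.2.2.2.1 f ℓ hℓ hfo hfix

theorem isCyclic_of_fix {x : M} (hx : x ≠ 1) {B : Subgroup A}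
    (hB : ∀ f ∈ B, (f : MulAut M) x = x) : IsCyclic B := hA.facts.2.2.2.2.2 x B hx hB

/-- A nontrivial normal subgroup meets the Fitting subgroup. -/
theorem inf_fitting_ne_bot {N : Subgroup A} [hN : N.Normal] (h : N ≠ ⊥) :
    N ⊓ Cfsg.fittingSubgroup A ≠ ⊥ := by
  intro hbot
  haveI : (Cfsg.fittingSubgroup A).Normal := CfsgLib.Solvable.Cores.fittingSubgroup_normal
  have hle : N ≤ Subgroup.centralizer (Cfsg.fittingSubgroup A : Set A) := fun n hn =>
    mem_centralizer_iff.2 fun f hf =>
      (Subgroup.commute_of_normal_of_disjoint N (Cfsg.fittingSubgroup A) hN inferInstance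
        (disjoint_iff.2 hbot) n f hn hf).symm.eq
  refine h (le_bot_iff.1 ?_)
  rw [← hbot]
  exact le_inf le_rfl (hle.trans hA.centralizer_le)

end OddTrans

end Automorphisms

end CfsgLib.LocalEven.StrongCore
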