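import Cfsg.Agent.Lib.LocalEven.StrongCore.TwoCore
import Cfsg.Agent.Lib.LocalEven.StrongCore.Semilinear

/-!
# The kernel of the action of `D` on the involutions at `a`

A subgroup of `D` normal in a Sylow subgroup and centralised by the swap is centralised by an
involution at `a`.  Hence the kernel of the action of `D` on `E` is centralised by the swap.
-/

set_option autoImplicit false
set_option linter.style.haveILetI false

namespace CfsgLib.LocalEven.StrongCore

open Subgroup MulAction CfsgLib.Involution.Dihedral CfsgLib.Involution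
  CfsgLib.LocalEven.BenderTransitive CfsgLib.LocalEven.SwapInjective

universe u

variable {G : Type u} [Group G] [Finite G] {H : Subgroup G}

/-- A `q`-subgroup fixing a coset centralises a number of its involutions congruent to `mult H`
modulo `q`. -/
theorem card_centralized_subgroup_modEq (hH : Cfsg.IsStronglyEmbedded H) {q : ℕ} [Fact q.Prime]
    {V : Subgroup G} (hV : IsPGroup q V) {a : G ⧸ H} (hVa : V ≤ stabilizer G a) :
    Nat.card {t : G // orderOf t = 2 ∧ t • a = a ∧ ∀ x ∈ V, Commute t x} ≡ mult H [MOD q] := by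
  rw [← card_involutions_fixing hH a]
  let S := {t : G // orderOf t = 2 ∧ t • a = a}
  let inst : MulAction V S :=
    { smul := fun g t => ⟨(g : G) * t * (g : G)⁻¹, (Dihedral.orderOf_conj _ _).trans t.2.1, by
        have hg : (g : G) • a = a := mem_stabilizer_iff.1 (hVa g.2)
        rw [mul_smul, mul_smul, inv_smul_eq_iff.2 hg.symm, t.2.2, hg]⟩
      one_smul := fun t => Subtype.ext (by
        show ((1 : V) : G) * (t : G) * ((1 : V) : G)⁻¹ = t
        simp)
      mul_smul := fun g h t => Subtype.ext (by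
        show ((g * h : V) : G) * (t : G) * ((g * h : V) : G)⁻¹ =
          (g : G) * ((h : G) * t * (h : G)⁻¹) * (g : G)⁻¹
        simp [mul_assoc]) }
  letI := inst
  refine Nat.ModEq.trans ?_ (hV.card_modEq_card_fixedPoints S).symm
  refine congrArg (· % q) (Nat.card_congr
    { toFun := fun t => ⟨⟨t.1, t.2.1, t.2.2.1⟩, fun g => Subtype.ext (by
        show (g : G) * t.1 * (g : G)⁻¹ = t.1
        rw [← (t.2.2.2 g g.2).eq, mul_inv_cancel_right])⟩
      invFun := fun t => ⟨t.1.1, t.1.2.1, t.1.2.2, fun x hx => by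
        have h : x * t.1.1 * x⁻¹ = t.1.1 := congrArg Subtype.val (t.2 ⟨x, hx⟩)
        exact (mul_inv_eq_iff_eq_mul.1 h).symm⟩
      left_inv := fun _ => rfl
      right_inv := fun _ => rfl })

/-- An element of `q`-power order commutes with a normal cyclic subgroup of order `q`. -/
theorem commute_of_qgroup_cyclic {A : Type*} [Group A] [Finite A] {q : ℕ} [hq : Fact q.Prime]
    {F : Subgroup A} [hFn : F.Normal] [IsCyclic F] {z : A} (hz : z ∈ F) (hzo : orderOf z = q)
    {g : A} {j : ℕ} (hg : g ^ q ^ j = 1) : Commute g z := by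
  obtain ⟨m, hm⟩ := MonoidHom.map_cyclic ((MulAut.conjNormal (H := F) g).toMonoidHom)
  have h1 : g * z * g⁻¹ = z ^ m := congrArg Subtype.val (hm ⟨z, hz⟩)
  have hit : ∀ i : ℕ, g ^ i * z * (g ^ i)⁻¹ = z ^ (m ^ i) := by
    intro i
    induction i with
    | zero => simp
    | succ i ih =>
      calc g ^ (i + 1) * z * (g ^ (i + 1))⁻¹ = g * (g ^ i * z * (g ^ i)⁻¹) * g⁻¹ := by
            rw [pow_succ']; group
        _ = (g * z * g⁻¹) ^ (m ^ i) := by rw [ih, _root_.conj_zpow]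
        _ = z ^ (m ^ (i + 1)) := by rw [h1, ← zpow_mul, pow_succ']
  have h2 := hit (q ^ j)
  rw [hg, one_mul, inv_one, mul_one] at h2
  have h3 : ((m ^ q ^ j : ℤ) : ZMod q) = ((1 : ℤ) : ZMod q) := by
    rw [ZMod.intCast_eq_intCast_iff_dvd_sub]
    have h : (orderOf z : ℤ) ∣ 1 - m ^ q ^ j :=
      orderOf_dvd_iff_zpow_eq_one.2 (by rw [zpow_sub, zpow_one, ← h2, mul_inv_cancel])
    rwa [hzo] at h
  have h4 : ∀ i : ℕ, ((m : ZMod q)) ^ q ^ i = (m : ZMod q) := fun i => by
    induction i with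
    | zero => simp
    | succ i ih => rw [pow_succ, pow_mul, ih, ZMod.pow_card]
  rw [Int.cast_pow, Int.cast_one, h4] at h3
  have h5 : z ^ m = z ^ (1 : ℤ) := by
    rw [zpow_eq_zpow_iff_modEq, hzo, ← ZMod.intCast_eq_intCast_iff, Int.cast_one, h3]
  rw [h5, zpow_one] at h1
  exact mul_inv_eq_iff_eq_mul.1 h1

namespace Setting

variable {a b : G ⧸ H} {u : G} {p : ℕ} {R : Subgroup G} (s : Setting a b u p R)

include s

/-- Involutions fixing the same coset commute. -/
theorem commute_of_fixes {c : G ⧸ H} {v w : G} (hv : orderOf v = 2) (hvc : v • c = c)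
    (hw : orderOf w = 2) (hwc : w • c = c) : Commute v w := by
  obtain ⟨g, hg⟩ := MulAction.exists_smul_eq G c a
  have hgi : g⁻¹ • a = c := by rw [← hg, inv_smul_smul]
  have h := s.commute_S0 ((Dihedral.orderOf_conj g v).trans hv)
    (by rw [mul_smul, mul_smul, hgi, hvc, hg]) (g := g * w * g⁻¹)
    (s.mem_S0_of_involution ((Dihedral.orderOf_conj g w).trans hw)
      (by rw [mul_smul, mul_smul, hgi, hwc, hg]))
  have h2 := h.map (MulAut.conj g⁻¹).toMonoidHom
  simp only [MulEquiv.coe_toMonoidHom, MulAut.conj_apply] at h2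
  rwa [show g⁻¹ * (g * v * g⁻¹) * g⁻¹⁻¹ = v by group,
    show g⁻¹ * (g * w * g⁻¹) * g⁻¹⁻¹ = w by group] at h2

/-- A subgroup of `D` centralised by the swap and normal in a Sylow subgroup for a prime dividing
`mult H` is centralised by an involution at `a`. -/
theorem exists_centralizing_involution {q : ℕ} [hq : Fact q.Prime] (hqd : q ∣ mult H)
    {P : Subgroup G} (hP : P ≤ stab2 a b)
    (hPc : Nat.card P = q ^ (Nat.card (stab2 a b)).factorization q)
    (huP : u ∈ normalizer (P : Set G)) {V : Subgroup G} (hVP : V ≤ P)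
    (hPV : P ≤ normalizer (V : Set G)) (huV : ∀ x ∈ V, Commute u x) :
    ∃ t : G, orderOf t = 2 ∧ t • a = a ∧ ∀ x ∈ V, Commute t x := by
  classical
  have hPp : IsPGroup q P := IsPGroup.of_card hPc
  obtain ⟨δ, hδ⟩ := SE.exists_fixed s.min.se s.inv
  set X := normalizer (V : Set G) with hX
  have huX : u ∈ X := Coprime.mem_normalizer_of_conj_map_le fun x hx => by
    rw [(huV x hx).eq, mul_inv_cancel_right]
    exact hx
  have hδa : δ ≠ a := fun e => s.u_ne (e ▸ hδ)
  have hVδ : V ≤ stabilizer G δ := fun x hx =>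
    mem_stabilizer_iff.2 (SE.commute_fixes s.min.se s.inv hδ (huV x hx).symm)
  have hVδa : V ≤ stab2 δ a := le_inf hVδ (hVP.trans (hP.trans inf_le_left))
  have hdvd : q ∣ Nat.card {t : G // orderOf t = 2 ∧ t ∈ X ∧ t • δ = δ} := by
    have e : Nat.card {t : G // orderOf t = 2 ∧ t ∈ X ∧ t • δ = δ} =
        Nat.card {t : G // orderOf t = 2 ∧ t • δ = δ ∧ ∀ x ∈ V, Commute t x} := by
      refine Nat.card_congr (Equiv.subtypeEquivRight fun t => ⟨fun ⟨ht, htX, htδ⟩ => ⟨ht, htδ,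
        fun x hx => (s.min.rigid.commute hδa.symm ht htδ hVδa htX hx).symm⟩,
        fun ⟨ht, htδ, htV⟩ => ⟨ht, ?_, htδ⟩⟩)
      refine Coprime.mem_normalizer_of_conj_map_le fun x hx => ?_
      rw [(htV x hx).eq, mul_inv_cancel_right]
      exact hx
    rw [e]
    exact Nat.modEq_zero_iff_dvd.1 ((card_centralized_subgroup_modEq s.min.se (hPp.to_le hVP)
      hVδ).trans (Nat.modEq_zero_iff_dvd.2 hqd))
  obtain ⟨w, hw, hwX, hwδ, hwu⟩ : ∃ w, orderOf w = 2 ∧ w ∈ X ∧ w • δ = δ ∧ w ≠ u := by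
    by_contra hno
    push Not at hno
    have h1 : Nat.card {t : G // orderOf t = 2 ∧ t ∈ X ∧ t • δ = δ} = 1 :=
      Nat.card_eq_one_iff_unique.2 ⟨⟨fun x y => Subtype.ext
        ((hno x x.2.1 x.2.2.1 x.2.2.2).trans (hno y y.2.1 y.2.2.1 y.2.2.2).symm)⟩,
        ⟨⟨u, s.inv, huX, hδ⟩⟩⟩
    exact hq.out.not_dvd_one (h1 ▸ hdvd)
  obtain ⟨k, hkP, hko, hkinv⟩ := exists_inverted s.min s.hab s.inv s.swap hqd hP hPc huP
  have hkδ : k • δ ≠ δ := fun e => hq.out.ne_one <| by
    rw [← hko, s.min.rigid u k δ a s.inv hδ hkinv e (mem_stab2.1 (hP hkP)).1 hδa.symm, orderOf_one]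
  obtain ⟨x, hx, y, hy, hxy, hPx, hPy⟩ := exists_two_fixed s.min.se s.min.rigid s.inv huX hδ hw hwX
    (s.commute_of_fixes s.inv hδ hw hwδ) hwu.symm hdvd (dvd_mult_ne_two s.min hqd) (hPV hkP) hkδ
    hPp hPV
  obtain ⟨e, he, hea⟩ : ∃ e ∈ X, e • δ = a := by
    rcases fixed_pair' s.min hqd s.hab hP hPc hPx with e | e
    · exact ⟨x, hx, e⟩
    · rcases fixed_pair' s.min hqd s.hab hP hPc hPy with e' | e'
      · exact ⟨y, hy, e'⟩
      · exact absurd (e.trans e'.symm) hxy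
  refine ⟨e * u * e⁻¹, (Dihedral.orderOf_conj e u).trans s.inv, ?_, fun z hz => ?_⟩
  · rw [← hea, smul_smul, inv_mul_cancel_right, mul_smul, hδ]
  · refine (s.min.rigid.commute s.hab.symm ((Dihedral.orderOf_conj e u).trans s.inv) ?_
      (hVP.trans hP) (mul_mem (mul_mem he huX) (inv_mem he)) hz).symm
    rw [← hea, smul_smul, inv_mul_cancel_right, mul_smul, hδ]

/-- The kernel of the action of `D` on `E`. -/
def W0 (s : Setting a b u p R) : Subgroup G := stab2 a b ⊓ centralizer (s.E : Set G)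

theorem W0_le_D : s.W0 ≤ stab2 a b := inf_le_left

theorem commute_W0_E {x e : G} (hx : x ∈ s.W0) (he : e ∈ s.E) : Commute x e :=
  (mem_centralizer_iff.1 hx.2 e he).symm

theorem D_le_normalizer_W0 : stab2 a b ≤ normalizer (s.W0 : Set G) := fun d hd =>
  mem_normalizer_inf' (le_normalizer hd) (mem_normalizer_centralizer (s.normalizer_E hd.1))

/-- The action of `D` on `E`. -/
def conjE (s : Setting a b u p R) : stab2 a b →* MulAut s.E :=
  s.E.normalizerMonoidHom.comp (Subgroup.inclusion (inf_le_left.trans s.normalizer_E))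

theorem conjE_apply (d : stab2 a b) (e : s.E) :
    ((s.conjE d e : s.E) : G) = (d : G) * e * (d : G)⁻¹ := rfl

theorem conjE_eq_one {d : stab2 a b} : s.conjE d = 1 ↔ (d : G) ∈ s.W0 := by
  refine ⟨fun h => Subgroup.mem_inf.2 ⟨d.2, mem_centralizer_iff.2 fun e he => ?_⟩,
    fun h => MulEquiv.ext fun e => Subtype.ext ?_⟩
  · have h1 : (d : G) * e * (d : G)⁻¹ = e := by
      rw [← s.conjE_apply d ⟨e, he⟩, h]; rfl
    exact (mul_inv_eq_iff_eq_mul.1 h1).symm
  · rw [conjE_apply, (s.commute_W0_E h e.2).eq, mul_inv_cancel_right]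
    rfl

theorem rangeRestrict_eq_one {d : stab2 a b} :
    s.conjE.rangeRestrict d = 1 ↔ (d : G) ∈ s.W0 := by
  rw [← s.conjE_eq_one]
  exact ⟨fun h => congrArg Subtype.val h, fun h => Subtype.ext h⟩

/-- The effective group is transitive of odd order. -/
theorem oddTrans : OddTrans s.conjE.range := by
  refine ⟨s.odd_D.of_dvd_nat (card_range_dvd _), fun x => Subtype.ext x.2.2, fun x y hx hy => ?_, ?_⟩
  · have hne : ∀ z : s.E, z ≠ 1 → (z : G) ≠ 1 := fun z hz e => hz (Subtype.ext e)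
    obtain ⟨d, hd, hdt⟩ := exists_conj_fixing s.min.se s.hab
      (s.orderOf_of_mem_E x.2 (hne x hx)) x.2.1 (s.orderOf_of_mem_E y.2 (hne y hy)) y.2.1
    exact ⟨_, ⟨⟨d, hd⟩, rfl⟩, Subtype.ext ((s.conjE_apply _ _).trans hdt)⟩
  · rw [← Finite.one_lt_card_iff_nontrivial, s.card_E]
    have := one_lt_mult s.min
    omega

/-- A fixed-point-free element commutes with no involution at `a`. -/
theorem not_commute_of_fpf {d : stab2 a b} (hd : s.conjE.rangeRestrict d ∈
    Cfsg.fittingSubgroup s.conjE.range) (hd1 : s.conjE.rangeRestrict d ≠ 1) {t : G}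
    (ht : orderOf t = 2) (hta : t • a = a) : ¬ Commute t d := fun h =>
  ne_one ht <| congrArg Subtype.val <| s.oddTrans.eq_one_of_fix hd hd1
    (x := ⟨t, s.mem_E_of_involution ht hta⟩) <| Subtype.ext <| by
      change (d : G) * t * (d : G)⁻¹ = t
      rw [← h.eq, mul_inv_cancel_right]

theorem inverted_W0_eq_one {x : G} (hx : x ∈ s.W0) (hinv : u * x * u⁻¹ = x⁻¹) : x = 1 := by
  by_contra hne
  obtain ⟨t, ht, hta⟩ := SE.exists_involution_fixing s.min.se a
  exact Nat.not_even_iff_odd.2 (odd_centralizer s.min s.hab s.inv s.swap hx.1 hinv hne)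
    (Basic.even_of_involution_mem _ (mem_centralizer_singleton_iff.2
      (s.commute_W0_E hx (s.mem_E_of_involution ht hta)).symm.eq) ht)

theorem conj_swap_conj (x : G) : u * (u * x * u⁻¹) * u⁻¹ = x := by
  calc u * (u * x * u⁻¹) * u⁻¹ = (u * u) * x * (u * u)⁻¹ := by group
    _ = x := by rw [mul_self s.inv]; group

theorem commute_swap_inf {x : G} (hx : x ∈ s.W0) (hx' : u * x * u⁻¹ ∈ s.W0) : Commute u x := by
  have hy : u * (x⁻¹ * (u * x * u⁻¹)) * u⁻¹ = (x⁻¹ * (u * x * u⁻¹))⁻¹ := by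
    calc u * (x⁻¹ * (u * x * u⁻¹)) * u⁻¹
        = (u * x * u⁻¹)⁻¹ * (u * (u * x * u⁻¹) * u⁻¹) := by group
      _ = _ := by rw [s.conj_swap_conj]; group
  have h1 := s.inverted_W0_eq_one (mul_mem (inv_mem hx) hx') hy
  exact mul_inv_eq_iff_eq_mul.1 (inv_mul_eq_one.1 h1).symm

/-- The conjugate of `W0` under the swap acts trivially on `E`. -/
theorem W0_map_le : s.W0.map (MulAut.conj u).toMonoidHom ≤ s.W0 := by
  classical
  set W1 := s.W0.map (MulAut.conj u).toMonoidHom with hW1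
  have hmem1 : ∀ {x}, x ∈ W1 ↔ u * x * u⁻¹ ∈ s.W0 := fun {x} => by
    constructor
    · rintro ⟨y, hy, rfl⟩
      change u * (u * y * u⁻¹) * u⁻¹ ∈ s.W0
      rwa [s.conj_swap_conj]
    · exact fun h => ⟨_, h, s.conj_swap_conj x⟩
  have hW1D : W1 ≤ stab2 a b := by
    rintro _ ⟨y, hy, rfl⟩
    exact BenderTransitive.conj_mem_of_mem_normalizer s.swap_D hy.1
  have hDW1 : stab2 a b ≤ normalizer (W1 : Set G) := fun d hd => le_normalizer_map (H := s.W0)
    (MulAut.conj u).toMonoidHom ⟨u * d * u⁻¹, s.D_le_normalizer_W0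
      (BenderTransitive.conj_mem_of_mem_normalizer s.swap_D hd), s.conj_swap_conj d⟩
  set π := s.conjE.rangeRestrict with hπ
  set F := Cfsg.fittingSubgroup s.conjE.range with hF
  haveI : F.Normal := CfsgLib.Solvable.Cores.fittingSubgroup_normal
  haveI : IsCyclic F := s.oddTrans.isCyclic_fitting
  haveI : (W1.subgroupOf (stab2 a b)).Normal :=
    (normal_subgroupOf_iff_le_normalizer hW1D).2 hDW1
  set M := (W1.subgroupOf (stab2 a b)).map π with hM
  haveI : M.Normal := Subgroup.Normal.map inferInstance π s.conjE.rangeRestrict_surjective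
  intro x hx
  by_contra hxW
  have hMne : M ≠ ⊥ := fun e => hxW (s.rangeRestrict_eq_one.1
    ((Subgroup.eq_bot_iff_forall _).1 e _ ⟨⟨x, hW1D hx⟩, mem_subgroupOf.2 hx, rfl⟩))
  set N := M ⊓ F
  have hNne : N ≠ ⊥ := s.oddTrans.inf_fitting_ne_bot hMne
  have hNc : Nat.card N ≠ 1 := fun e => hNne (Subgroup.eq_bot_of_card_eq N e)
  set q := (Nat.card N).minFac
  haveI hq := Fact.mk (Nat.minFac_prime hNc)
  obtain ⟨⟨z, hzN⟩, hzo⟩ := exists_prime_orderOf_dvd_card' (G := N) q (Nat.minFac_dvd _)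
  rw [Subgroup.orderOf_mk] at hzo
  obtain ⟨⟨⟨m, hm⟩, hmW, hmz⟩, hzF⟩ := Subgroup.mem_inf.1 hzN
  -- the `q`-part of a lift
  set σ := orderOf m / q ^ (orderOf m).factorization q with hσ
  have hσco : Nat.Coprime q σ := Nat.coprime_ordCompl hq.out (orderOf_pos m).ne'
  set m0 : G := m ^ σ with hm0
  have hm0o : orderOf m0 = q ^ (orderOf m).factorization q :=
    orderOf_pow_orderOf_div (orderOf_pos m).ne' (Nat.ordProj_dvd _ q)
  have hm0W : m0 ∈ W1 := pow_mem (mem_subgroupOf.1 hmW) σ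
  have hm0D := hW1D hm0W
  have hz0 : π ⟨m0, hm0D⟩ = z ^ σ := by
    rw [← hmz, ← map_pow]; rfl
  have hz0o : orderOf (π ⟨m0, hm0D⟩) = q := by
    rw [hz0, Nat.Coprime.orderOf_pow (hzo ▸ hσco), hzo]
  have hz0F : π ⟨m0, hm0D⟩ ∈ F := hz0 ▸ pow_mem hzF σ
  have hz01 : π ⟨m0, hm0D⟩ ≠ 1 := fun e =>
    hq.out.ne_one (hz0o.symm.trans ((congrArg orderOf e).trans orderOf_one))
  have hm0q : IsPGroup q (zpowers m0) := IsPGroup.of_card (by rw [Nat.card_zpowers, hm0o])
  have hqd : q ∣ mult H := by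
    haveI : IsEmpty {t : G // orderOf t = 2 ∧ t ∈ centralizer ({m0} : Set G) ∧ t • a = a} :=
      ⟨fun t => s.not_commute_of_fpf hz0F hz01 t.2.1 t.2.2.2
        (mem_centralizer_singleton_iff.1 t.2.2.1)⟩
    have hmod := card_centralized_modEq s.min.se hm0q (mem_stab2.1 hm0D).1
    rw [Nat.card_of_isEmpty] at hmod
    exact Nat.modEq_zero_iff_dvd.1 hmod.symm
  obtain ⟨P, hP, hPc, hPp, huP⟩ := exists_inv_sylow (p := q) s.inv s.odd_D s.swap_D
  -- conjugate the lift into `P`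
  have hPW1 := card_inf_sylow_of_le hW1D hP hDW1 hPc
  obtain ⟨S, hS⟩ := Coprime.exists_sylow_map_eq (inf_le_left : W1 ⊓ P ≤ W1) hPW1
  obtain ⟨T, hT⟩ := (hm0q.of_equiv (subgroupOfEquivOfLe (zpowers_le.2 hm0W)).symm).exists_le_sylow
  obtain ⟨d, hd⟩ := MulAction.exists_smul_eq W1 T S
  set y' : G := (d : G) * m0 * (d : G)⁻¹ with hy'
  have hy'WP : y' ∈ W1 ⊓ P := by
    rw [← hS, ← hd, Coprime.map_smul_sylow]
    exact ⟨m0, ⟨⟨m0, hm0W⟩, hT (mem_subgroupOf.2 (mem_zpowers m0)), rfl⟩, rfl⟩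
  obtain ⟨hy'W, hy'P⟩ := Subgroup.mem_inf.1 hy'WP
  set Y' : stab2 a b := ⟨y', hP hy'P⟩ with hY'
  have hY'e : π Y' = π ⟨d, hW1D d.2⟩ * π ⟨m0, hm0D⟩ * (π ⟨d, hW1D d.2⟩)⁻¹ := by
    rw [← map_inv, ← map_mul, ← map_mul]; rfl
  have hY'F : π Y' ∈ F := hY'e ▸ ‹F.Normal›.conj_mem _ hz0F _
  have hY'o : orderOf (π Y') = q := by rw [hY'e, Dihedral.orderOf_conj, hz0o]
  have hY'1 : π Y' ≠ 1 := fun e =>
    hq.out.ne_one (hY'o.symm.trans ((congrArg orderOf e).trans orderOf_one))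
  set U := P ⊓ (s.W0 ⊓ W1) with hU
  have huU : ∀ w ∈ U, Commute u w := fun w hw =>
    s.commute_swap_inf hw.2.1 (hmem1.1 hw.2.2)
  have hPU : P ≤ normalizer (U : Set G) := fun g hg => mem_normalizer_inf' (le_normalizer hg)
    (mem_normalizer_inf' (s.D_le_normalizer_W0 (hP hg)) (hDW1 (hP hg)))
  -- commutators with the lift lie in `U`
  have hcomm : ∀ g ∈ P, g * y' * g⁻¹ * y'⁻¹ ∈ U := by
    intro g hg
    refine Subgroup.mem_inf.2 ⟨mul_mem (mul_mem (mul_mem hg hy'P) (inv_mem hg)) (inv_mem hy'P),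
      Subgroup.mem_inf.2 ⟨?_, mul_mem (BenderTransitive.conj_mem_of_mem_normalizer (hDW1 (hP hg)) hy'W)
        (inv_mem hy'W)⟩⟩
    obtain ⟨j, hj⟩ := hPp ⟨g, hg⟩
    set g' : stab2 a b := ⟨g, hP hg⟩
    have hj' : π g' ^ q ^ j = 1 := by
      rw [← map_pow, show g' ^ q ^ j = 1 from Subtype.ext (congrArg Subtype.val hj :), map_one]
    have hc : Commute (π g') (π Y') := commute_of_qgroup_cyclic hY'F hY'o hj'
    refine s.rangeRestrict_eq_one (d := g' * Y' * g'⁻¹ * Y'⁻¹) |>.1 ?_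
    rw [map_mul, map_mul, map_mul, map_inv, map_inv, hc.eq, mul_inv_cancel_right, mul_inv_cancel]
  set y := u * y' * u⁻¹ with hy
  have hyP : y ∈ P := BenderTransitive.conj_mem_of_mem_normalizer huP hy'P
  have hyW : y ∈ s.W0 := hmem1.1 hy'W
  have huy : u * y * u⁻¹ = y' := s.conj_swap_conj y'
  -- the two lifts commute
  have hyy : Commute y y' := by
    have h1 := hcomm y hyP
    set w := y * y' * y⁻¹ * y'⁻¹ with hw
    have h2 : u * w * u⁻¹ = w⁻¹ := by
      calc u * w * u⁻¹ = (u * y * u⁻¹) * (u * y' * u⁻¹) * (u * y * u⁻¹)⁻¹ * (u * y' * u⁻¹)⁻¹ := by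
            rw [hw]; group
        _ = w⁻¹ := by rw [huy, ← hy, hw]; group
    have h3 := s.inverted_W0_eq_one h1.2.1 h2
    exact (mul_inv_eq_iff_eq_mul.1 (mul_inv_eq_one.1 h3) :)
  set c := y * y' with hc
  have huc : Commute u c := by
    refine mul_inv_eq_iff_eq_mul.1 ?_
    calc u * c * u⁻¹ = (u * y * u⁻¹) * (u * y' * u⁻¹) := by rw [hc]; group
      _ = c := by rw [huy, ← hy, hc]; exact hyy.symm.eq
  set V := zpowers c ⊔ U with hV
  have hcP : c ∈ P := mul_mem hyP hy'P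
  have hVP : V ≤ P := sup_le (zpowers_le.2 hcP) inf_le_left
  have hPV : P ≤ normalizer (V : Set G) := fun g hg => by
    refine Coprime.mem_normalizer_of_conj_map_le ?_
    suffices h : V ≤ V.comap (MulAut.conj g).toMonoidHom from fun v hv => h hv
    refine sup_le (zpowers_le.2 ?_) fun w hw =>
      mem_sup_right (BenderTransitive.conj_mem_of_mem_normalizer (hPU hg) hw)
    change g * c * g⁻¹ ∈ V
    have hg' : u * g * u⁻¹ ∈ P := BenderTransitive.conj_mem_of_mem_normalizer huP hg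
    have h1 : g * y * g⁻¹ * y⁻¹ ∈ U := by
      have h2 := hcomm _ hg'
      have e : g * y * g⁻¹ * y⁻¹ =
          u * (u * g * u⁻¹ * y' * (u * g * u⁻¹)⁻¹ * y'⁻¹) * u⁻¹ := by
        calc g * y * g⁻¹ * y⁻¹
            = (u * (u * g * u⁻¹) * u⁻¹) * (u * y' * u⁻¹) * (u * (u * g * u⁻¹) * u⁻¹)⁻¹ *
              (u * y' * u⁻¹)⁻¹ := by rw [s.conj_swap_conj]
          _ = _ := by group
      rw [e, (huU _ h2).eq, mul_inv_cancel_right]
      exact h2
    have h3 := hcomm g hg
    have e : g * c * g⁻¹ = (g * y * g⁻¹ * y⁻¹) * (y * (g * y' * g⁻¹ * y'⁻¹) * y⁻¹) * c := by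
      rw [hc]; group
    rw [e]
    exact mul_mem (mem_sup_right (mul_mem h1
      (BenderTransitive.conj_mem_of_mem_normalizer (hPU hyP) h3))) (mem_sup_left (mem_zpowers c))
  have huV : ∀ v ∈ V, Commute u v := by
    have h : V ≤ centralizer ({u} : Set G) := sup_le
      (zpowers_le.2 (mem_centralizer_singleton_iff.2 huc.symm.eq))
      fun w hw => mem_centralizer_singleton_iff.2 (huU w hw).symm.eq
    exact fun v hv => (mem_centralizer_singleton_iff.1 (h hv) : _ = _).symm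
  obtain ⟨t, ht, hta, htV⟩ := s.exists_centralizing_involution hqd hP hPc huP hVP hPV huV
  refine s.not_commute_of_fpf (d := ⟨c, hP hcP⟩) ?_ ?_ ht hta
    (htV c (mem_sup_left (mem_zpowers c)))
  all_goals
    rw [show (⟨c, hP hcP⟩ : stab2 a b) = ⟨y, hP hyP⟩ * Y' from rfl, map_mul,
      s.rangeRestrict_eq_one.2 (show ((⟨y, hP hyP⟩ : stab2 a b) : G) ∈ s.W0 from hyW), one_mul]
  · exact hY'F
  · exact hY'1

theorem swap_W0 : u ∈ normalizer (s.W0 : Set G) :=
  Coprime.mem_normalizer_of_conj_map_le fun x hx => s.W0_map_le ⟨x, hx, rfl⟩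

/-- The swap centralises the kernel. -/
theorem commute_swap_W0 {x : G} (hx : x ∈ s.W0) : Commute u x :=
  s.commute_swap_inf hx (BenderTransitive.conj_mem_of_mem_normalizer s.swap_W0 hx)

/-- Inverted elements centralise the kernel. -/
theorem commute_inverted_W0 {k : G} (hk : k ∈ stab2 a b) (hinv : u * k * u⁻¹ = k⁻¹) {x : G}
    (hx : x ∈ s.W0) : Commute k x :=
  commute_inverted (s.odd_mem hk) hinv (fun _ hj => s.commute_swap_W0 hj) (s.D_le_normalizer_W0 hk)
    hx

end Setting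

end CfsgLib.LocalEven.StrongCore
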