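import Cfsg.Agent.Lib.LocalEven.StrongCore.Witt

/-!
# Orbits of subgroups containing four-groups, and centralised involutions

The orbit of a coset under a subgroup with a four-group there carries the same structure; the
fixed-point theorem for Sylow subgroups of two-point stabilisers applies inside it.
-/

set_option autoImplicit false
set_option linter.style.haveILetI false

namespace CfsgLib.LocalEven.StrongCore

open Subgroup MulAction CfsgLib.Involution.Dihedral CfsgLib.Involution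
  CfsgLib.LocalEven.BenderTransitive CfsgLib.LocalEven.SwapInjective

universe u

variable {G : Type u} [Group G] {H X : Subgroup G} {δ : G ⧸ H}

theorem mk_eq_iff (x y : X) :
    (x : X ⧸ (stabilizer G δ).subgroupOf X) = y ↔ (x : G) • δ = (y : G) • δ := by
  rw [QuotientGroup.eq, mem_subgroupOf, mem_stabilizer_iff]
  change ((x : G)⁻¹ * (y : G)) • δ = δ ↔ _
  rw [mul_smul, inv_smul_eq_iff, eq_comm]

theorem smul_mk_eq_iff (g x y : X) :
    g • (x : X ⧸ (stabilizer G δ).subgroupOf X) = y ↔ (g : G) • (x : G) • δ = (y : G) • δ := by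
  rw [MulAction.Quotient.smul_mk, smul_eq_mul, mk_eq_iff, Subgroup.coe_mul, mul_smul]

theorem rigid_orbit (hR : Rigid H) : Rigid ((stabilizer G δ).subgroupOf X) := by
  intro t g a b ht hta hinv hga hgb hba
  induction a using QuotientGroup.induction_on with
  | H x =>
  induction b using QuotientGroup.induction_on with
  | H y =>
  rw [smul_mk_eq_iff] at hta hga hgb
  exact Subtype.ext (hR t g ((x : G) • δ) ((y : G) • δ) ((orderOf_coe t).trans ht) hta
    (congrArg Subtype.val hinv) hga hgb fun e => hba ((mk_eq_iff y x).2 e))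

theorem mult_orbit : mult ((stabilizer G δ).subgroupOf X) =
    Nat.card {t : G // orderOf t = 2 ∧ t ∈ X ∧ t • δ = δ} :=
  Nat.card_congr
    { toFun := fun t => ⟨t.1, (orderOf_coe t.1).trans t.2.1, t.1.2,
        mem_stabilizer_iff.1 (mem_subgroupOf.1 t.2.2)⟩
      invFun := fun t => ⟨⟨t.1, t.2.2.1⟩, (orderOf_mk t.1 t.2.2.1).trans t.2.1,
        mem_subgroupOf.2 (mem_stabilizer_iff.2 t.2.2.2)⟩
      left_inv := fun _ => rfl
      right_inv := fun _ => rfl }

variable [Finite G]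

section Relative

variable (hH : Cfsg.IsStronglyEmbedded H) (hR : Rigid H) {v w : G} (hv : orderOf v = 2)
  (hvX : v ∈ X) (hvδ : v • δ = δ) (hw : orderOf w = 2) (hwX : w ∈ X) (hvw : Commute v w)
  (hne : v ≠ w) {q : ℕ} [Fact q.Prime]
  (hdvd : q ∣ Nat.card {t : G // orderOf t = 2 ∧ t ∈ X ∧ t • δ = δ})

include hH hR hv hvX hvδ hw hwX hvw hne hdvd

/-- Inside a subgroup a Sylow subgroup of a two-point stabiliser fixes two points of the orbit. -/
theorem orbit_fixed_pair {e : G} (he : e ∈ X) (heδ : e • δ ≠ δ) {P : Subgroup G}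
    (hP : P ≤ X ⊓ stab2 δ (e • δ))
    (hPc : Nat.card P = q ^ (Nat.card ↥(X ⊓ stab2 δ (e • δ))).factorization q) {x : G}
    (hx : x ∈ X) (hfix : P ≤ stabilizer G (x • δ)) : x • δ = δ ∨ x • δ = e • δ := by
  set K := (stabilizer G δ).subgroupOf X with hK
  set a' : X ⧸ K := ((1 : X) : X ⧸ K) with ha'
  set b' : X ⧸ K := ((⟨e, he⟩ : X) : X ⧸ K) with hb'
  have hD : stab2 a' b' = (X ⊓ stab2 δ (e • δ)).subgroupOf X := by
    ext g
    rw [mem_stab2, ha', hb', smul_mk_eq_iff, smul_mk_eq_iff, mem_subgroupOf, Subgroup.mem_inf,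
      mem_stab2, OneMemClass.coe_one, one_smul]
    exact ⟨fun h => ⟨g.2, h⟩, fun h => h.2⟩
  have hab : a' ≠ b' := fun h => heδ (by
    have := (mk_eq_iff _ _).1 h
    rwa [OneMemClass.coe_one, one_smul, eq_comm] at this)
  have hPX : P ≤ X := hP.trans inf_le_left
  have h := fixed_pair (orbit_se hH hv hvX hvδ he heδ)
    (exists_commuting_subtype hv hvX hw hwX hvw hne) (rigid_orbit hR) (q := q)
    (by rw [mult_orbit]; exact hdvd) hab (P := P.subgroupOf X)
    (fun g hg => hD.ge (mem_subgroupOf.2 (hP (mem_subgroupOf.1 hg))))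
    (by rw [hD, Nat.card_congr (subgroupOfEquivOfLe hPX).toEquiv,
          Nat.card_congr (subgroupOfEquivOfLe inf_le_left).toEquiv, hPc])
    (c := ((⟨x, hx⟩ : X) : X ⧸ K))
    (fun g hg => mem_stabilizer_iff.2 ((smul_mk_eq_iff g _ _).2
      (mem_stabilizer_iff.1 (hfix (mem_subgroupOf.1 hg)))))
  rw [ha', hb', mk_eq_iff, mk_eq_iff, OneMemClass.coe_one, one_smul] at h
  exact h

/-- A `q`-subgroup acting on such an orbit has two fixed points there. -/
theorem exists_two_fixed (hq2 : q ≠ 2) {g : G} (hg : g ∈ X) (hgδ : g • δ ≠ δ) {Q : Subgroup G}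
    (hQ : IsPGroup q Q) (hQX : Q ≤ X) :
    ∃ x ∈ X, ∃ y ∈ X, x • δ ≠ y • δ ∧ Q ≤ stabilizer G (x • δ) ∧ Q ≤ stabilizer G (y • δ) := by
  classical
  set D := X ⊓ stab2 δ (g • δ) with hD
  obtain ⟨P, hP, hPc, hPq, -⟩ :=
    (⟨(default : Sylow q D).1.map D.subtype, map_subtype_le _,
      by rw [Coprime.card_map_subtype, Sylow.card_eq_multiplicity],
      (default : Sylow q D).isPGroup'.map _, trivial⟩ :
      ∃ P : Subgroup G, P ≤ D ∧ Nat.card P = q ^ (Nat.card D).factorization q ∧ IsPGroup q P ∧ True)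
  let Γ := MulAction.orbit X δ
  have hcount : ∀ Y : Subgroup G, IsPGroup q Y → Y ≤ X →
      Nat.card {f : Γ // Y ≤ stabilizer G (f : G ⧸ H)} ≡ Nat.card Γ [MOD q] := by
    intro Y hY hYX
    refine Nat.ModEq.trans ?_ ((hY.of_equiv
      (subgroupOfEquivOfLe hYX).symm).card_modEq_card_fixedPoints Γ).symm
    refine congrArg (· % q) (Nat.card_congr (Equiv.subtypeEquivRight fun f => ?_))
    exact ⟨fun h y => Subtype.ext (h (mem_subgroupOf.1 y.2)),
      fun h y hy => congrArg Subtype.val (h ⟨⟨y, hYX hy⟩, mem_subgroupOf.2 hy⟩)⟩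
  have htwo : Nat.card {f : Γ // P ≤ stabilizer G (f : G ⧸ H)} = 2 := by
    refine Nat.card_eq_two_iff.2 ⟨⟨⟨δ, MulAction.mem_orbit_self _⟩, fun y hy => (hP hy).2.1⟩,
      ⟨⟨g • δ, ⟨⟨g, hg⟩, rfl⟩⟩, fun y hy => (hP hy).2.2⟩, fun e => hgδ ?_, ?_⟩
    · exact (congrArg (fun z => ((z.1 : Γ) : G ⧸ H)) e).symm
    · refine Set.eq_univ_of_forall ?_
      rintro ⟨⟨_, ⟨x, rfl⟩⟩, hfix⟩
      rcases orbit_fixed_pair hH hR hv hvX hvδ hw hwX hvw hne hdvd hg hgδ hP hPc x.2 hfix
        with e | e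
      · exact Or.inl (Subtype.ext (Subtype.ext e))
      · exact Or.inr (Subtype.ext (Subtype.ext e))
  have hmod := (hcount Q hQ hQX).trans ((hcount P hPq (hP.trans inf_le_left)).symm)
  rw [htwo] at hmod
  have hge : 2 ≤ Nat.card {f : Γ // Q ≤ stabilizer G (f : G ⧸ H)} := by
    by_contra hlt
    have h3 : 2 < q := lt_of_le_of_ne (Fact.out : q.Prime).two_le (Ne.symm hq2)
    rw [Nat.ModEq, Nat.mod_eq_of_lt (by omega), Nat.mod_eq_of_lt h3] at hmod
    omega
  haveI := (Nat.card_pos_iff.1 (by omega : 0 < Nat.card {f : Γ // Q ≤ stabilizer G (f : G ⧸ H)})).1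
  obtain ⟨f₁, f₂, hne'⟩ :=
    (Finite.one_lt_card_iff_nontrivial.1 (lt_of_lt_of_le one_lt_two hge)).exists_pair_ne
  obtain ⟨⟨_, ⟨x, rfl⟩⟩, hxf⟩ := f₁
  obtain ⟨⟨_, ⟨y, rfl⟩⟩, hyf⟩ := f₂
  exact ⟨x, x.2, y, y.2, fun e => hne' (Subtype.ext (Subtype.ext e)), hxf, hyf⟩

end Relative

/-- A Sylow subgroup of a two-point stabiliser fixing only these two points of the orbit is a
Sylow subgroup of the one-point stabiliser. -/
theorem card_sylow_of_fixed_pair {q : ℕ} [hq : Fact q.Prime] {ε : G ⧸ H} {P : Subgroup G}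
    (hP : P ≤ X ⊓ stab2 δ ε) (hPc : Nat.card P = q ^ (Nat.card ↥(X ⊓ stab2 δ ε)).factorization q)
    (hε : ε ∈ MulAction.orbit X δ)
    (hfix : ∀ x ∈ X, P ≤ stabilizer G (x • δ) → x • δ = δ ∨ x • δ = ε) (hne : δ ≠ ε) :
    Nat.card P = q ^ (Nat.card ↥(X ⊓ stabilizer G δ)).factorization q := by
  set L := X ⊓ stabilizer G δ
  have hPL : P ≤ L := hP.trans (inf_le_inf_left X inf_le_left)
  have hPp : IsPGroup q P := IsPGroup.of_card hPc
  obtain ⟨Q, hPQ⟩ := (hPp.of_equiv (subgroupOfEquivOfLe hPL).symm).exists_le_sylow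
  set Q' := (Q : Subgroup L).map L.subtype with hQ'
  have hle : P ≤ Q' := fun x hx => ⟨⟨x, hPL hx⟩, hPQ (mem_subgroupOf.2 hx), rfl⟩
  rw [← Q.card_eq_multiplicity, ← Coprime.card_map_subtype]
  by_contra hc
  have hlt : P < Q' := lt_of_le_of_ne hle fun e => hc (e ▸ rfl)
  obtain ⟨x, hxQ, hxN, hxP⟩ := exists_normalizer_not_mem (Q.isPGroup'.map _) hlt
  have hxL : x ∈ L := map_subtype_le _ hxQ
  obtain ⟨e, rfl⟩ := hε
  have hxε : x • (e : G) • δ = (e : G) • δ := by
    have hf : P ≤ stabilizer G ((x * (e : G)) • δ) := by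
      rw [mul_smul]
      exact smul_of_normalizes hxN (hP.trans (inf_le_right.trans inf_le_right))
    rcases hfix _ (mul_mem hxL.1 e.2) hf with h | h
    · refine absurd ?_ hne
      rw [mul_smul] at h
      calc δ = x⁻¹ • δ := (inv_smul_eq_iff.2 (mem_stabilizer_iff.1 hxL.2).symm).symm
        _ = _ := inv_smul_eq_iff.2 h.symm
    · rwa [mul_smul] at h
  have hle2 : P ⊔ zpowers x ≤ Q' ⊓ (X ⊓ stab2 δ ((e : G) • δ)) :=
    sup_le (le_inf hle hP) (zpowers_le.2 ⟨hxQ, hxL.1, hxL.2, hxε⟩)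
  obtain ⟨k, hk⟩ := ((Q.isPGroup'.map L.subtype).to_le (hle2.trans inf_le_left)).exists_card_eq
  refine hxP ((Subgroup.eq_of_le_of_card_ge (le_sup_left : P ≤ P ⊔ zpowers x) ?_).ge
    (mem_sup_right (mem_zpowers x)))
  rw [hk, hPc]
  refine Nat.pow_le_pow_right hq.out.pos
    ((hq.out.pow_dvd_iff_le_factorization Nat.card_pos.ne').1 ?_)
  rw [← hk]
  exact Subgroup.card_dvd_of_le (hle2.trans inf_le_right)

/-- A `q`-element fixing a coset centralises a number of its involutions congruent to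
`mult H` modulo `q`. -/
theorem card_centralized_modEq (hH : Cfsg.IsStronglyEmbedded H) {q : ℕ} [Fact q.Prime] {x : G}
    (hxq : IsPGroup q (zpowers x)) {a : G ⧸ H} (hxa : x • a = a) :
    Nat.card {t : G // orderOf t = 2 ∧ t ∈ centralizer ({x} : Set G) ∧ t • a = a} ≡ mult H
      [MOD q] := by
  rw [← card_involutions_fixing hH a]
  let S := {t : G // orderOf t = 2 ∧ t • a = a}
  let inst : MulAction (zpowers x) S :=
    { smul := fun g t => ⟨(g : G) * t * (g : G)⁻¹, (Dihedral.orderOf_conj _ _).trans t.2.1, by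
        have hg : (g : G) • a = a :=
          mem_stabilizer_iff.1 ((zpowers_le.2 (mem_stabilizer_iff.2 hxa)) g.2)
        rw [mul_smul, mul_smul, inv_smul_eq_iff.2 hg.symm, t.2.2, hg]⟩
      one_smul := fun t => Subtype.ext (by
        show ((1 : zpowers x) : G) * (t : G) * ((1 : zpowers x) : G)⁻¹ = t
        simp)
      mul_smul := fun g h t => Subtype.ext (by
        show ((g * h : zpowers x) : G) * (t : G) * ((g * h : zpowers x) : G)⁻¹ =
          (g : G) * ((h : G) * t * (h : G)⁻¹) * (g : G)⁻¹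
        simp [mul_assoc]) }
  letI := inst
  refine Nat.ModEq.trans ?_ (hxq.card_modEq_card_fixedPoints S).symm
  refine congrArg (· % q) (Nat.card_congr
    { toFun := fun t => ⟨⟨t.1, t.2.1, t.2.2.2⟩, fun g => Subtype.ext (by
        show (g : G) * t.1 * (g : G)⁻¹ = t.1
        have hc : Commute t.1 x := mem_centralizer_singleton_iff.1 t.2.2.1
        obtain ⟨k, hk⟩ := mem_zpowers_iff.1 g.2
        rw [← hk, ((hc.zpow_right k).symm).eq, mul_inv_cancel_right])⟩
      invFun := fun t => ⟨t.1.1, t.1.2.1, mem_centralizer_singleton_iff.2 (by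
        have h : x * t.1.1 * x⁻¹ = t.1.1 := congrArg Subtype.val (t.2 ⟨x, mem_zpowers x⟩)
        exact (mul_inv_eq_iff_eq_mul.1 h).symm), t.1.2.2⟩
      left_inv := fun _ => rfl
      right_inv := fun _ => rfl })

end CfsgLib.LocalEven.StrongCore
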