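import Cfsg.Agent.Lib.LocalEven.StrongCore.Effective
import Cfsg.Agent.Lib.LocalEven.StrongCore.LinearBound

/-!
# Elements of even order

An element of even order fixes a single coset.  Lower bounds for their number at `a`, and a lower
bound for the number of cosets.
-/

set_option autoImplicit false
set_option linter.style.haveILetI false

namespace CfsgLib.LocalEven.StrongCore

open Subgroup MulAction CfsgLib.Involution.Dihedral CfsgLib.Involution
  CfsgLib.LocalEven.BenderTransitive CfsgLib.LocalEven.SwapInjective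

universe u

/-- The number of elements of even order fixing a coset. -/
noncomputable def evenCount {G : Type u} [Group G] {H : Subgroup G} (a : G ⧸ H) : ℕ :=
  Nat.card {g : G // g • a = a ∧ 2 ∣ orderOf g}

theorem pow_smul_eq_of_smul_eq {G : Type u} [Group G] {X : Type*} [MulAction G X] {g : G} {c : X}
    (hc : g • c = c) (k : ℕ) : g ^ k • c = c := by
  induction k with
  | zero => rw [pow_zero, one_smul]
  | succ k ih => rw [pow_succ, mul_smul, hc, ih]

namespace Setting

variable {G : Type u} [Group G] [Finite G] {H : Subgroup G}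
  {a b : G ⧸ H} {u : G} {p : ℕ} {R : Subgroup G} (s : Setting a b u p R)

include s

/-- An element of even order fixes exactly one coset. -/
theorem existsUnique_fixed {g : G} (hg : 2 ∣ orderOf g) : ∃! c : G ⧸ H, g • c = c := by
  set z := g ^ (orderOf g / 2) with hzdef
  have hz : orderOf z = 2 := orderOf_pow_orderOf_div (orderOf_pos g).ne' hg
  obtain ⟨δ, hδ⟩ := SE.exists_fixed s.min.se hz
  refine ⟨δ, SE.commute_fixes s.min.se hz hδ ((Commute.refl g).pow_right _), fun c hc => ?_⟩
  have hzc : z • c = c := by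
    rw [hzdef]
    exact pow_smul_eq_of_smul_eq hc _
  exact SE.fixed_unique s.min.se hz hzc hδ

/-- Elements of even order are counted at one coset. -/
theorem card_even : Nat.card {g : G // 2 ∣ orderOf g} = Nat.card (G ⧸ H) * evenCount a := by
  classical
  haveI := Fintype.ofFinite (G ⧸ H)
  have e : {g : G // 2 ∣ orderOf g} ≃ Σ c : G ⧸ H, {g : G // g • c = c ∧ 2 ∣ orderOf g} :=
    { toFun := fun g => ⟨(s.existsUnique_fixed g.2).choose, g.1,
        (s.existsUnique_fixed g.2).choose_spec.1, g.2⟩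
      invFun := fun x => ⟨x.2.1, x.2.2.2⟩
      left_inv := fun _ => rfl
      right_inv := fun x => by
        rcases x with ⟨c, g, hgc, hg⟩
        exact Sigma.subtype_ext ((s.existsUnique_fixed hg).choose_spec.2 c hgc).symm rfl }
  have hfib : ∀ c : G ⧸ H, Nat.card {g : G // g • c = c ∧ 2 ∣ orderOf g} = evenCount a := by
    intro c
    obtain ⟨x, hx⟩ := MulAction.exists_smul_eq G a c
    refine (Nat.card_congr ((MulAut.conj x).toEquiv.subtypeEquiv fun g => ?_)).symm
    rw [MulEquiv.toEquiv_eq_coe, EquivLike.coe_coe, MulAut.conj_apply, Dihedral.orderOf_conj,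
      ← hx, mul_smul, mul_smul, inv_smul_smul]
    exact and_congr_left' ⟨fun h => congrArg (x • ·) h, fun h => smul_left_cancel x h⟩
  rw [Nat.card_congr e, Nat.card_sigma, Finset.sum_congr rfl fun c _ => hfib c, Finset.sum_const,
    Finset.card_univ, smul_eq_mul, ← Nat.card_eq_fintype_card]

/-- A set of elements commuting with involutions at `a`. -/
theorem card_le_two_mul_even {F : Set G}
    (hF : ∀ g ∈ F, ∃ t : G, orderOf t = 2 ∧ t • a = a ∧ Commute t g) :
    F.ncard ≤ 2 * evenCount a := by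
  classical
  let S : Set G := {g | g • a = a ∧ 2 ∣ orderOf g}
  have hS : S.ncard = evenCount a := (Nat.card_coe_set_eq S).symm
  have hfix : ∀ g ∈ F, g • a = a := fun g hg => by
    obtain ⟨t, ht, hta, htg⟩ := hF g hg
    exact SE.commute_fixes s.min.se ht hta htg.symm
  set F₁ := {g ∈ F | 2 ∣ orderOf g}
  set F₂ := {g ∈ F | ¬ 2 ∣ orderOf g}
  have h1 : F₁.ncard ≤ S.ncard :=
    Set.ncard_le_ncard (fun g hg => ⟨hfix g hg.1, hg.2⟩) (Set.toFinite _)
  have h2 : F₂.ncard ≤ S.ncard := by
    choose τ hτ hτa hτg using hF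
    let f : G → G := fun g => if hg : g ∈ F then g * τ g hg else g
    have hord : ∀ g (hg : g ∈ F), ¬ 2 ∣ orderOf g → orderOf (g * τ g hg) = orderOf g * 2 :=
      fun g hg hodd => by
        rw [(hτg g hg).symm.orderOf_mul_eq_mul_orderOf_of_coprime
          ((hτ g hg).symm ▸ Nat.coprime_comm.1 ((Nat.prime_two.coprime_iff_not_dvd).2 hodd)), hτ]
    refine Set.ncard_le_ncard_of_injOn f (fun g hg => ?_) (fun g hg g' hg' h => ?_) (Set.toFinite _)
    · simp only [f, dif_pos hg.1]
      exact ⟨by rw [mul_smul, hτa, hfix g hg.1], (hord g hg.1 hg.2).symm ▸ dvd_mul_left 2 _⟩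
    · simp only [f, dif_pos hg.1, dif_pos hg'.1] at h
      have hcore : ∀ x (hx : x ∈ F), ¬ 2 ∣ orderOf x → (x * τ x hx) * (x * τ x hx) = x * x :=
        fun x hx _ => by rw [(hτg x hx).mul_mul_mul_comm, mul_self (hτ x hx), mul_one]
      have hsq : g * g = g' * g' := by
        rw [← hcore g hg.1 hg.2, h, hcore g' hg'.1 hg'.2]
      obtain ⟨m, hm⟩ := (Nat.odd_iff.2 (Nat.two_dvd_ne_zero.1 hg.2) : Odd (orderOf g))
      have ho : orderOf g = orderOf g' := by
        have e1 : orderOf (g * g) = orderOf g := by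
          rw [← pow_two]
          exact Nat.Coprime.orderOf_pow (Nat.coprime_comm.1 ((Nat.prime_two.coprime_iff_not_dvd).2 hg.2))
        have e2 : orderOf (g' * g') = orderOf g' := by
          rw [← pow_two]
          exact Nat.Coprime.orderOf_pow (Nat.coprime_comm.1 ((Nat.prime_two.coprime_iff_not_dvd).2 hg'.2))
        rw [← e1, hsq, e2]
      have key : ∀ x : G, orderOf x = 2 * m + 1 → x = (x * x) ^ (m + 1) := fun x hx => by
        rw [← pow_two, ← pow_mul, show 2 * (m + 1) = orderOf x + 1 by omega, pow_succ,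
          pow_orderOf_eq_one, one_mul]
      rw [key g hm, key g' (ho ▸ hm), hsq]
  have hun : F = F₁ ∪ F₂ := by
    ext g
    constructor
    · intro hg
      by_cases h : 2 ∣ orderOf g
      · exact .inl ⟨hg, h⟩
      · exact .inr ⟨hg, h⟩
    · rintro (hg | hg) <;> exact hg.1
  rw [hun]
  exact (Set.ncard_union_le F₁ F₂).trans (by omega)

/-- At least half of the centraliser of an involution. -/
theorem card_centralizer_le_even {t : G} (ht : orderOf t = 2) (hta : t • a = a) :
    Nat.card (centralizer ({t} : Set G)) ≤ 2 * evenCount a := by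
  rw [show Nat.card (centralizer ({t} : Set G)) = (centralizer ({t} : Set G) : Set G).ncard from
    Nat.card_coe_set_eq _]
  exact s.card_le_two_mul_even fun g hg =>
    ⟨t, ht, hta, (mem_centralizer_singleton_iff.1 hg : Commute g t).symm⟩

/-- The centraliser of two involutions at `a`. -/
theorem card_centralizer_pair_le {n : ℕ} (hn : Nat.card s.E = 2 ^ n) {x y : G}
    (hx : orderOf x = 2) (hxa : x • a = a) (hy : orderOf y = 2) (hya : y • a = a) (hne : x ≠ y) :
    Nat.card (centralizer ({x, y} : Set G)) ≤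
      (∏ i ∈ Finset.Ico 2 n, (2 ^ n - 2 ^ i)) * Nat.card s.C0 := by
  classical
  haveI : Finite (MulAut s.E) := Finite.of_injective (fun f => (f : s.E → s.E)) DFunLike.coe_injective
  set Cxy := centralizer ({x, y} : Set G) with hC
  have hmem : ∀ {g : G}, g ∈ Cxy → Commute g x ∧ Commute g y := fun hg =>
    ⟨(mem_centralizer_iff.1 hg x (Set.mem_insert _ _)).symm,
      (mem_centralizer_iff.1 hg y (Set.mem_insert_of_mem _ rfl)).symm⟩
  have hCa : Cxy ≤ stabilizer G a := fun g hg =>
    mem_stabilizer_iff.2 (SE.commute_fixes s.min.se hx hxa (hmem hg).1)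
  have hC0 : s.C0 ≤ Cxy := fun g hg => mem_centralizer_iff.2 fun z hz => by
    rcases hz with rfl | rfl
    · exact mem_centralizer_iff.1 hg.2 _ (s.mem_E_of_involution hx hxa)
    · exact mem_centralizer_iff.1 hg.2 _ (s.mem_E_of_involution hy hya)
  set φ := s.conjH.comp (Subgroup.inclusion hCa) with hφ
  have hker : φ.ker = s.C0.subgroupOf Cxy := by
    ext g
    rw [MonoidHom.mem_ker, mem_subgroupOf]
    exact s.conjH_eq_one
  set x' : s.E := ⟨x, s.mem_E_of_involution hx hxa⟩
  set y' : s.E := ⟨y, s.mem_E_of_involution hy hya⟩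
  set V := zpowers x' ⊔ zpowers y' with hV
  have hx'o : orderOf x' = 2 := (orderOf_coe x').symm.trans hx
  have hy'o : orderOf y' = 2 := (orderOf_coe y').symm.trans hy
  have hsq : ∀ z : s.E, z * z = 1 := fun z => Subtype.ext z.2.2
  have hVc : Nat.card V = 2 ^ 2 := by
    letI : CommGroup s.E :=
      { (inferInstance : Group s.E) with
        mul_comm := fun v w => Subtype.ext (s.commute_E v.2 (s.E_le_S0 w.2)).eq }
    have h := Solvable.Basic.card_sup_mul (zpowers y') (zpowers x')
    have hinf : zpowers y' ⊓ zpowers x' = ⊥ := by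
      refine (Subgroup.eq_bot_iff_forall _).2 fun z hz => ?_
      obtain ⟨hzy, hzx⟩ := Subgroup.mem_inf.1 hz
      by_contra hz1
      have e1 : ∀ w : s.E, orderOf w = 2 → z ∈ zpowers w → z = w := fun w hw hzw => by
        obtain ⟨i, rfl⟩ := mem_zpowers_iff.1 hzw
        rcases Int.even_or_odd i with ⟨m, rfl⟩ | ⟨m, rfl⟩
        · exact absurd (by rw [zpow_add, ← mul_zpow, hsq, one_zpow]) hz1
        · rw [zpow_add, two_mul, zpow_add, ← mul_zpow, hsq, one_zpow, one_mul, zpow_one]
      exact hne (congrArg Subtype.val ((e1 x' hx'o hzx).symm.trans (e1 y' hy'o hzy)))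
    rw [hinf, Subgroup.card_bot, mul_one, Nat.card_zpowers, Nat.card_zpowers, hx'o, hy'o] at h
    rw [hV, h, pow_two]
  obtain ⟨hn2, -⟩ : 2 ≤ n ∧ True := by
    obtain ⟨m, hm2, hm⟩ := s.exists_card_E
    exact ⟨(Nat.pow_right_injective le_rfl (hn.symm.trans hm)).symm ▸ hm2, trivial⟩
  have hbound := card_fixing_le (M := s.E) hsq hn (n - 2) 2 V hVc (by omega) φ.range (by
    rintro _ ⟨g, rfl⟩ z hz
    have hle : V ≤ (φ g).toMonoidHom.eqLocus (MonoidHom.id s.E) := by
      refine sup_le (zpowers_le.2 ?_) (zpowers_le.2 ?_)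
      · refine Subtype.ext ?_
        change (g : G) * x * (g : G)⁻¹ = x
        rw [(hmem g.2).1.eq, mul_inv_cancel_right]
      · refine Subtype.ext ?_
        change (g : G) * y * (g : G)⁻¹ = y
        rw [(hmem g.2).2.eq, mul_inv_cancel_right]
    exact hle hz)
  rw [← Subgroup.index_mul_card φ.ker, Subgroup.index_ker, hker,
    Nat.card_congr (subgroupOfEquivOfLe hC0).toEquiv]
  exact Nat.mul_le_mul_right _ hbound

theorem hIndex_le {n : ℕ} (hn : Nat.card s.E = 2 ^ n) {t : G} (ht : orderOf t = 2)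
    (hta : t • a = a) : s.hIndex t ≤ ∏ i ∈ Finset.Ico 1 n, (2 ^ n - 2 ^ i) := by
  obtain ⟨B, -, hBc, hBt⟩ := s.exists_fixing ht hta
  set x : s.E := ⟨t, s.mem_E_of_involution ht hta⟩
  rw [← hBc]
  refine card_fixing_le (M := s.E) (fun z => Subtype.ext z.2.2) hn (n - 1) 1 (zpowers x)
    (by rw [Nat.card_zpowers, ← orderOf_coe, pow_one]; exact ht) (by omega) B fun f hf z hz => ?_
  have hle : zpowers x ≤ f.toMonoidHom.eqLocus (MonoidHom.id s.E) := zpowers_le.2 (hBt f hf)
  exact hle hz

/-- The elements of even order at `a` when the stabiliser of an involution is large. -/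
theorem hIndex_mul_le_even {n : ℕ} (hn : Nat.card s.E = 2 ^ n) {t : G} (ht : orderOf t = 2)
    (hta : t • a = a) :
    Nat.card (stabilizer G a) * s.hIndex t ≤
      4 * (∏ i ∈ Finset.Ico 1 n, (2 ^ n - 2 ^ i)) * evenCount a := by
  classical
  haveI := Fintype.ofFinite G
  set P := ∏ i ∈ Finset.Ico 1 n, (2 ^ n - 2 ^ i) with hP
  set Q := ∏ i ∈ Finset.Ico 2 n, (2 ^ n - 2 ^ i) with hQ
  obtain ⟨hn2, hr⟩ : 2 ≤ n ∧ mult H = 2 ^ n - 1 := by
    obtain ⟨m, hm2, hm⟩ := s.exists_card_E
    have h : n = m := Nat.pow_right_injective le_rfl (hn.symm.trans hm)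
    have hc := s.card_E
    exact ⟨h ▸ hm2, by omega⟩
  have hPQ : P = (mult H - 1) * Q := by
    rw [hP, hQ, Finset.prod_eq_prod_Ico_succ_bot (by omega), pow_one, hr, Nat.sub_sub]
  let T := Finset.univ.filter fun x : G => orderOf x = 2 ∧ x • a = a
  have hT : T.card = mult H := by
    rw [← card_involutions_fixing s.min.se a, Nat.card_eq_fintype_card, Fintype.card_subtype]
  let F := Finset.univ.filter fun g : G => ∃ x ∈ T, Commute g x
  let fix : G → ℕ := fun g => (T.filter fun x => Commute g x).card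
  have hsum1 : ∑ g ∈ F, fix g = Nat.card (stabilizer G a) := by
    rw [s.card_stabilizer ht hta, ← hT, Finset.sum_subset (Finset.subset_univ F) fun g _ hg => by
      refine Finset.card_eq_zero.2 (Finset.filter_eq_empty_iff.2 fun x hx hc => hg ?_)
      exact Finset.mem_filter.2 ⟨Finset.mem_univ _, x, hx, hc⟩]
    simp only [fix, Finset.card_filter]
    rw [Finset.sum_comm, Finset.sum_congr rfl (g := fun _ => Nat.card (centralizer ({t} : Set G))),
      Finset.sum_const, smul_eq_mul]
    intro x hx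
    obtain ⟨-, hx2, hxa⟩ := Finset.mem_filter.1 hx
    have hxt : Nat.card (centralizer ({x} : Set G)) = Nat.card (centralizer ({t} : Set G)) := by
      have h1 := s.card_stabilizer ht hta
      rw [s.card_stabilizer hx2 hxa] at h1
      exact Nat.eq_of_mul_eq_mul_left (by have := one_lt_mult s.min; omega) h1
    rw [← hxt, Nat.card_eq_fintype_card, Fintype.card_subtype, ← Finset.card_filter]
    refine congrArg Finset.card (Finset.filter_congr fun g _ => ?_)
    exact mem_centralizer_singleton_iff.symm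
  have hsum2 : ∑ g ∈ F, fix g ^ 2 ≤ 2 * mult H * P * Nat.card s.C0 := by
    refine (Finset.sum_le_sum_of_subset (Finset.subset_univ F)).trans ?_
    have hfix2 : ∀ g : G, fix g ^ 2 =
        ∑ x ∈ T, ∑ y ∈ T, if Commute g x ∧ Commute g y then 1 else 0 := fun g => by
      simp only [fix, Finset.card_filter, pow_two, Finset.sum_mul_sum]
      exact Finset.sum_congr rfl fun x _ => Finset.sum_congr rfl fun y _ => by
        by_cases h1 : Commute g x <;> by_cases h2 : Commute g y <;> simp [h1, h2]
    simp only [hfix2]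
    rw [Finset.sum_comm]
    refine (Finset.sum_le_card_nsmul T _ (2 * P * Nat.card s.C0) fun x hx => ?_).trans
      (by rw [hT, smul_eq_mul]; exact le_of_eq (by ring))
    rw [Finset.sum_comm, ← Finset.add_sum_erase T _ hx]
    obtain ⟨-, hx2, hxa⟩ := Finset.mem_filter.1 hx
    have hdiag : ∑ g : G, (if Commute g x ∧ Commute g x then 1 else 0) ≤ P * Nat.card s.C0 := by
      rw [← Finset.card_filter]
      have e : (Finset.univ.filter fun g : G => Commute g x ∧ Commute g x).card =
          Nat.card (centralizer ({x} : Set G)) := by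
        rw [Nat.card_eq_fintype_card, Fintype.card_subtype]
        refine congrArg Finset.card (Finset.filter_congr fun g _ => ?_)
        rw [and_self_iff]
        exact mem_centralizer_singleton_iff.symm
      rw [e, s.card_centralizer hx2 hxa]
      exact Nat.mul_le_mul_right _ (s.hIndex_le hn hx2 hxa)
    have hoff : ∀ y ∈ T.erase x,
        ∑ g : G, (if Commute g x ∧ Commute g y then 1 else 0) ≤ Q * Nat.card s.C0 := by
      intro y hy
      obtain ⟨hyx, hyT⟩ := Finset.mem_erase.1 hy
      obtain ⟨-, hy2, hya⟩ := Finset.mem_filter.1 hyT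
      rw [← Finset.card_filter]
      refine le_trans (le_of_eq ?_) (s.card_centralizer_pair_le hn hx2 hxa hy2 hya hyx.symm)
      rw [Nat.card_eq_fintype_card, Fintype.card_subtype]
      refine congrArg Finset.card (Finset.filter_congr fun g _ => ?_)
      rw [mem_centralizer_iff]
      exact ⟨fun h z hz => by
        rcases hz with rfl | rfl
        exacts [h.1.symm.eq, h.2.symm.eq],
        fun h => ⟨(h x (Set.mem_insert _ _)).symm, (h y (Set.mem_insert_of_mem _ rfl)).symm⟩⟩
    have hrest := Finset.sum_le_card_nsmul _ _ _ hoff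
    rw [Finset.card_erase_of_mem hx, hT, smul_eq_mul, ← mul_assoc, ← hPQ] at hrest
    linarith
  have hcs := sq_sum_le_card_mul_sum_sq (s := F) (f := fix)
  rw [hsum1] at hcs
  have hF : F.card ≤ 2 * evenCount a := by
    rw [← Set.ncard_coe_finset]
    refine s.card_le_two_mul_even fun g hg => ?_
    obtain ⟨-, x, hx, hgx⟩ := Finset.mem_filter.1 (Finset.mem_coe.1 hg)
    obtain ⟨-, hx2, hxa⟩ := Finset.mem_filter.1 hx
    exact ⟨x, hx2, hxa, hgx.symm⟩
  have h3 : Nat.card (stabilizer G a) ^ 2 ≤ 2 * evenCount a * (2 * mult H * P * Nat.card s.C0) :=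
    hcs.trans (Nat.mul_le_mul hF hsum2)
  have hGa : Nat.card (stabilizer G a) = mult H * (s.hIndex t * Nat.card s.C0) := by
    rw [s.card_stabilizer ht hta, s.card_centralizer ht hta]
  have hpos : 0 < mult H * Nat.card s.C0 :=
    Nat.mul_pos (by have := one_lt_mult s.min; omega) Nat.card_pos
  refine Nat.le_of_mul_le_mul_right ?_ hpos
  calc Nat.card (stabilizer G a) * s.hIndex t * (mult H * Nat.card s.C0)
      = Nat.card (stabilizer G a) ^ 2 := by rw [hGa]; ring
    _ ≤ 2 * evenCount a * (2 * mult H * P * Nat.card s.C0) := h3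
    _ = _ := by ring

/-- `R S0` is semiregular away from `a`. -/
theorem card_mul_lt_cosets : Nat.card R * Nat.card s.S0 < Nat.card (G ⧸ H) := by
  classical
  haveI := Fact.mk s.prime
  have hcomm : ∀ v ∈ R, ∀ x ∈ s.S0, Commute x v := fun v hv x hx =>
    (mem_centralizer_iff.1 (s.S0_le_centralizer hx) v hv).symm
  let f : R × s.S0 → {c : G ⧸ H // c ≠ a} := fun vx =>
    ⟨((vx.1 : G) * vx.2) • b, fun e => s.hab (by
      have h1 : ((vx.1 : G) * vx.2) • a = a := by
        rw [mul_smul, mem_stabilizer_iff.1 (s.S0_le vx.2.2), mem_stabilizer_iff.1 (s.le vx.1.2)]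
      exact (smul_left_cancel _ (e.trans h1.symm)).symm)⟩
  have hinj : Function.Injective f := by
    rintro ⟨v, x⟩ ⟨w, y⟩ h
    have h1 : ((v : G) * x) • b = ((w : G) * y) • b := congrArg Subtype.val h
    set g : G := ((w⁻¹ * v : R) : G) * ((x * y⁻¹ : s.S0) : G) with hg
    set c := (y : G) • b with hc
    have hgc : g • c = c := by
      have e : g * y = (w : G)⁻¹ * ((v : G) * x) := by
        rw [hg]; push_cast; group
      rw [hc, smul_smul, e, mul_smul, h1, ← mul_smul, inv_mul_cancel_left]
    have hca : c ≠ a := fun e => s.hab (by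
      have h2 : (y : G) • a = a := mem_stabilizer_iff.1 (s.S0_le y.2)
      exact (smul_left_cancel _ (e.trans h2.symm)).symm)
    have hcm : Commute ((w⁻¹ * v : R) : G) ((x * y⁻¹ : s.S0) : G) :=
      (hcomm _ (w⁻¹ * v : R).2 _ (x * y⁻¹ : s.S0).2).symm
    obtain ⟨i, hi⟩ := s.isPGroup_S0 (x * y⁻¹)
    have hgi : g ^ 2 ^ i = ((w⁻¹ * v : R) : G) ^ 2 ^ i := by
      rw [hg, hcm.mul_pow, ← SubmonoidClass.coe_pow (x * y⁻¹), hi, OneMemClass.coe_one, mul_one]
    have hvw : ((w⁻¹ * v : R) : G) ^ 2 ^ i = 1 :=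
      s.toConfig.eq_one_of_fixes (pow_mem (w⁻¹ * v : R).2 _)
        (hgi ▸ pow_smul_eq_of_smul_eq hgc (2 ^ i)) hca
    have hv' : ((w⁻¹ * v : R) : G) = 1 := orderOf_eq_one_iff.1 (Nat.eq_one_of_dvd_coprimes
      ((s.coprime_two_R.coprime_dvd_left (Subgroup.orderOf_dvd_natCard R (w⁻¹ * v : R).2)).pow_right i)
      dvd_rfl (orderOf_dvd_of_pow_eq_one hvw))
    have hx' : ((x * y⁻¹ : s.S0) : G) = 1 := by
      refine s.eq_one_of_S0_fixes (x * y⁻¹ : s.S0).2 hca ?_
      rwa [hg, hv', one_mul] at hgc
    have e1 : v = w := (inv_mul_eq_one.1 (Subtype.ext hv' : w⁻¹ * v = 1)).symm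
    have e2 : x = y := mul_inv_eq_one.1 (Subtype.ext hx' : x * y⁻¹ = 1)
    rw [e1, e2]
  have h1 := Nat.card_le_card_of_injective f hinj
  rw [Nat.card_prod] at h1
  have h2 : Nat.card {c : G ⧸ H // c ≠ a} < Nat.card (G ⧸ H) := by
    haveI := Fintype.ofFinite (G ⧸ H)
    rw [Nat.card_eq_fintype_card, Nat.card_eq_fintype_card]
    exact Fintype.card_subtype_lt (x := a) (by simp)
  omega

end Setting

end CfsgLib.LocalEven.StrongCore
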