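import Cfsg.Agent.Lib.LocalEven.StrongCore.Basic

/-!
# Fixed points of Sylow subgroups of two-point stabilisers

If `q` divides the number of involutions at a coset, a Sylow `q`-subgroup of `G_{a,b}` fixes no
third coset.
-/

set_option autoImplicit false
set_option linter.style.haveILetI false

namespace CfsgLib.LocalEven.StrongCore

open Subgroup MulAction CfsgLib.Involution.Dihedral CfsgLib.Involution
  CfsgLib.LocalEven.BenderTransitive CfsgLib.LocalEven.SwapInjective

universe u

variable {G : Type u} [Group G] [Finite G] {H : Subgroup G} (hH : Cfsg.IsStronglyEmbedded H)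
  (hcomm : ∃ x y : G, orderOf x = 2 ∧ orderOf y = 2 ∧ x ≠ y ∧ Commute x y)

include hH hcomm

/-- Witt's lemma. -/
theorem witt {q : ℕ} [Fact q.Prime] {a b x y : G ⧸ H} (hab : a ≠ b) (hxy : x ≠ y) {P : Subgroup G}
    (hP : P ≤ stab2 a b) (hPc : Nat.card P = q ^ (Nat.card (stab2 a b)).factorization q)
    (hx : P ≤ stabilizer G x) (hy : P ≤ stabilizer G y) :
    ∃ n ∈ normalizer (P : Set G), n • a = x ∧ n • b = y := by
  obtain ⟨g, hga, hgb⟩ := exists_map_pair hH hcomm hab hxy
  have hle : P.map (MulAut.conj g⁻¹).toMonoidHom ≤ stab2 a b := le_inf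
    ((map_conj_le_stabilizer.2 hx).trans_eq (by rw [← hga, inv_smul_smul]))
    ((map_conj_le_stabilizer.2 hy).trans_eq (by rw [← hgb, inv_smul_smul]))
  obtain ⟨T, hT⟩ := Coprime.exists_sylow_map_eq hle (by rw [Coprime.card_conj_map, hPc])
  obtain ⟨S, hS⟩ := Coprime.exists_sylow_map_eq hP hPc
  obtain ⟨d, hd⟩ := MulAction.exists_smul_eq (stab2 a b) S T
  refine ⟨g * d, mem_normalizer_iff_map_conj_eq.2 ?_, ?_, ?_⟩
  · rw [show ((MulAut.conj (g * (d : G)) : MulAut G) : G →* G) =
      (MulAut.conj g).toMonoidHom.comp (MulAut.conj (d : G)).toMonoidHom by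
        ext z; simp [mul_assoc], ← Subgroup.map_map]
    nth_rw 1 [← hS]
    rw [← Coprime.map_smul_sylow, hd, hT, Subgroup.map_map]
    ext z
    simp [mul_assoc]
  · rw [mul_smul, (mem_stab2.1 d.2).1, hga]
  · rw [mul_smul, (mem_stab2.1 d.2).2, hgb]

omit hcomm in
/-- An element interchanging two cosets has an involutory power which does so. -/
theorem exists_swap_pow {a b : G ⧸ H} (hab : a ≠ b) {n : G} (ha : n • a = b) (hb : n • b = a) :
    ∃ k : ℕ, orderOf (n ^ k) = 2 ∧ (n ^ k) • a = b := by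
  have hmem : n * n ∈ stab2 a b :=
    mem_stab2.2 ⟨by rw [mul_smul, ha, hb], by rw [mul_smul, hb, ha]⟩
  obtain ⟨m, hm⟩ : Odd (orderOf (n * n)) :=
    (odd_stab2 hH hab).of_dvd_nat (Subgroup.orderOf_dvd_natCard _ hmem)
  have hsq : n ^ (2 * m + 1) * n ^ (2 * m + 1) = 1 := by
    rw [← hm, ← Commute.mul_pow (Commute.refl n), pow_orderOf_eq_one]
  have hab' : (n ^ (2 * m + 1)) • a = b := by
    rw [pow_succ', pow_mul, pow_two, mul_smul,
      mem_stabilizer_iff.1 ((stabilizer G a).pow_mem hmem.1 m), ha]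
  exact ⟨_, orderOf_eq_two hsq (fun h => hab (by rw [← hab', h, one_smul])), hab'⟩

/-- A Sylow `q`-subgroup of `G_{a,b}` fixing a third coset centralises an involution up to
conjugacy. -/
theorem not_dvd_mult (hR : Rigid H) {q : ℕ} [hq : Fact q.Prime] {a b c : G ⧸ H} (hab : a ≠ b)
    {P : Subgroup G} (hP : P ≤ stab2 a b)
    (hPc : Nat.card P = q ^ (Nat.card (stab2 a b)).factorization q)
    (hc : P ≤ stabilizer G c) (hca : c ≠ a) (hcb : c ≠ b) : ¬ q ∣ mult H := by
  classical
  intro hdvd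
  obtain ⟨hPa, hPb⟩ := le_inf_iff.1 hP
  have hPodd : Odd (Nat.card P) := (odd_stab2 hH hab).of_dvd_nat (Subgroup.card_dvd_of_le hP)
  -- no involution of the normaliser fixes a fixed point of `P`
  have hfix : ∀ t ∈ normalizer (P : Set G), orderOf t = 2 →
      ∀ f : G ⧸ H, P ≤ stabilizer G f → t • f ≠ f := by
    intro t htN ht f hf htf
    obtain ⟨f', hf', hne⟩ : ∃ f', P ≤ stabilizer G f' ∧ f ≠ f' := by
      by_cases e : f = a
      · exact ⟨b, hPb, e ▸ hab⟩
      · exact ⟨a, hPa, e⟩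
    obtain ⟨n, hn, hna, -⟩ := witt hH hcomm hab hne hP hPc hf hf'
    set t' := n⁻¹ * t * n⁻¹⁻¹ with ht'
    have ht2 : orderOf t' = 2 := (orderOf_conj n⁻¹ t).trans ht
    have ht'a : t' • a = a := by
      rw [ht', inv_inv, mul_smul, mul_smul, hna, htf, inv_smul_eq_iff, hna]
    have hPC : P ≤ stab2 a b ⊓ centralizer ({t'} : Set G) := le_inf hP fun g hg =>
      mem_centralizer_singleton_iff.2 (hR.commute hab.symm ht2 ht'a hP
        (mul_mem (mul_mem (inv_mem hn) htN) (inv_mem (inv_mem hn))) hg).eq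
    have h1 : Nat.card ↥(stab2 a b ⊓ centralizer ({t'} : Set G)) * mult H =
        Nat.card (stab2 a b) := by
      rw [← relIndex_fixing hH hab ht2 ht'a, ← inf_relIndex_left,
        Coprime.card_mul_relIndex' inf_le_left]
    have h2 : Nat.card P * q ∣ Nat.card (stab2 a b) :=
      h1 ▸ Nat.mul_dvd_mul (Subgroup.card_dvd_of_le hPC) hdvd
    rw [hPc, ← pow_succ] at h2
    exact Nat.lt_irrefl _ ((hq.out.pow_dvd_iff_le_factorization Nat.card_pos.ne').1 h2)
  obtain ⟨n₀, hn₀, hn₀a, hn₀b⟩ := witt hH hcomm hab hab.symm hP hPc hPb hPa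
  obtain ⟨k, hi, hia⟩ := exists_swap_pow hH hab hn₀a hn₀b
  set i := n₀ ^ k
  have hiN : i ∈ normalizer (P : Set G) := pow_mem hn₀ k
  obtain ⟨γ, hγ⟩ := SE.exists_fixed hH hi
  have hfour : ∀ w ∈ normalizer (P : Set G), orderOf w = 2 → Commute w i → w = i := by
    intro w hwN hw hwi
    by_contra hne
    exact hfix i hiN hi γ
      (le_stabilizer_of_four hH hPodd hi hγ hw hwi.symm (Ne.symm hne) hiN hwN) hγ
  set N := normalizer (P : Set G) with hN
  set i' : N := ⟨i, hiN⟩
  have hiso : Cfsg.IsIsolatedInvolution i' := ⟨(orderOf_mk i hiN).trans hi, fun g hg => by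
    refine Subtype.ext (hfour _ (g * i' * g⁻¹ : N).2 ?_ ?_)
    · rw [orderOf_coe, Dihedral.orderOf_conj]; exact (orderOf_mk i hiN).trans hi
    · have h := hg.map N.subtype
      simp only [Subgroup.coe_subtype] at h
      first
        | exact h
        | exact h.symm⟩
  set O := (Cfsg.oddCore N).map N.subtype with hO
  have hON : O ≤ N := map_subtype_le _
  have hNO : N ≤ normalizer (O : Set G) := Min.normalizer_oddCore_map N
  have hOa : O ≤ stabilizer G a := by
    intro o ho
    by_contra hoa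
    set F := {f : G ⧸ H // P ≤ stabilizer G f}
    have hmove : ∀ g ∈ N, ∀ f : G ⧸ H, P ≤ stabilizer G f → P ≤ stabilizer G (g • f) :=
      fun g hg f hf => smul_of_normalizes hg hf
    have horb : ∀ f : G ⧸ H, f ∈ MulAction.orbit O a ↔ P ≤ stabilizer G f := by
      intro f
      constructor
      · rintro ⟨g, rfl⟩
        exact hmove _ (hON g.2) a hPa
      · intro hf
        by_cases hfa : f = a
        · rw [hfa]; exact MulAction.mem_orbit_self a
        have hoa' : a ≠ o • a := fun e => hoa (mem_stabilizer_iff.2 e.symm)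
        obtain ⟨n₁, hn₁, h1a, h1b⟩ :=
          witt hH hcomm hab hoa' hP hPc hPa (hmove o (hON ho) a hPa)
        obtain ⟨n₂, hn₂, h2a, h2b⟩ := witt hH hcomm hab (Ne.symm hfa) hP hPc hPa hf
        have hm : n₂ * n₁⁻¹ ∈ N := mul_mem hn₂ (inv_mem hn₁)
        refine ⟨⟨(n₂ * n₁⁻¹) * o * (n₂ * n₁⁻¹)⁻¹,
          BenderTransitive.conj_mem_of_mem_normalizer (hNO hm) ho⟩, ?_⟩
        change ((n₂ * n₁⁻¹) * o * (n₂ * n₁⁻¹)⁻¹) • a = f
        simp only [mul_inv_rev, inv_inv, mul_smul]
        rw [show n₂⁻¹ • a = a from by rw [inv_smul_eq_iff, h2a], h1a, ← h1b, inv_smul_smul, h2b]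
    have hodd : Odd (Nat.card F) := by
      have e : Nat.card F = (stabilizer O a).index := by
        rw [Subgroup.index, ← Nat.card_congr (MulAction.orbitEquivQuotientStabilizer O a)]
        exact Nat.card_congr (Equiv.subtypeEquivRight fun f => (horb f).symm)
      rw [e]
      exact (Min.odd_oddCore_map N).of_dvd_nat (Subgroup.index_dvd_card _)
    haveI := Fintype.ofFinite F
    let σ : Equiv.Perm F := (MulAction.toPerm i).subtypePerm (p := fun f => P ≤ stabilizer G f)
      fun f => ⟨fun h => by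
        simpa [smul_smul, mul_self hi] using hmove i hiN _ h, fun h => hmove i hiN f h⟩
    have hσ : σ ^ 2 ^ 1 = 1 := by
      refine Equiv.ext fun f => Subtype.ext ?_
      rw [pow_one, pow_two]
      change i • i • (f : G ⧸ H) = f
      rw [smul_smul, mul_self hi, one_smul]
    haveI : Fact (Nat.Prime 2) := ⟨Nat.prime_two⟩
    obtain ⟨f, hf⟩ := Equiv.Perm.exists_fixed_point_of_prime (p := 2) (n := 1) (by
      rw [Nat.card_eq_fintype_card, Nat.odd_iff] at hodd
      omega) hσ
    exact hfix i hiN hi f.1 f.2 (congrArg Subtype.val hf)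
  have hOb : O ≤ stabilizer G b := fun o ho => hia ▸ smul_of_normalizes (hNO hiN) hOa ho
  obtain ⟨d, hd, hda, hdb⟩ := witt hH hcomm hab (Ne.symm hca) hP hPc hPa hc
  obtain ⟨o, ho, e, he, hde⟩ :=
    ZStar.exists_oddCore_mul_centralizer (ZStar.starCentral N) hiso ⟨d, hd⟩
  have ho' : (o : G) ∈ O := ⟨o, ho, rfl⟩
  have hd' : d = (o : G) * (e : G) := congrArg Subtype.val hde
  have hei : (e : G) * i = i * (e : G) :=
    congrArg Subtype.val (mem_centralizer_singleton_iff.1 he)
  have hea : (e : G) • a = a := by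
    rw [hd', mul_smul, ← eq_inv_smul_iff] at hda
    rw [hda, inv_smul_eq_iff]
    exact (mem_stabilizer_iff.1 (hOa ho')).symm
  refine hcb ?_
  rw [← hdb, hd', mul_smul, ← hia, smul_smul (e : G) i a, hei, mul_smul, hea, hia]
  exact mem_stabilizer_iff.1 (hOb ho')

/-- For a prime dividing `mult H` the Sylow subgroup fixes exactly two cosets. -/
theorem fixed_pair (hR : Rigid H) {q : ℕ} [Fact q.Prime] (hdvd : q ∣ mult H) {a b c : G ⧸ H}
    (hab : a ≠ b) {P : Subgroup G} (hP : P ≤ stab2 a b)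
    (hPc : Nat.card P = q ^ (Nat.card (stab2 a b)).factorization q) (hc : P ≤ stabilizer G c) :
    c = a ∨ c = b := by
  by_contra hne
  push Not at hne
  exact not_dvd_mult hH hcomm hR hab hP hPc hc hne.1 hne.2 hdvd

end CfsgLib.LocalEven.StrongCore
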